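import Cfsg.Prelude.Def_GeometricClasses
import Cfsg.Agent.Lib.Classical.FormFrobenius
import Cfsg.Agent.Lib.Classical.FormOtherForms

/-!
# Perfect irreducible subgroups of the three-dimensional linear group: vocabulary

`Ctx P`: the perfect group `P` acts absolutely irreducibly on `F³` and is simple modulo scalars.
`Twist P τ`: `P` is equivalent to its image under the field automorphism `τ`.
`Form P τ`: `P` fixes a nonzero `τ`-sesquilinear form given by its matrix.
-/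

set_option autoImplicit false
set_option linter.unusedSectionVars false
set_option linter.style.haveILetI false

namespace Cfsg.Agent.PThree

open Matrix Cfsg Cfsg.Geo
open scoped MatrixGroups commutatorElement

variable {F : Type*} [Field F]

/-- The standing hypotheses. -/
structure Ctx (P : Subgroup (GL (Fin 3) F)) : Prop where
  le_sl : P ≤ specialLinear (Fin 3) F
  perfect : ⁅P, P⁆ = P
  simple : IsSimpleGroup (P ⧸ (scalars (Fin 3) F).subgroupOf P)
  nonabelian : ¬ IsMulCommutative (P ⧸ (scalars (Fin 3) F).subgroupOf P)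
  absIrred : ActsAbsolutelyIrreducibly (matrixSet P)

theorem Ctx.of_core {H P : Subgroup (GL (Fin 3) F)} (h : IsResidualCore H P) : Ctx P where
  le_sl := by
    intro x hx
    rw [← h.perfect] at hx
    refine (Subgroup.commutator_le.2 fun a _ b _ => ?_) hx
    show Matrix.GeneralLinearGroup.det ⁅a, b⁆ = 1
    rw [map_commutatorElement, commutatorElement_eq_one_iff_mul_comm]
    exact mul_comm _ _
  perfect := h.perfect
  simple := h.simple
  nonabelian := h.nonabelian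
  absIrred := h.absIrred

/-- `P` is equivalent to its conjugate under `τ`. -/
def Twist (P : Subgroup (GL (Fin 3) F)) (τ : F ≃+* F) : Prop :=
  ∃ C : Matrix (Fin 3) (Fin 3) F, IsUnit C ∧
    ∀ x ∈ P, C * (x : Matrix (Fin 3) (Fin 3) F).map τ = (x : Matrix (Fin 3) (Fin 3) F) * C

/-- `P` fixes a nonzero `τ`-sesquilinear form. -/
def Form (P : Subgroup (GL (Fin 3) F)) (τ : F ≃+* F) : Prop :=
  ∃ M : Matrix (Fin 3) (Fin 3) F, M ≠ 0 ∧
    ∀ x ∈ P, (x : Matrix (Fin 3) (Fin 3) F)ᵀ * M * (x : Matrix (Fin 3) (Fin 3) F).map τ = M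

/-- A transvection. -/
def IsTransvection (x : GL (Fin 3) F) : Prop :=
  ∃ v φ : Fin 3 → F, v ≠ 0 ∧ φ ≠ 0 ∧ φ ⬝ᵥ v = 0 ∧
    (x : Matrix (Fin 3) (Fin 3) F) = 1 + vecMulVec v φ

variable [Fintype F] {P : Subgroup (GL (Fin 3) F)}

theorem map_inv_map' (τ : F ≃+* F) (w : Fin 3 → F) : τ ∘ (τ.symm ∘ w) = w := by
  funext k; simp

theorem map_mulVec' (τ : F ≃+* F) (A : Matrix (Fin 3) (Fin 3) F) (w : Fin 3 → F) :
    A.map τ *ᵥ (τ ∘ w) = τ ∘ (A *ᵥ w) := by
  funext k
  simp [Matrix.mulVec, dotProduct, map_sum, map_mul]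

theorem Ctx.form_isUnit (h : Ctx P) {τ : F ≃+* F} {M : Matrix (Fin 3) (Fin 3) F} (hM : M ≠ 0)
    (hfix : ∀ x ∈ P, (x : Matrix (Fin 3) (Fin 3) F)ᵀ * M * (x : Matrix (Fin 3) (Fin 3) F).map τ = M) :
    IsUnit M := by
  classical
  let W : Submodule F (Fin 3 → F) :=
    { carrier := {w | M *ᵥ (τ ∘ w) = 0}
      zero_mem' := by
        show M *ᵥ _ = 0
        rw [show (τ ∘ (0 : Fin 3 → F)) = 0 from funext fun _ => map_zero τ, mulVec_zero]
      add_mem' := fun {a b} ha hb => by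
        show M *ᵥ _ = 0
        rw [show (τ ∘ (a + b)) = τ ∘ a + τ ∘ b from funext fun _ => map_add τ _ _, mulVec_add,
          show M *ᵥ (τ ∘ a) = 0 from ha, show M *ᵥ (τ ∘ b) = 0 from hb, add_zero]
      smul_mem' := fun c a ha => by
        show M *ᵥ _ = 0
        rw [show (τ ∘ (c • a)) = τ c • (τ ∘ a) from funext fun _ => map_mul τ _ _, mulVec_smul,
          show M *ᵥ (τ ∘ a) = 0 from ha, smul_zero] }
  have hW : W = ⊥ ∨ W = ⊤ := by
    refine h.absIrred.1 W ?_
    rintro _ ⟨x, hx, rfl⟩ _ ⟨w, hw, rfl⟩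
    rw [Matrix.toLin'_apply]
    show M *ᵥ (τ ∘ ((x : Matrix (Fin 3) (Fin 3) F) *ᵥ w)) = 0
    set X := (x : Matrix (Fin 3) (Fin 3) F)
    have hXt : IsUnit Xᵀ := (Matrix.isUnit_iff_isUnit_det _).mpr (by
      rw [Matrix.det_transpose]; exact (Matrix.isUnit_iff_isUnit_det _).mp x.isUnit)
    refine Matrix.mulVec_injective_iff_isUnit.2 hXt ?_
    rw [mulVec_zero, ← map_mulVec', mulVec_mulVec, mulVec_mulVec, hfix x hx]
    exact hw
  rcases hW with hW | hW
  · refine Matrix.mulVec_injective_iff_isUnit.1 fun a b hab => ?_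
    have hm : τ.symm ∘ (a - b) ∈ W := by
      show M *ᵥ (τ ∘ (τ.symm ∘ (a - b))) = 0
      rw [map_inv_map', mulVec_sub, sub_eq_zero]
      exact hab
    rw [hW, Submodule.mem_bot] at hm
    refine sub_eq_zero.1 ?_
    rw [← map_inv_map' τ (a - b), hm]
    exact funext fun _ => map_zero τ
  · refine absurd (Matrix.ext_of_mulVec_single fun k => ?_) hM
    have hm : τ.symm ∘ (Pi.single k (1 : F)) ∈ W := hW ▸ trivial
    have hm' : M *ᵥ (τ ∘ (τ.symm ∘ (Pi.single k (1 : F)))) = 0 := hm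
    rw [map_inv_map'] at hm'
    rw [hm', zero_mulVec]

theorem Ctx.form_unique (h : Ctx P) {τ : F ≃+* F} {M M' : Matrix (Fin 3) (Fin 3) F} (hM : M ≠ 0)
    (hfix : ∀ x ∈ P, (x : Matrix (Fin 3) (Fin 3) F)ᵀ * M * (x : Matrix (Fin 3) (Fin 3) F).map τ = M)
    (hfix' : ∀ x ∈ P, (x : Matrix (Fin 3) (Fin 3) F)ᵀ * M' * (x : Matrix (Fin 3) (Fin 3) F).map τ = M') :
    ∃ c : F, M' = c • M := by
  obtain ⟨u, hu⟩ := h.form_isUnit hM hfix
  obtain ⟨c, hc⟩ := h.absIrred.2 (((u⁻¹ : (Matrix (Fin 3) (Fin 3) F)ˣ) : Matrix (Fin 3) (Fin 3) F)ᵀ * M'ᵀ) (by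
    rintro _ ⟨x, hx, rfl⟩
    set X := (x : Matrix (Fin 3) (Fin 3) F)
    have hXt : IsUnit (X.map τ)ᵀ := (Matrix.isUnit_iff_isUnit_det _).mpr (by
      rw [Matrix.det_transpose]
      exact (Matrix.isUnit_iff_isUnit_det _).mp (x.isUnit.map (RingHom.mapMatrix (τ : F →+* F))))
    have e1 : (X.map τ)ᵀ * (u : Matrix (Fin 3) (Fin 3) F)ᵀ * X = (u : Matrix (Fin 3) (Fin 3) F)ᵀ := by
      rw [hu]
      conv_rhs => rw [← hfix x hx]
      simp only [Matrix.transpose_mul, Matrix.transpose_transpose, Matrix.mul_assoc]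
      rfl
    have e2 : (X.map τ)ᵀ * M'ᵀ * X = M'ᵀ := by
      conv_rhs => rw [← hfix' x hx]
      simp only [Matrix.transpose_mul, Matrix.transpose_transpose, Matrix.mul_assoc]
      rfl
    set U := (u : Matrix (Fin 3) (Fin 3) F)ᵀ
    set C := ((u⁻¹ : (Matrix (Fin 3) (Fin 3) F)ˣ) : Matrix (Fin 3) (Fin 3) F)ᵀ * M'ᵀ
    have hUC : U * C = M'ᵀ := by
      rw [← Matrix.mul_assoc, ← Matrix.transpose_mul, Units.inv_mul, Matrix.transpose_one,
        Matrix.one_mul]
    have hUu : IsUnit U := (Matrix.isUnit_iff_isUnit_det _).mpr (by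
      rw [Matrix.det_transpose]; exact (Matrix.isUnit_iff_isUnit_det _).mp u.isUnit)
    refine hUu.mul_left_cancel (hXt.mul_left_cancel ?_)
    show (X.map τ)ᵀ * (U * (C * X)) = (X.map τ)ᵀ * (U * (X * C))
    rw [← Matrix.mul_assoc U C X, hUC, ← Matrix.mul_assoc _ M'ᵀ X, e2, ← Matrix.mul_assoc U X C,
      ← Matrix.mul_assoc _ (U * X) C, ← Matrix.mul_assoc _ U X, e1, hUC])
  refine ⟨c, Matrix.transpose_injective ?_⟩
  rw [Matrix.transpose_smul, ← hu]
  calc M'ᵀ = (u : Matrix (Fin 3) (Fin 3) F)ᵀ *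
      (((u⁻¹ : (Matrix (Fin 3) (Fin 3) F)ˣ) : Matrix (Fin 3) (Fin 3) F)ᵀ * M'ᵀ) := by
        rw [← Matrix.mul_assoc, ← Matrix.transpose_mul, Units.inv_mul, Matrix.transpose_one,
          Matrix.one_mul]
    _ = _ := by rw [hc, Matrix.mul_smul, Matrix.mul_one]

/-- A twist by a nontrivial automorphism gives a realisation over a proper subfield. -/
theorem Ctx.realisable_of_twist (h : Ctx P) {τ : F ≃+* F} (hτ : τ ≠ RingEquiv.refl F)
    (ht : Twist P τ) : ∃ F₀ : Subfield F, F₀ ≠ ⊤ ∧ RealisableOver F₀ (matrixSet P) := by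
  obtain ⟨C, hC, hCx⟩ := ht
  refine ⟨Cfsg.Agent.Classical.fixedField τ, fun e => hτ (RingEquiv.ext fun z => ?_),
    Cfsg.Agent.Classical.realisable_of_cyclic_intertwiner h.absIrred hC hCx⟩
  have : z ∈ Cfsg.Agent.Classical.fixedField τ := e ▸ Subfield.mem_top z
  exact this

/-- An invariant bilinear form gives, in odd characteristic, an invariant quadratic form; in
characteristic two it cannot exist. -/
theorem Ctx.quadratic_of_form (h : Ctx P) (hf : Form P (RingEquiv.refl F)) :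
    (2 : F) ≠ 0 ∧ ∃ Q : (Fin 3 → F) → F,
      IsNondegenerateQuadraticForm Q ∧ FixesQuadForm (matrixSet P) Q := by
  classical
  obtain ⟨M, hM, hfix⟩ := hf
  have hfix1 : ∀ x ∈ P, (x : Matrix (Fin 3) (Fin 3) F)ᵀ * M * (x : Matrix (Fin 3) (Fin 3) F) = M :=
    fun x hx => by simpa using hfix x hx
  have hMu := h.form_isUnit hM hfix
  have hdet : M.det ≠ 0 := ((Matrix.isUnit_iff_isUnit_det M).1 hMu).ne_zero
  obtain ⟨c, hc⟩ := h.form_unique (M' := Mᵀ) hM hfix fun x hx => by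
    conv_rhs => rw [← hfix1 x hx]
    simp [Matrix.transpose_mul, Matrix.mul_assoc]
  have hcc : c * c = 1 := by
    have e : M = (c * c) • M := by
      conv_lhs => rw [← Matrix.transpose_transpose M, hc, Matrix.transpose_smul, hc, smul_smul]
    have e' : (1 : F) • M = (c * c) • M := by rw [one_smul]; exact e
    exact (smul_left_injective F hM e').symm
  have hc1 : c = 1 := by
    have e := congrArg Matrix.det hc
    rw [Matrix.det_transpose, Matrix.det_smul, Fintype.card_fin] at e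
    have e' : c ^ 3 = 1 := mul_right_cancel₀ hdet (by rw [one_mul]; exact e.symm)
    calc c = c * (c * c) := by rw [hcc, mul_one]
      _ = c ^ 3 := by ring
      _ = 1 := e'
  rw [hc1, one_smul] at hc
  have h2 : (2 : F) ≠ 0 := by
    intro h2
    haveI : CharP F 2 := CharTwo.of_one_ne_zero_of_two_eq_zero one_ne_zero h2
    haveI : Fact (Nat.Prime 2) := ⟨Nat.prime_two⟩
    let s : F ≃+* F := frobeniusEquiv F 2
    -- the values `x ⬝ M x` are the squares of a linear functional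
    let d : Fin 3 → F := fun k => s.symm (M k k)
    have hval : ∀ u : Fin 3 → F, u ⬝ᵥ M *ᵥ u = (d ⬝ᵥ u) ^ 2 := by
      intro u
      have hd : ∀ k, d k ^ 2 = M k k := fun k => s.apply_symm_apply (M k k)
      have hs : ∀ a b, M a b = M b a := fun a b => congrFun (congrFun hc b) a
      simp only [dotProduct, Matrix.mulVec, Fin.sum_univ_three]
      rw [CharTwo.add_sq, CharTwo.add_sq, mul_pow, mul_pow, mul_pow, hd, hd, hd, hs 1 0, hs 2 0, hs 2 1]
      linear_combination (u 0 * M 0 1 * u 1 + u 0 * M 0 2 * u 2 + u 1 * M 1 2 * u 2) * h2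
    let W : Submodule F (Fin 3 → F) :=
      { carrier := {u | d ⬝ᵥ u = 0}
        zero_mem' := dotProduct_zero _
        add_mem' := fun {a b} ha hb => by
          show d ⬝ᵥ (a + b) = 0
          rw [dotProduct_add, show d ⬝ᵥ a = 0 from ha, show d ⬝ᵥ b = 0 from hb, add_zero]
        smul_mem' := fun k a ha => by
          show d ⬝ᵥ (k • a) = 0
          rw [dotProduct_smul, show d ⬝ᵥ a = 0 from ha, smul_zero] }
    have hW : W = ⊥ ∨ W = ⊤ := by
      refine h.absIrred.1 W ?_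
      rintro _ ⟨x, hx, rfl⟩ _ ⟨u, hu, rfl⟩
      rw [Matrix.toLin'_apply]
      show d ⬝ᵥ _ = 0
      refine pow_eq_zero_iff (n := 2) two_ne_zero |>.1 ?_
      set X := (x : Matrix (Fin 3) (Fin 3) F)
      rw [← hval, show (X *ᵥ u) ⬝ᵥ M *ᵥ (X *ᵥ u) = u ⬝ᵥ M *ᵥ u by
        conv_rhs => rw [← hfix1 x hx]
        rw [← Matrix.mulVec_mulVec, ← Matrix.mulVec_mulVec, Matrix.dotProduct_mulVec u Xᵀ,
          Matrix.vecMul_transpose], hval, show d ⬝ᵥ u = 0 from hu, zero_pow two_ne_zero]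
    rcases hW with hW | hW
    · obtain ⟨u, hu0, hu⟩ : ∃ u : Fin 3 → F, u ≠ 0 ∧ d ⬝ᵥ u = 0 := by
        by_cases hd0 : d 0 = 0
        · exact ⟨Pi.single 0 1, by simp, by simp [hd0]⟩
        · refine ⟨Pi.single 0 (d 1) + Pi.single 1 (d 0), fun e => hd0 ?_, ?_⟩
          · simpa using congrFun e 1
          · rw [dotProduct_add, dotProduct_single, dotProduct_single, mul_comm (d 1)]
            exact CharTwo.add_self_eq_zero _
      have : u ∈ W := hu
      rw [hW, Submodule.mem_bot] at this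
      exact hu0 this
    · have hdd : ∀ k, d k = 0 := fun k => by
        have : Pi.single k (1 : F) ∈ W := hW ▸ trivial
        simpa [W] using this
      have hMkk : ∀ k, M k k = 0 := fun k => by
        have e : s (d k) = s 0 := by rw [hdd k]
        rwa [s.apply_symm_apply, map_zero] at e
      refine hdet ?_
      have hs : ∀ a b, M a b = M b a := fun a b => congrFun (congrFun hc b) a
      rw [Matrix.det_fin_three, hMkk 0, hMkk 1, hMkk 2, hs 1 0, hs 2 0, hs 2 1]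
      linear_combination (M 0 1 * M 0 2 * M 1 2) * h2
  refine ⟨h2, fun u => u ⬝ᵥ M *ᵥ u, ⟨fun k v => ?_, ?_, ?_⟩, ?_⟩
  · rw [mulVec_smul, dotProduct_smul, smul_dotProduct, smul_eq_mul, smul_eq_mul]; ring
  all_goals have hsymm : ∀ u v : Fin 3 → F, v ⬝ᵥ M *ᵥ u = u ⬝ᵥ M *ᵥ v := fun u v => by
              rw [Matrix.dotProduct_mulVec, ← Matrix.mulVec_transpose, hc, dotProduct_comm]
  all_goals have hpol : QuadraticMap.polar (fun u : Fin 3 → F => u ⬝ᵥ M *ᵥ u) =
                fun u v => 2 * (u ⬝ᵥ M *ᵥ v) := by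
              funext u v
              simp only [QuadraticMap.polar, mulVec_add, dotProduct_add, add_dotProduct]
              linear_combination hsymm u v
  · rw [hpol]
    constructor
    · intro a b v; simp only [add_dotProduct]; ring
    · intro k a v; simp only [smul_dotProduct, smul_eq_mul]; ring
    · intro v a b; simp only [mulVec_add, dotProduct_add]; ring
    · intro k v a; simp only [mulVec_smul, dotProduct_smul, smul_eq_mul]; ring
  · rw [hpol]
    intro v hv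
    have hMv : M *ᵥ v ≠ 0 := fun e => hv (Matrix.mulVec_injective_iff_isUnit.2 hMu (by rw [e, mulVec_zero]))
    obtain ⟨k, hk⟩ : ∃ k, (M *ᵥ v) k ≠ 0 := Function.ne_iff.1 hMv
    refine ⟨⟨Pi.single k 1, ?_⟩, Pi.single k 1, ?_⟩
    · show 2 * (Pi.single k 1 ⬝ᵥ M *ᵥ v) ≠ 0
      rw [single_dotProduct, one_mul]
      exact mul_ne_zero h2 hk
    · show 2 * (v ⬝ᵥ M *ᵥ Pi.single k 1) ≠ 0
      rw [hsymm, single_dotProduct, one_mul]
      exact mul_ne_zero h2 hk
  · rintro _ ⟨x, hx, rfl⟩ u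
    set X := (x : Matrix (Fin 3) (Fin 3) F)
    show (X *ᵥ u) ⬝ᵥ M *ᵥ (X *ᵥ u) = u ⬝ᵥ M *ᵥ u
    conv_rhs => rw [← hfix1 x hx]
    rw [← Matrix.mulVec_mulVec, ← Matrix.mulVec_mulVec, Matrix.dotProduct_mulVec u Xᵀ,
      Matrix.vecMul_transpose]

/-- An invariant sesquilinear form for an involutive automorphism gives a unitary form. -/
theorem Ctx.unitary_of_form (h : Ctx P) {σ : F ≃+* F} (hinv : ∀ a, σ (σ a) = a)
    (hne : σ ≠ RingEquiv.refl F) (hf : Form P σ) :
    ∃ f : (Fin 3 → F) → (Fin 3 → F) → F, IsUnitaryForm σ f ∧ FixesForm (matrixSet P) f := by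
  classical
  obtain ⟨M₀, hM, hfix⟩ := hf
  have hσσ : ∀ A : Matrix (Fin 3) (Fin 3) F, (A.map σ).map σ = A := fun A => by ext; simp [hinv]
  have hstar : ∀ M' : Matrix (Fin 3) (Fin 3) F,
      (∀ x ∈ P, (x : Matrix (Fin 3) (Fin 3) F)ᵀ * M' * (x : Matrix (Fin 3) (Fin 3) F).map σ = M') →
      ∀ x ∈ P, (x : Matrix (Fin 3) (Fin 3) F)ᵀ * (M'.map σ)ᵀ * (x : Matrix (Fin 3) (Fin 3) F).map σ
        = (M'.map σ)ᵀ := by
    intro M' hM' x hx
    have h1 := congrArg (fun A : Matrix (Fin 3) (Fin 3) F => (A.map σ)ᵀ) (hM' x hx)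
    simp only [Matrix.map_mul, Matrix.transpose_mul, hσσ, Matrix.transpose_map,
      Matrix.transpose_transpose] at h1
    rwa [Matrix.mul_assoc]
  obtain ⟨c, hc⟩ := h.form_unique (M' := (M₀.map σ)ᵀ) hM hfix (hstar M₀ hfix)
  -- a scalar multiple is hermitian
  obtain ⟨a, ha0, ha⟩ : ∃ a : F, a ≠ 0 ∧ ((a • M₀).map σ)ᵀ = a • M₀ := by
    have hmap : ∀ a : F, ((a • M₀).map σ)ᵀ = (σ a * c) • M₀ := fun a => by
      rw [show (a • M₀).map σ = σ a • M₀.map σ by ext; simp, Matrix.transpose_smul, hc, smul_smul]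
    have hcc : σ c * c = 1 := by
      have e := congrArg (fun A : Matrix (Fin 3) (Fin 3) F => (A.map σ)ᵀ) hc
      simp only [hmap, Matrix.transpose_map, Matrix.transpose_transpose, hσσ] at e
      exact (smul_left_injective F hM (show (1 : F) • M₀ = (σ c * c) • M₀ by rwa [one_smul])).symm
    obtain ⟨z, hz⟩ : ∃ z, z + σ z * c ≠ 0 := by
      by_contra hno
      push Not at hno
      have h1 := hno 1
      rw [map_one, one_mul] at h1
      refine hne (RingEquiv.ext fun z => ?_)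
      have h2 := hno z
      rw [show c = -1 by linear_combination h1] at h2
      show σ z = z
      linear_combination -h2
    refine ⟨z + σ z * c, hz, ?_⟩
    rw [hmap]
    congr 1
    rw [map_add, map_mul, hinv]
    linear_combination z * hcc
  set M := a • M₀
  have hMfix : ∀ x ∈ P, (x : Matrix (Fin 3) (Fin 3) F)ᵀ * M * (x : Matrix (Fin 3) (Fin 3) F).map σ = M :=
    fun x hx => by rw [Matrix.mul_smul, Matrix.smul_mul, hfix x hx]
  have hMu := h.form_isUnit (smul_ne_zero ha0 hM) hMfix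
  let f : (Fin 3 → F) → (Fin 3 → F) → F := fun u v => u ⬝ᵥ M *ᵥ (σ ∘ v)
  have hherm : ∀ u v : Fin 3 → F, f u v = σ (f v u) := by
    intro u v
    show u ⬝ᵥ M *ᵥ (σ ∘ v) = σ (v ⬝ᵥ M *ᵥ (σ ∘ u))
    have hMσ : M.map σ = Mᵀ := by rw [← Matrix.transpose_transpose (M.map σ), ha]
    rw [← RingEquiv.coe_toRingHom, RingHom.map_dotProduct, RingEquiv.coe_toRingHom, ← map_mulVec',
      show σ ∘ (σ ∘ u) = u from funext fun k => hinv _, hMσ, Matrix.mulVec_transpose,
      dotProduct_comm (σ ∘ v), ← Matrix.dotProduct_mulVec]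
  refine ⟨f, ⟨hne, hinv, fun x y v => add_dotProduct _ _ _, fun k x v => smul_dotProduct _ _ _,
    hherm, fun v hv => ?_⟩, ?_⟩
  · have hMv : M *ᵥ (σ ∘ v) ≠ 0 := fun e => hv (by
      have e1 := Matrix.mulVec_injective_iff_isUnit.2 hMu (show M *ᵥ (σ ∘ v) = M *ᵥ 0 by rw [e, mulVec_zero])
      funext k
      exact σ.map_eq_zero_iff.1 (congrFun e1 k))
    obtain ⟨k, hk⟩ := Function.ne_iff.1 hMv
    have hk1 : f (Pi.single k 1) v ≠ 0 := by
      show Pi.single k 1 ⬝ᵥ M *ᵥ (σ ∘ v) ≠ 0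
      rwa [single_dotProduct, one_mul]
    refine ⟨⟨Pi.single k 1, hk1⟩, Pi.single k 1, fun e => hk1 ?_⟩
    rw [hherm, e, map_zero]
  · rintro _ ⟨x, hx, rfl⟩ u v
    set X := (x : Matrix (Fin 3) (Fin 3) F)
    show (X *ᵥ u) ⬝ᵥ M *ᵥ (σ ∘ (X *ᵥ v)) = u ⬝ᵥ M *ᵥ (σ ∘ v)
    conv_rhs => rw [← hMfix x hx]
    rw [← map_mulVec', Matrix.mulVec_mulVec, ← Matrix.vecMul_transpose,
      ← Matrix.dotProduct_mulVec, Matrix.mulVec_mulVec, Matrix.mul_assoc]

end Cfsg.Agent.PThree
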