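import Cfsg.Agent.Lib.Classical.PThree.CoprimeModel
import Cfsg.Agent.Lib.Classical.Dickson.Tools
import Cfsg.Agent.Lib.Lie.OrderSixty
import Mathlib.GroupTheory.SpecificGroups.Alternating
import Mathlib.FieldTheory.IsAlgClosed.AlgebraicClosure

/-!
# Groups of degree three of order prime to the characteristic

A perfect, absolutely irreducible subgroup of the three-dimensional linear group, simple modulo
scalars and of order prime to the characteristic, is `A₅`, `A₆` or `PSL(2, 7)` modulo scalars.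
-/

set_option autoImplicit false
set_option linter.style.haveILetI false
set_option linter.unusedSectionVars false

open Module Matrix Cfsg Cfsg.Geo Cfsg.Agent
open scoped MatrixGroups commutatorElement

namespace Cfsg.Agent.PThree

universe u v

/-- What is used of the theorem on groups whose order is divisible by the characteristic five. -/
def WildFive : Prop :=
  ∀ (K : Type) [Field K] [Fintype K] [CharP K 5] (P : Subgroup (GL (Fin 3) K)), Ctx P →
    5 ∣ Nat.card (P ⧸ (scalars (Fin 3) K).subgroupOf P) → (∀ x ∈ P, ¬ IsTransvection x) →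
    (∃ τ : K ≃+* K, τ ≠ RingEquiv.refl K ∧ Twist P τ) ∨ Form P (RingEquiv.refl K) ∨
      (Fintype.card K = 25 ∧
        ∃ s : K ≃+* K, s ≠ RingEquiv.refl K ∧ (∀ a, s (s a) = a) ∧ Form P s)

/-- What is used of the theorem on the unitary groups over the field of twenty-five elements. -/
def UnitaryFive : Prop :=
  ∀ (K : Type) [Field K] [Fintype K] [CharP K 5] (P : Subgroup (GL (Fin 3) K)), Ctx P →
    Fintype.card K = 25 → 5 ∣ Nat.card (P ⧸ (scalars (Fin 3) K).subgroupOf P) →
    (∀ x ∈ P, ¬ IsTransvection x) → ∀ s : K ≃+* K, s ≠ RingEquiv.refl K → (∀ a, s (s a) = a) →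
    Form P s →
    Nonempty (P ⧸ (scalars (Fin 3) K).subgroupOf P ≃* alternatingGroup (Fin 5)) ∨
    Nonempty (P ⧸ (scalars (Fin 3) K).subgroupOf P ≃* alternatingGroup (Fin 6)) ∨
    Nonempty (P ⧸ (scalars (Fin 3) K).subgroupOf P ≃* alternatingGroup (Fin 7))

variable {G : Type u} [Group G] [Finite G]

theorem Cover3.card_quot_five (h : Cover3 G) (h5 : 5 ∣ Nat.card G) :
    5 ∣ Nat.card (G ⧸ Subgroup.center G) := by
  haveI : Fact (Nat.Prime 5) := ⟨by norm_num⟩
  rw [Subgroup.card_eq_card_quotient_mul_card_subgroup (Subgroup.center G)] at h5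
  refine ((Nat.Prime.dvd_mul Fact.out).1 h5).resolve_right fun hd => ?_
  obtain ⟨⟨z, hz⟩, hzo⟩ := exists_prime_orderOf_dvd_card' 5 hd
  rw [Subgroup.orderOf_mk] at hzo
  have := orderOf_dvd_of_pow_eq_one (h.exp3 z hz)
  rw [hzo] at this
  norm_num at this

/-- The powers of an element of order five are not all conjugate. -/
theorem Cover3.not_powConj (h : Cover3 G) (ρ : Representation ℂ G (Fin 3 → ℂ))
    (hρ : Function.Injective ρ) (h5 : 5 ∣ Nat.card G) : ¬ Char.HalfDegree.PowConj 5 G := by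
  intro hpc
  letI := Fintype.ofFinite G
  haveI : Fact (Nat.Prime 5) := ⟨by norm_num⟩
  have hp : Nat.Prime 5 := Fact.out
  obtain ⟨z, hz⟩ := exists_prime_orderOf_dvd_card' 5 h5
  have hzp : z ^ 5 = 1 := hz ▸ pow_orderOf_eq_one z
  obtain ⟨c, hc⟩ : ∃ c, c = ρ.character z := ⟨_, rfl⟩
  have hchar : ∀ j ∈ Finset.range 5, j ≠ 0 → LinearMap.trace ℂ _ (ρ z ^ j) = c := by
    intro j hj hj0
    rw [Finset.mem_range] at hj
    obtain ⟨g, hg⟩ := isConj_iff.mp (hpc z hz j fun hd => by
      have := Nat.le_of_dvd (Nat.pos_of_ne_zero hj0) hd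
      omega)
    rw [← map_pow, ← hg, hc]
    exact Representation.char_conj ρ z g
  obtain ⟨ζ, hζ⟩ : ∃ ζ : ℂ, IsPrimitiveRoot ζ 5 :=
    ⟨_, Complex.isPrimitiveRoot_exp 5 (by norm_num)⟩
  have hsum : ∀ x : ℂ, x ^ 5 = 1 → ∃ m : ℕ,
      (3 : ℂ) + ((∑ j ∈ Finset.range 5, x ^ j) - 1) * c = (5 : ℂ) * m := by
    intro x hx
    obtain ⟨m, hm⟩ := Char.HalfDegree.trace_powers hp (x • ρ z)
      (by rw [smul_pow, hx, ← map_pow, hzp, map_one, one_smul])
    refine ⟨m, ?_⟩
    rw [show (5 : ℂ) = ((5 : ℕ) : ℂ) by norm_num, ← hm]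
    rw [map_sum, Finset.range_eq_Ico, Finset.sum_eq_sum_Ico_succ_bot hp.pos,
      Finset.sum_eq_sum_Ico_succ_bot hp.pos, pow_zero, pow_zero, add_sub_cancel_left,
      LinearMap.trace_one, Module.finrank_fin_fun, Finset.sum_mul]
    push_cast
    congr 1
    refine Finset.sum_congr rfl fun j hj => ?_
    rw [Finset.mem_Ico] at hj
    rw [smul_pow, map_smul, hchar j (Finset.mem_range.mpr hj.2) (by omega), smul_eq_mul]
  obtain ⟨m0, hm0⟩ := hsum 1 (one_pow 5)
  obtain ⟨m1, hm1⟩ := hsum ζ hζ.pow_eq_one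
  rw [hζ.geom_sum_eq_zero hp.one_lt] at hm1
  simp only [one_pow, Finset.sum_const, Finset.card_range, nsmul_eq_mul, mul_one] at hm0
  have hm10 : m1 ≠ 0 := by
    rintro rfl
    have h1 : z = 1 := Char.SmallSylow.eq_one_of_char ρ hρ (g := z) (by
      rw [← hc]
      push_cast at hm1 ⊢
      linear_combination -hm1)
    rw [h1, orderOf_one] at hz
    norm_num at hz
  have heq : ((15 : ℕ) : ℂ) = ((5 * (m0 + 4 * m1) : ℕ) : ℂ) := by
    push_cast at hm0 ⊢
    linear_combination hm0 + 4 * hm1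
  have h1 := Nat.cast_injective heq
  omega

/-- A group preserving a symmetric bilinear form in characteristic five. -/
theorem Cover3.alt_five_of_form (h : Cover3 G) (ρ : Representation ℂ G (Fin 3 → ℂ))
    (hρ : Function.Injective ρ) (h5 : 5 ∣ Nat.card G) {K : Type v} [Field K] [Fintype K]
    [CharP K 5] (f : G →* GL (Fin 3) K) (hf : Function.Injective f) (hctx : Ctx f.range)
    (hform : Form f.range (RingEquiv.refl K)) :
    Nonempty ((G ⧸ Subgroup.center G) ≃* alternatingGroup (Fin 5)) := by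
  classical
  haveI : Fact (Nat.Prime 5) := ⟨by norm_num⟩
  have hsq : ¬ 5 ^ 2 ∣ Nat.card G := h.sq_not_dvd ρ hρ le_rfl
  obtain ⟨M, hM, hfix⟩ := hform
  have hfix1 : ∀ x ∈ f.range, (x : Matrix (Fin 3) (Fin 3) K)ᵀ * M * (x : Matrix (Fin 3) (Fin 3) K) = M :=
    fun x hx => by simpa using hfix x hx
  have hMu := hctx.form_isUnit hM hfix
  have hdet : M.det ≠ 0 := ((Matrix.isUnit_iff_isUnit_det M).1 hMu).ne_zero
  obtain ⟨c, hc⟩ := hctx.form_unique (M' := Mᵀ) hM hfix fun x hx => by
    conv_rhs => rw [← hfix1 x hx]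
    simp [Matrix.transpose_mul, Matrix.mul_assoc]
  have hcc : c * c = 1 := by
    have e : M = (c * c) • M := by
      conv_lhs => rw [← Matrix.transpose_transpose M, hc, Matrix.transpose_smul, hc, smul_smul]
    have e' : (1 : K) • M = (c * c) • M := by rw [one_smul]; exact e
    exact (smul_left_injective K hM e').symm
  have hc1 : c = 1 := by
    have e := congrArg Matrix.det hc
    rw [Matrix.det_transpose, Matrix.det_smul, Fintype.card_fin] at e
    have e' : c ^ 3 = 1 := mul_right_cancel₀ hdet (by rw [one_mul]; exact e.symm)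
    calc c = c * (c * c) := by rw [hcc, mul_one]
      _ = c ^ 3 := by ring
      _ = 1 := e'
  rw [hc1, one_smul] at hc
  -- the centre is trivial
  have hcen : Subgroup.center G = ⊥ := by
    refine (Subgroup.eq_bot_iff_forall _).2 fun z hz => ?_
    obtain ⟨d, hd⟩ := hctx.absIrred.2 ((f z : GL (Fin 3) K) : Matrix (Fin 3) (Fin 3) K) (by
      rintro _ ⟨_, ⟨g, rfl⟩, rfl⟩
      show ((f z : GL (Fin 3) K) : Matrix (Fin 3) (Fin 3) K) * (f g : GL (Fin 3) K) = _
      rw [← Units.val_mul, ← map_mul, (Subgroup.mem_center_iff.1 hz g).symm, map_mul, Units.val_mul])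
    have h1 := hfix1 (f z) ⟨z, rfl⟩
    rw [hd, Matrix.transpose_smul, Matrix.transpose_one, Matrix.smul_mul, Matrix.smul_mul,
      Matrix.one_mul, Matrix.mul_smul, Matrix.mul_one, smul_smul] at h1
    have hdd : d * d = 1 := smul_left_injective K hM (show (d * d) • M = (1 : K) • M by
      rw [one_smul]; exact h1)
    have h3 := congrArg (fun g => ((f g : GL (Fin 3) K) : Matrix (Fin 3) (Fin 3) K)) (h.exp3 z hz)
    simp only [map_pow, Units.val_pow_eq_pow_val, map_one, Units.val_one, hd, smul_pow, one_pow] at h3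
    have hd3 : d ^ 3 = 1 := by simpa using congrFun (congrFun h3 0) 0
    have hd1 : d = 1 := by
      calc d = d * (d * d) := by rw [hdd, mul_one]
        _ = d ^ 3 := by ring
        _ = 1 := hd3
    refine hf (Units.ext ?_)
    rw [hd, hd1, one_smul, map_one, Units.val_one]
  -- over the algebraic closure
  let kb := AlgebraicClosure K
  haveI : CharP kb 5 := charP_of_injective_algebraMap (algebraMap K kb).injective 5
  set ι : K →+* kb := algebraMap K kb
  have h2 : (2 : kb) ≠ 0 := by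
    intro e
    have : ((2 : ℕ) : kb) = 0 := by exact_mod_cast e
    rw [CharP.cast_eq_zero_iff kb 5] at this
    norm_num at this
  set Mb := M.map ι
  let Bf : LinearMap.BilinForm kb (Fin 3 → kb) := Matrix.toBilin' Mb
  have hBs : ∀ x y, Bf x y = Bf y x := by
    intro x y
    have hMt : Mbᵀ = Mb := by rw [← Matrix.transpose_map, hc]
    rw [Matrix.toBilin'_apply', Matrix.toBilin'_apply', Matrix.dotProduct_mulVec,
      ← Matrix.mulVec_transpose, hMt, dotProduct_comm]
  have hMbu : IsUnit Mb.det := by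
    rw [show Mb.det = ι M.det from (RingHom.map_det ι M).symm]
    exact (isUnit_iff_ne_zero.2 hdet).map ι
  have hBnd : ∀ x, (∀ y, Bf x y = 0) → x = 0 := by
    intro x hx
    have h1 : x ᵥ* Mb = 0 := by
      funext j
      have := hx (Pi.single j 1)
      rw [Matrix.toBilin'_apply', Matrix.dotProduct_mulVec, dotProduct_single, mul_one] at this
      exact this
    rw [← Matrix.vecMul_one x, ← Matrix.mul_nonsing_inv _ hMbu, ← Matrix.vecMul_vecMul, h1,
      Matrix.zero_vecMul]
  obtain ⟨b, hb⟩ := Char.HalfDegree.exists_gram_basis h2 (by simp) Bf hBs hBnd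
  let Bm : Matrix (Fin 3) (Fin 3) kb := Matrix.of fun i j => b j i
  have hBm : IsUnit Bm.det := by
    have : Bm = (Pi.basisFun kb (Fin 3)).toMatrix b := by
      ext i j
      simp [Bm, Basis.toMatrix_apply]
    rw [this, ← Basis.det_apply]
    exact Basis.isUnit_det _ b
  have hgram : Bmᵀ * Mb * Bm = Char.HalfDegree.gram kb := by
    ext i j
    rw [← hb i j, Matrix.toBilin'_apply', Matrix.mul_assoc]
    rfl
  let r : G →* Matrix (Fin 3) (Fin 3) kb :=
    { toFun := fun g => Bm⁻¹ * ((f g : GL (Fin 3) K) : Matrix (Fin 3) (Fin 3) K).map ι * Bm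
      map_one' := by
        rw [map_one, Units.val_one, Matrix.map_one ι (map_zero ι) (map_one ι), Matrix.mul_one,
          Matrix.nonsing_inv_mul _ hBm]
      map_mul' := fun x y => by
        rw [map_mul, Units.val_mul, Matrix.map_mul]
        simp only [Matrix.mul_assoc, Matrix.mul_nonsing_inv_cancel_left _ _ hBm] }
  have hr : ∀ g, (r g)ᵀ * Char.HalfDegree.gram kb * r g = Char.HalfDegree.gram kb := by
    intro g
    set X := ((f g : GL (Fin 3) K) : Matrix (Fin 3) (Fin 3) K).map ι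
    have hX : Xᵀ * Mb * X = Mb := by
      rw [← Matrix.transpose_map, ← Matrix.map_mul, ← Matrix.map_mul, hfix1 (f g) ⟨g, rfl⟩]
    have hBt : IsUnit Bmᵀ.det := by rwa [Matrix.det_transpose]
    show (Bm⁻¹ * X * Bm)ᵀ * _ * (Bm⁻¹ * X * Bm) = _
    rw [← hgram]
    simp only [Matrix.transpose_mul, Matrix.transpose_nonsing_inv, Matrix.mul_assoc,
      Matrix.mul_nonsing_inv_cancel_left _ _ hBm, Matrix.nonsing_inv_mul_cancel_left _ _ hBt]
    rw [← Matrix.mul_assoc Mb, ← Matrix.mul_assoc Xᵀ, ← Matrix.mul_assoc Xᵀ, hX]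
  obtain ⟨θ, hθ⟩ := Char.HalfDegree.exists_psl_hom h2 r hr
  have hθinj : Function.Injective θ := by
    rw [← MonoidHom.ker_eq_bot_iff, eq_bot_iff, ← hcen]
    intro g hg
    have h1 := hθ g (MonoidHom.mem_ker.1 hg)
    refine Subgroup.mem_center_iff.2 fun x => hf (Units.ext ?_)
    apply Matrix.map_injective (f := ι) ι.injective
    have h2 : ((f g : GL (Fin 3) K) : Matrix (Fin 3) (Fin 3) K).map ι =
        (r g).det • (1 : Matrix (Fin 3) (Fin 3) kb) := by
      have h3 : Bm⁻¹ * ((f g : GL (Fin 3) K) : Matrix (Fin 3) (Fin 3) K).map ι * Bm = _ := h1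
      have h4 := congrArg (fun Y => Bm * Y * Bm⁻¹) h3
      simpa [Matrix.mul_assoc, Matrix.mul_nonsing_inv_cancel_left _ _ hBm,
        Matrix.mul_nonsing_inv _ hBm] using h4
    show (((f (x * g) : GL (Fin 3) K) : Matrix (Fin 3) (Fin 3) K)).map ι =
      (((f (g * x) : GL (Fin 3) K) : Matrix (Fin 3) (Fin 3) K)).map ι
    rw [map_mul, map_mul, Units.val_mul, Units.val_mul, Matrix.map_mul, Matrix.map_mul, h2,
      Matrix.mul_smul, Matrix.smul_mul, Matrix.mul_one, Matrix.one_mul]
  let eH : G ≃* θ.range := MonoidHom.ofInjective hθinj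
  have hcardH : Nat.card θ.range = Nat.card G := (Nat.card_congr eH.toEquiv).symm
  haveI : Finite θ.range := Finite.of_equiv G eH.toEquiv
  -- two non-commuting elements of order five
  obtain ⟨z, hz⟩ := exists_prime_orderOf_dvd_card' 5 h5
  have hzp : z ^ 5 = 1 := hz ▸ pow_orderOf_eq_one z
  obtain ⟨a, ha⟩ : ∃ a, z * (a * z * a⁻¹) ≠ a * z * a⁻¹ * z := by
    by_contra hno
    push Not at hno
    haveI : (Subgroup.zpowers z).Normal := ⟨fun w hw c => by
      obtain ⟨i, rfl⟩ := Subgroup.mem_zpowers_iff.mp hw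
      rw [← conj_zpow]
      exact Subgroup.zpow_mem _ (Char.HalfDegree.mem_zpowers_of_commute hsq hz
        (by rw [conj_pow, hzp, mul_one, mul_inv_cancel]) (hno c)) i⟩
    have := h.pgroup_normal_eq_bot (r := 5) (by norm_num) (Subgroup.zpowers z)
      (IsPGroup.of_card (n := 1) (by rw [Nat.card_zpowers, hz, pow_one]))
    rw [Subgroup.zpowers_eq_bot] at this
    rw [this, orderOf_one] at hz
    norm_num at hz
  rcases Char.HalfDegree.classify_algClosed (p := 5) le_rfl θ.range (hcardH ▸ h5)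
    (hcardH ▸ hsq)
    ⟨θ z, ⟨z, rfl⟩, θ (a * z * a⁻¹), ⟨_, rfl⟩, by rw [← map_pow, hzp, map_one],
      by rw [← map_pow, conj_pow, hzp, mul_one, mul_inv_cancel, map_one],
      fun e => ha (hθinj (by rw [map_mul θ z (a * z * a⁻¹), map_mul θ (a * z * a⁻¹) z]; exact e))⟩
    with ⟨⟨e⟩⟩ | hpc
  swap
  · exact absurd (Char.HalfDegree.PowConj.of_equiv eH hpc) (h.not_powConj ρ hρ h5)
  haveI : IsSimpleGroup (Matrix.ProjectiveSpecialLinearGroup (Fin 2) (ZMod 5)) :=
    Matrix.ProjectiveSpecialLinearGroup.rank_two_simple (by rw [Nat.card_zmod]; norm_num)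
  have hcard := Classical.Dickson.card_psl (ZMod 5)
  rw [ZMod.card, show Nat.gcd 2 (5 - 1) = 2 from rfl] at hcard
  haveI : Finite (Matrix.ProjectiveSpecialLinearGroup (Fin 2) (ZMod 5)) :=
    Finite.of_equiv θ.range e.toEquiv
  obtain ⟨e2⟩ := Lie.simple_sixty (G := Matrix.ProjectiveSpecialLinearGroup (Fin 2) (ZMod 5))
    (by norm_num at hcard ⊢; omega)
  exact ⟨((QuotientGroup.quotientMulEquivOfEq hcen).trans QuotientGroup.quotientBot).trans
    ((eH.trans e).trans e2)⟩

/-- The abstract groups. -/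
theorem Cover3.classify_five (h : Cover3 G) (ρ : Representation ℂ G (Fin 3 → ℂ))
    (hρ : Function.Injective ρ) (h5 : 5 ∣ Nat.card G) (h7 : ¬ 7 ∣ Nat.card G)
    (hwild : WildFive) (hU : UnitaryFive) :
    Nonempty ((G ⧸ Subgroup.center G) ≃* alternatingGroup (Fin 5)) ∨
      Nonempty ((G ⧸ Subgroup.center G) ≃* alternatingGroup (Fin 6)) := by
  classical
  letI := Fintype.ofFinite G
  haveI : Fact (Nat.Prime 5) := ⟨by norm_num⟩
  obtain ⟨k, _, _, _, σ, hker⟩ := Char.HalfDegree.exists_reduction (p := 5) (by norm_num) ρ hρ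
  have hinj : Function.Injective σ := by
    rw [← MonoidHom.ker_eq_bot_iff]
    exact h.pgroup_normal_eq_bot (r := 5) (by norm_num) σ.ker fun x => by
      obtain ⟨j, hj⟩ := hker x x.2
      exact ⟨j, Subtype.ext (by rw [SubmonoidClass.coe_pow, hj]; rfl)⟩
  have hne : ∀ q : ℕ, q.Prime → q ≠ 5 → (q : k) ≠ 0 := fun q hq h5q e =>
    h5q ((Nat.prime_dvd_prime_iff_eq Fact.out hq).1 ((CharP.cast_eq_zero_iff k 5 q).1 e)).symm
  let σ' : G →* Module.End k (Fin 3 → k) :=
    (Matrix.toLinAlgEquiv' : Matrix (Fin 3) (Fin 3) k ≃ₐ[k] _).toMonoidHom.comp σ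
  have hspan' := Solv.FHeight.span_eq_top σ' fun W hW hW0 =>
    ((h.irreducible (by exact_mod_cast hne 2 Nat.prime_two (by norm_num))
      (by exact_mod_cast hne 3 Nat.prime_three (by norm_num)) (by simp) σ'
      ((Matrix.toLinAlgEquiv' : Matrix (Fin 3) (Fin 3) k ≃ₐ[k] _).injective.comp hinj) W
      hW).resolve_left hW0)
  have hspan : Submodule.span k (Set.range σ) = ⊤ := by
    apply Submodule.map_injective_of_injective
      (f := (Matrix.toLinAlgEquiv' : Matrix (Fin 3) (Fin 3) k ≃ₐ[k] _).toLinearMap)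
      (Matrix.toLinAlgEquiv' : Matrix (Fin 3) (Fin 3) k ≃ₐ[k] _).injective
    rw [Submodule.map_span, ← Set.range_comp, Submodule.map_top]
    exact hspan'.trans (LinearMap.range_eq_top.2
      (Matrix.toLinAlgEquiv' : Matrix (Fin 3) (Fin 3) k ≃ₐ[k] _).surjective).symm
  obtain ⟨K, _, _, _, f, hf, hctx, ⟨E⟩, hno⟩ :=
    h.exists_minimal_model σ ⟨hinj, exists_det_of_span σ hspan⟩
  have hnt : ∀ x ∈ f.range, ¬ IsTransvection x := by
    rintro _ ⟨g, rfl⟩
    exact h.no_transvection ρ hρ f hf g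
  have h5Q : 5 ∣ Nat.card (f.range ⧸ (scalars (Fin 3) K).subgroupOf f.range) :=
    Nat.card_congr E.toEquiv ▸ h.card_quot_five h5
  rcases hwild K f.range hctx h5Q hnt with ⟨τ, hτ, ht⟩ | hform | ⟨h25, s, hs, hss, hform⟩
  · exact absurd ht (hno τ hτ)
  · exact Or.inl (h.alt_five_of_form ρ hρ h5 f hf hctx hform)
  · rcases hU K f.range hctx h25 h5Q hnt s hs hss hform with ⟨⟨e⟩⟩ | ⟨⟨e⟩⟩ | ⟨⟨e⟩⟩
    · exact Or.inl ⟨E.trans e⟩
    · exact Or.inr ⟨E.trans e⟩
    · exfalso
      refine h7 (Dvd.dvd.trans ?_ (Subgroup.card_quotient_dvd_card (Subgroup.center G)))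
      rw [Nat.card_congr (E.trans e).toEquiv, nat_card_alternatingGroup, Nat.card_eq_fintype_card,
        Fintype.card_fin]
      decide

/-- Groups of order prime to the characteristic, given the two theorems in characteristic five. -/
theorem coprime_cases_of (hwild : WildFive) (hU : UnitaryFive) {F : Type v} [Field F] [Fintype F]
    {P : Subgroup (GL (Fin 3) F)} (h : Ctx P) (p : ℕ) [hp : Fact p.Prime] [CharP F p]
    (hnd : ¬ p ∣ Nat.card (P ⧸ (scalars (Fin 3) F).subgroupOf P)) :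
    Nonempty (P ⧸ (scalars (Fin 3) F).subgroupOf P ≃* alternatingGroup (Fin 5)) ∨
    Nonempty (P ⧸ (scalars (Fin 3) F).subgroupOf P ≃* alternatingGroup (Fin 6)) ∨
    Nonempty (P ⧸ (scalars (Fin 3) F).subgroupOf P ≃*
      Matrix.ProjectiveSpecialLinearGroup (Fin 2) (ZMod 7)) := by
  classical
  have hc := h.cover3
  have hce := center_eq h.absIrred
  have hP : ¬ p ∣ Nat.card P := by
    intro hd
    rw [Subgroup.card_eq_card_quotient_mul_card_subgroup ((scalars (Fin 3) F).subgroupOf P)] at hd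
    rcases hp.out.dvd_mul.1 hd with hd | hd
    · exact hnd hd
    rw [← hce] at hd
    obtain ⟨⟨z, hz⟩, hzo⟩ := exists_prime_orderOf_dvd_card' p hd
    rw [Subgroup.orderOf_mk] at hzo
    have h3 := orderOf_dvd_of_pow_eq_one (hc.exp3 z hz)
    rw [hzo, Nat.prime_dvd_prime_iff_eq hp.out Nat.prime_three] at h3
    subst h3
    rw [hce, Subgroup.mem_subgroupOf, mem_scalars_iff] at hz
    obtain ⟨c, hcz⟩ := hz
    have hd1 : ((z : GL (Fin 3) F) : Matrix (Fin 3) (Fin 3) F).det = 1 :=
      congrArg Units.val (MonoidHom.mem_ker.1 (h.le_sl z.2))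
    rw [hcz, Matrix.det_smul, Fintype.card_fin, Matrix.det_one, mul_one] at hd1
    have hc1 : ((c : F) - 1) ^ 3 = 0 := by rw [sub_pow_char (p := 3), hd1, one_pow, sub_self]
    have hz1 : z = 1 := Subtype.ext (Units.ext (by
      rw [hcz, sub_eq_zero.1 (pow_eq_zero_iff three_ne_zero |>.1 hc1), one_smul]
      rfl))
    rw [hz1, orderOf_one] at hzo
    norm_num at hzo
  let σ : P →* Matrix (Fin 3) (Fin 3) F := (Units.coeHom _).comp P.subtype
  have hσ : Function.Injective σ := fun a b e => Subtype.ext (Units.ext e)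
  obtain ⟨ρ, hρ⟩ := exists_complex_rep hp.out hP σ hσ
    (span_of_absIrred σ ((range_coe P).symm ▸ h.absIrred))
  let e : (P ⧸ (scalars (Fin 3) F).subgroupOf P) ≃* (P ⧸ Subgroup.center P) :=
    QuotientGroup.quotientMulEquivOfEq hce.symm
  rcases hc.five_or_seven ρ hρ with ⟨h7, h49⟩ | ⟨h5, -, h7⟩
  · obtain ⟨e'⟩ := psl_seven hc ρ hρ h7 h49
    exact Or.inr (Or.inr ⟨e.trans e'⟩)
  · rcases hc.classify_five ρ hρ h5 h7 hwild hU with ⟨⟨e'⟩⟩ | ⟨⟨e'⟩⟩
    · exact Or.inl ⟨e.trans e'⟩
    · exact Or.inr (Or.inl ⟨e.trans e'⟩)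

end Cfsg.Agent.PThree
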