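import Cfsg.Agent.Lib.Classical.PThree.CoprimePrimes
import Cfsg.Agent.Lib.Solv.ArcScalar
import Cfsg.Agent.S0205

/-!
# Faithful representations of degree three: irreducibility and Blichfeldt's arc lemma

Over every field of characteristic other than two and three a faithful representation of degree three
of a `Cover3` group is irreducible. Over the complex numbers an element all of whose eigenvalues are
at distance less than one from one of them is central.
-/

set_option autoImplicit false
set_option linter.style.haveILetI false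
set_option linter.unusedSectionVars false

open Module
open scoped commutatorElement

namespace Cfsg.Agent.PThree

universe u v w

variable {G : Type u} [Group G] [Finite G]

namespace Cover3

theorem monoidHom_eq_one (h : Cover3 G) {A : Type v} [CommGroup A] (f : G →* A) (g : G) :
    f g = 1 := by
  have hle : commutator G ≤ f.ker := Abelianization.commutator_subset_ker f
  rw [h.perfect] at hle
  exact hle (Subgroup.mem_top g)

theorem monoidHom_field_eq_one (h : Cover3 G) {k : Type v} [CommRing k] (f : G →* k) (g : G) :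
    f g = 1 := by
  have := congrArg Units.val (h.monoidHom_eq_one f.toHomUnits g)
  simpa using this

theorem comm_normal_le_center (h : Cover3 G) (N : Subgroup G) [N.Normal]
    (hab : ∀ a ∈ N, ∀ b ∈ N, a * b = b * a) : N ≤ Subgroup.center G := by
  haveI := h.simple
  rcases (Subgroup.Normal.map (inferInstance : N.Normal) _
    (QuotientGroup.mk'_surjective (Subgroup.center G))).eq_bot_or_eq_top with e | e
  · rw [Subgroup.map_eq_bot_iff, QuotientGroup.ker_mk'] at e
    exact e
  · exfalso
    obtain ⟨a, b, hab'⟩ := h.noncomm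
    obtain ⟨a', ha', ea⟩ := (e ▸ Subgroup.mem_top (QuotientGroup.mk' (Subgroup.center G) a) :
      QuotientGroup.mk' (Subgroup.center G) a ∈ N.map (QuotientGroup.mk' (Subgroup.center G)))
    obtain ⟨b', hb', eb⟩ := (e ▸ Subgroup.mem_top (QuotientGroup.mk' (Subgroup.center G) b) :
      QuotientGroup.mk' (Subgroup.center G) b ∈ N.map (QuotientGroup.mk' (Subgroup.center G)))
    apply hab'
    rw [← QuotientGroup.eq_one_iff]
    show QuotientGroup.mk' (Subgroup.center G) (a * b * a⁻¹ * b⁻¹) = 1
    rw [map_mul, map_mul, map_mul, map_inv, map_inv, ← ea, ← eb, ← map_inv, ← map_inv, ← map_mul,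
      ← map_mul, ← map_mul, hab a' ha' b' hb', mul_inv_cancel_right, mul_inv_cancel, map_one]

theorem not_solvable (h : Cover3 G) : ¬ Group.IsSolvable G := by
  intro hs
  haveI := hs
  haveI := h.simple
  obtain ⟨a, b, hab⟩ := h.noncomm
  apply hab
  rw [← QuotientGroup.eq_one_iff]
  have hc := IsSimpleGroup.comm_iff_isSolvable.2
    (inferInstance : Group.IsSolvable (G ⧸ Subgroup.center G))
    (QuotientGroup.mk a) (QuotientGroup.mk b)
  rw [QuotientGroup.mk_mul, QuotientGroup.mk_mul, QuotientGroup.mk_mul, QuotientGroup.mk_inv,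
    QuotientGroup.mk_inv, hc, mul_inv_cancel_right, mul_inv_cancel]

theorem exists_involution (h : Cover3 G) : ∃ u : G, orderOf u = 2 := by
  haveI : Fact (Nat.Prime 2) := ⟨Nat.prime_two⟩
  refine exists_prime_orderOf_dvd_card' 2 (by_contra fun h2 => h.not_solvable ?_)
  exact S0205.result (Nat.not_even_iff_odd.1 fun he => h2 he.two_dvd)

theorem not_central_of_invol (h : Cover3 G) {u : G} (hu : orderOf u = 2) :
    u ∉ Subgroup.center G := fun hc => by
  have h3 := orderOf_dvd_of_pow_eq_one (h.exp3 u hc)
  rw [hu] at h3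
  norm_num at h3

variable {k : Type v} [Field k] {V : Type w} [AddCommGroup V] [Module k V]

/-- No common eigenvector. -/
theorem no_line (h : Cover3 G) (h2 : (2 : k) ≠ 0) (h3 : (3 : k) ≠ 0) [FiniteDimensional k V]
    (hV : finrank k V = 3) (σ : G →* Module.End k V) (hinj : Function.Injective σ)
    {v : V} (hv : v ≠ 0) (hline : ∀ g, ∃ c : k, σ g v = c • v) : False := by
  classical
  choose c hc using hline
  have hfix : ∀ g, σ g v = v := by
    let f : G →* k :=
      { toFun := c
        map_one' := smul_left_injective k hv (show c 1 • v = (1 : k) • v by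
          rw [← hc, map_one, Module.End.one_apply, one_smul])
        map_mul' := fun a b => smul_left_injective k hv (show c (a * b) • v = (c a * c b) • v by
          rw [← hc, map_mul, Module.End.mul_apply, hc, map_smul, hc, smul_smul, mul_comm (c a)]) }
    intro g
    rw [hc g, show c g = 1 from h.monoidHom_field_eq_one f g, one_smul]
  let L : Submodule k V := k ∙ v
  have hL : ∀ g, L ≤ L.comap (σ g) := fun g => by
    rw [Submodule.span_singleton_le_iff_mem, Submodule.mem_comap, hfix]
    exact Submodule.mem_span_singleton_self v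
  let τ : G →* Module.End k (V ⧸ L) :=
    { toFun := fun g => L.mapQ L (σ g) (hL g)
      map_one' := Submodule.linearMap_qext _ (LinearMap.ext fun x => by simp)
      map_mul' := fun a b => Submodule.linearMap_qext _ (LinearMap.ext fun x => by simp) }
  have hτ : Function.Injective τ := by
    rw [← MonoidHom.ker_eq_bot_iff, Subgroup.eq_bot_iff_forall]
    have hdiff : ∀ g ∈ τ.ker, ∀ x, σ g x - x ∈ L := by
      intro g hg x
      have := LinearMap.congr_fun (MonoidHom.mem_ker.1 hg) (Submodule.Quotient.mk x)
      exact (Submodule.Quotient.eq L).1 this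
    have hkill : ∀ (g : G) (x : V), x ∈ L → σ g x = x := by
      intro g x hx
      obtain ⟨a, rfl⟩ := Submodule.mem_span_singleton.1 hx
      rw [map_smul, hfix]
    have hcomm : ∀ a ∈ τ.ker, ∀ b ∈ τ.ker, a * b = b * a := by
      intro a ha b hb
      refine hinj (LinearMap.ext fun x => ?_)
      rw [map_mul, map_mul, Module.End.mul_apply, Module.End.mul_apply]
      have e1 : σ a (σ b x) = σ a x + (σ b x - x) := by
        conv_lhs => rw [show σ b x = x + (σ b x - x) by abel, map_add, hkill a _ (hdiff b hb x)]
      have e2 : σ b (σ a x) = σ b x + (σ a x - x) := by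
        conv_lhs => rw [show σ a x = x + (σ a x - x) by abel, map_add, hkill b _ (hdiff a ha x)]
      rw [e1, e2]
      abel
    intro g hg
    have hg3 : g ^ 3 = 1 := h.exp3 g (h.comm_normal_le_center τ.ker hcomm hg)
    refine hinj (LinearMap.ext fun x => ?_)
    rw [map_one, Module.End.one_apply]
    have hd := hdiff g hg x
    have hpow : ∀ j : ℕ, σ (g ^ j) x = x + (j : k) • (σ g x - x) := by
      intro j
      induction j with
      | zero => simp
      | succ j ih =>
        rw [pow_succ', map_mul, Module.End.mul_apply, ih, map_add, map_smul, hkill g _ hd,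
          Nat.cast_succ, add_smul, one_smul]
        abel
    have h1 := hpow 3
    rw [hg3, map_one, Module.End.one_apply, left_eq_add, smul_eq_zero] at h1
    exact sub_eq_zero.1 (h1.resolve_left (by exact_mod_cast h3))
  have hdim : finrank k (V ⧸ L) = 2 := by
    have := Submodule.finrank_quotient_add_finrank L
    rw [finrank_span_singleton hv, hV] at this
    omega
  obtain ⟨u, hu⟩ := h.exists_involution
  let b := Module.finBasisOfFinrankEq k (V ⧸ L) hdim
  let M : G →* Matrix (Fin 2) (Fin 2) k :=
    ((LinearMap.toMatrixAlgEquiv b : _ ≃ₐ[k] _) : _ →* _).comp τ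
  have hM : Function.Injective M := fun x y e => hτ ((LinearMap.toMatrixAlgEquiv b).injective e)
  have hdet : ∀ g, (M g).det = 1 := fun g =>
    h.monoidHom_field_eq_one (Matrix.detMonoidHom.comp M) g
  have huu : M u * M u = 1 := by
    have h := pow_orderOf_eq_one u
    rw [hu, sq] at h
    rw [← map_mul, h, map_one]
  obtain ⟨t, ht⟩ : ∃ t, t = (M u) 0 0 + (M u) 1 1 := ⟨_, rfl⟩
  have hd := hdet u
  rw [Matrix.det_fin_two] at hd
  have e00 := congrFun (congrFun huu 0) 0
  have e01 := congrFun (congrFun huu 0) 1
  have e10 := congrFun (congrFun huu 1) 0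
  have e11 := congrFun (congrFun huu 1) 1
  simp [Matrix.mul_apply, Fin.sum_univ_two] at e00 e01 e10 e11
  have t00 : t * (M u) 0 0 = 2 := by rw [ht]; linear_combination e00 + hd
  have t11 : t * (M u) 1 1 = 2 := by rw [ht]; linear_combination e11 + hd
  have t01 : t * (M u) 0 1 = 0 := by rw [ht]; linear_combination e01
  have t10 : t * (M u) 1 0 = 0 := by rw [ht]; linear_combination e10
  have ht0 : t ≠ 0 := fun e => h2 (by rw [← t00, e, zero_mul])
  have hscal : M u = Matrix.scalar (Fin 2) ((M u) 0 0) := by
    have heq : (M u) 1 1 = (M u) 0 0 := mul_left_cancel₀ ht0 (t11.trans t00.symm)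
    ext i j
    fin_cases i <;> fin_cases j
    · simp
    · simpa using (mul_eq_zero.1 t01).resolve_left ht0
    · simpa using (mul_eq_zero.1 t10).resolve_left ht0
    · simpa using heq
  refine h.not_central_of_invol hu (Subgroup.mem_center_iff.2 fun x => hM ?_)
  rw [map_mul, map_mul, hscal]
  exact (Matrix.scalar_commute _ (fun r => Commute.all _ r) (M x)).symm.eq

/-- A faithful representation of degree three is irreducible. -/
theorem irreducible (h : Cover3 G) (h2 : (2 : k) ≠ 0) (h3 : (3 : k) ≠ 0) [FiniteDimensional k V]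
    (hV : finrank k V = 3) (σ : G →* Module.End k V) (hinj : Function.Injective σ)
    (W : Submodule k V) (hW : ∀ g, ∀ x ∈ W, σ g x ∈ W) : W = ⊥ ∨ W = ⊤ := by
  classical
  by_contra hne
  push Not at hne
  have h0 : 0 < finrank k W := Nat.pos_of_ne_zero fun e => hne.1 (Submodule.finrank_eq_zero.1 e)
  have h3' : finrank k W < 3 := hV ▸ Submodule.finrank_lt hne.2
  rcases (show finrank k W = 1 ∨ finrank k W = 2 by omega) with e | e
  · obtain ⟨⟨v, hvW⟩, hv0, hv⟩ := finrank_eq_one_iff'.1 e
    refine h.no_line h2 h3 hV σ hinj (v := v) (fun h0 => hv0 (Subtype.ext h0)) fun g => ?_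
    obtain ⟨c, hc⟩ := hv ⟨σ g v, hW g v hvW⟩
    exact ⟨c, (congrArg Subtype.val hc).symm⟩
  · let σ' : G →* Module.End k (Module.Dual k V) :=
      { toFun := fun g => LinearMap.dualMap (σ g⁻¹)
        map_one' := by simp [LinearMap.dualMap_id, Module.End.one_eq_id]
        map_mul' := fun a b => by
          rw [mul_inv_rev, map_mul]
          rfl }
    have hann : finrank k W.dualAnnihilator = 1 := by
      have := Subspace.finrank_add_finrank_dualAnnihilator_eq W
      omega
    letI : AddCommGroup (W.dualAnnihilator) := W.dualAnnihilator.addCommGroup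
    obtain ⟨⟨φ, hφW⟩, hφ0, hφ⟩ :=
      (finrank_eq_one_iff' (K := k) (V := W.dualAnnihilator)).1 hann
    refine h.no_line h2 h3 (by rw [Subspace.dual_finrank_eq, hV]) σ' (fun a b e => ?_) (v := φ)
      (fun h0 => hφ0 (Subtype.ext h0)) fun g => ?_
    · refine inv_inj.1 (hinj (LinearMap.ext fun x => ?_))
      refine (Module.forall_dual_apply_eq_zero_iff k _).1 (fun f => ?_) |> sub_eq_zero.1
      rw [map_sub, sub_eq_zero]
      exact LinearMap.congr_fun (LinearMap.congr_fun e f) x
    · obtain ⟨c, hc⟩ := hφ ⟨σ' g φ, (Submodule.mem_dualAnnihilator _).2 fun x hx => by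
        show φ (σ g⁻¹ x) = 0
        exact (Submodule.mem_dualAnnihilator φ).1 hφW _ (hW g⁻¹ x hx)⟩
      exact ⟨c, (congrArg Subtype.val hc).symm⟩

/-- An element with all eigenvalues near one of them is central. -/
theorem central_of_arc (h : Cover3 G) (ρ : Representation ℂ G (Fin 3 → ℂ))
    (hρ : Function.Injective ρ) {z : G} {ε : ℂ} {v₀ : Fin 3 → ℂ} (hv₀ : v₀ ≠ 0)
    (hev : ρ z v₀ = ε • v₀) (hε : ‖ε‖ = 1)
    (hnear : ∀ (μ : ℂ) (v : Fin 3 → ℂ), v ≠ 0 → ρ z v = μ • v → ‖μ - ε‖ < 1) :
    z ∈ Subgroup.center G := by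
  classical
  by_contra hz
  letI := Fintype.ofFinite G
  have hinv := Solv.Arc.invariant_of_arc (V := LinearMap.range (Char.unitEmb ρ)) ρ
    (LinearEquiv.ofInjective (Char.unitEmb ρ) (Char.unitEmb_injective ρ))
    (fun g v => by rw [Submodule.coe_norm, Submodule.coe_norm, LinearEquiv.ofInjective_apply,
      LinearEquiv.ofInjective_apply, Char.norm_unitEmb]) hε hnear (z := z)
  let S : Submodule ℂ (Fin 3 → ℂ) :=
    { carrier := {v | ρ z v = ε • v}
      zero_mem' := by simp
      add_mem' := fun {a b} ha hb => by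
        show ρ z (a + b) = ε • (a + b); rw [map_add, ha, hb, smul_add]
      smul_mem' := fun c {a} ha => by
        show ρ z (c • a) = ε • c • a; rw [map_smul, ha, smul_comm] }
  let K : Subgroup G :=
    { carrier := {g | ∀ v ∈ S, ρ g v ∈ S}
      one_mem' := fun v h => by rw [map_one]; exact h
      mul_mem' := fun {a b} ha hb v h => by rw [map_mul]; exact ha _ (hb v h)
      inv_mem' := fun {a} ha v h => by
        have : ∀ j : ℕ, ∀ v ∈ S, ρ (a ^ j) v ∈ S := by
          intro j
          induction j with
          | zero => intro v h; rw [pow_zero, map_one]; exact h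
          | succ j ih => intro v h; rw [pow_succ, map_mul]; exact ih _ (ha v h)
        have e' : a⁻¹ = a ^ (orderOf a - 1) := by
          refine inv_eq_of_mul_eq_one_right ?_
          rw [← pow_succ', Nat.sub_add_cancel (orderOf_pos a), pow_orderOf_eq_one]
        rw [e']; exact this _ v h }
  have hK : Subgroup.normalClosure {z} ≤ K := by
    rw [Subgroup.normalClosure, Subgroup.closure_le]
    intro g hg
    obtain ⟨a, ha, hag⟩ := Group.mem_conjugatesOfSet_iff.mp hg
    obtain rfl := Set.mem_singleton_iff.mp ha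
    obtain ⟨x, rfl⟩ := isConj_iff.mp hag
    exact fun v hv => hinv x v hv
  have htop : Subgroup.normalClosure ({z} : Set G) = ⊤ := by
    haveI := h.simple
    rcases (Subgroup.Normal.map (Subgroup.normalClosure_normal (s := ({z} : Set G))) _
      (QuotientGroup.mk'_surjective (Subgroup.center G))).eq_bot_or_eq_top with e | e
    · rw [Subgroup.map_eq_bot_iff, QuotientGroup.ker_mk'] at e
      exact absurd (e (Subgroup.subset_normalClosure (Set.mem_singleton z))) hz
    · rw [← top_le_iff, ← h.perfect, commutator_def, Subgroup.commutator_le]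
      intro x _ y _
      obtain ⟨x', hx', ex⟩ := (e ▸ Subgroup.mem_top (QuotientGroup.mk' (Subgroup.center G) x) :
        QuotientGroup.mk' (Subgroup.center G) x ∈ _)
      obtain ⟨y', hy', ey⟩ := (e ▸ Subgroup.mem_top (QuotientGroup.mk' (Subgroup.center G) y) :
        QuotientGroup.mk' (Subgroup.center G) y ∈ _)
      obtain ⟨cx, hcx, rfl⟩ : ∃ c ∈ Subgroup.center G, x' * c = x :=
        ⟨x'⁻¹ * x, QuotientGroup.eq.1 ex, mul_inv_cancel_left x' x⟩
      obtain ⟨cy, hcy, rfl⟩ : ∃ c ∈ Subgroup.center G, y' * c = y :=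
        ⟨y'⁻¹ * y, QuotientGroup.eq.1 ey, mul_inv_cancel_left y' y⟩
      have e1 : ⁅x' * cx, y' * cy⁆ = ⁅x', y'⁆ := by
        rw [Subgroup.mem_center_iff] at hcx hcy
        simp only [commutatorElement_def, mul_inv_rev]
        calc x' * cx * (y' * cy) * (cx⁻¹ * x'⁻¹) * (cy⁻¹ * y'⁻¹)
            = x' * (cx * (y' * cy)) * cx⁻¹ * x'⁻¹ * (cy⁻¹ * y'⁻¹) := by group
          _ = x' * y' * cy * x'⁻¹ * cy⁻¹ * y'⁻¹ := by rw [← hcx (y' * cy)]; group
          _ = x' * y' * (x'⁻¹ * cy) * cy⁻¹ * y'⁻¹ := by rw [hcy x'⁻¹]; group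
          _ = x' * y' * x'⁻¹ * y'⁻¹ := by group
      rw [e1]
      exact Subgroup.commutator_le.2 (fun a ha b hb => Subgroup.mul_mem _ (Subgroup.mul_mem _
        (Subgroup.mul_mem _ ha hb) (Subgroup.inv_mem _ ha)) (Subgroup.inv_mem _ hb))
        (Subgroup.commutator_mem_commutator hx' hy')
  rw [htop] at hK
  rcases h.irreducible (k := ℂ) (by norm_num) (by norm_num) (by simp) ρ hρ S
    (fun g x hx => hK (Subgroup.mem_top g) x hx) with e | e
  · have : v₀ ∈ S := hev
    rw [e] at this
    exact hv₀ this
  · refine hz (Subgroup.mem_center_iff.mpr fun g => hρ (LinearMap.ext fun v => ?_))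
    have hscal : ∀ v, ρ z v = ε • v := fun v => (e ▸ Submodule.mem_top : v ∈ S)
    rw [map_mul, map_mul, Module.End.mul_apply, Module.End.mul_apply, hscal, hscal, map_smul]

end Cover3

end Cfsg.Agent.PThree
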