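import Cfsg.Agent.Lib.Classical.PThree.CoprimeArc
import Cfsg.Agent.Lib.Char.SmallDegreeSylow

/-!
# Faithful representations of degree three: the Sylow subgroups for `5` and `7`

In the centraliser of an element outside the centre the Sylow subgroup for a prime `l ≥ 5` is normal, by
the arc lemma; a theorem on trivial-intersection abelian subgroups then bounds its order by `15`.
-/

set_option autoImplicit false
set_option linter.style.haveILetI false
set_option linter.unusedSectionVars false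

open Module Cfsg Cfsg.Agent Cfsg.Agent.Char
open scoped commutatorElement

namespace Cfsg.Agent.PThree

universe u

theorem mat_two_of_sq {k : Type*} [Field k] (h2 : (2 : k) ≠ 0) (M : Matrix (Fin 2) (Fin 2) k)
    (hM : M * M = 1) (hd : M.det = 1) (h1 : M ≠ 1) : M = -1 := by
  obtain ⟨t, ht⟩ : ∃ t, t = M 0 0 + M 1 1 := ⟨_, rfl⟩
  rw [Matrix.det_fin_two] at hd
  have e00 := congrFun (congrFun hM 0) 0
  have e01 := congrFun (congrFun hM 0) 1
  have e10 := congrFun (congrFun hM 1) 0
  have e11 := congrFun (congrFun hM 1) 1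
  simp [Matrix.mul_apply, Fin.sum_univ_two] at e00 e01 e10 e11
  have t00 : t * M 0 0 = 2 := by rw [ht]; linear_combination e00 + hd
  have t11 : t * M 1 1 = 2 := by rw [ht]; linear_combination e11 + hd
  have t01 : t * M 0 1 = 0 := by rw [ht]; linear_combination e01
  have t10 : t * M 1 0 = 0 := by rw [ht]; linear_combination e10
  have ht0 : t ≠ 0 := fun e => h2 (by rw [← t00, e, zero_mul])
  have h01 := (mul_eq_zero.1 t01).resolve_left ht0
  have h10 := (mul_eq_zero.1 t10).resolve_left ht0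
  have heq : M 1 1 = M 0 0 := mul_left_cancel₀ ht0 (t11.trans t00.symm)
  rw [h01, zero_mul, add_zero] at e00
  rcases mul_self_eq_one_iff.1 e00 with h | h
  · refine absurd ?_ h1
    ext i j; fin_cases i <;> fin_cases j <;> simp [h01, h10, heq, h]
  · ext i j; fin_cases i <;> fin_cases j <;> simp [h01, h10, heq, h]

/-- The point `exp (2πi (m / (2m+1)))` and its negative. -/
theorem exists_root_near (m : ℕ) (hm : 2 ≤ m) :
    ∃ ω : ℂ, ω ^ (2 * m + 1) = 1 ∧ ‖-ω - 1‖ < 1 ∧ ‖(-ω)⁻¹ - 1‖ < 1 ∧ (-ω) ^ 3 ≠ 1 := by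
  set θ : ℝ := Real.pi / (2 * m + 1 : ℕ) with hθ
  have hl : (0 : ℝ) < (2 * m + 1 : ℕ) := by positivity
  set e : ℂ := Complex.exp (θ * Complex.I) with he
  have hel : e ^ (2 * m + 1) = -1 := by
    rw [he, ← Complex.exp_nat_mul, ← Complex.exp_pi_mul_I]
    congr 1
    rw [hθ]
    push_cast
    field_simp
    exact div_self (by exact_mod_cast (by omega : 2 * m + 1 ≠ 0))
  have he0 : e ≠ 0 := Complex.exp_ne_zero _
  have hre : e.re = Real.cos θ ∧ e.im = Real.sin θ :=
    ⟨Complex.exp_ofReal_mul_I_re θ, Complex.exp_ofReal_mul_I_im θ⟩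
  have hlt : θ < Real.pi / 3 := by
    rw [hθ]
    refine div_lt_div_of_pos_left Real.pi_pos (by norm_num) ?_
    exact_mod_cast (show 3 < 2 * m + 1 by omega)
  have hcos : 1 / 2 < Real.cos θ := by
    rw [← Real.cos_pi_div_three]
    refine Real.cos_lt_cos_of_nonneg_of_le_pi_div_two ?_ (by linarith [Real.pi_pos]) hlt
    rw [hθ]
    positivity
  have hnorm : ‖e‖ = 1 := Complex.norm_exp_ofReal_mul_I θ
  have hd : ‖e - 1‖ < 1 := by
    have h : ‖e - 1‖ ^ 2 < 1 := by
      rw [← Complex.normSq_eq_norm_sq, Complex.normSq_apply]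
      simp only [Complex.sub_re, Complex.sub_im, Complex.one_re, Complex.one_im, hre.1, hre.2]
      nlinarith [Real.sin_sq_add_cos_sq θ]
    nlinarith [norm_nonneg (e - 1)]
  have hd' : ‖e⁻¹ - 1‖ < 1 := by
    have h : e⁻¹ - 1 = -(e - 1) * e⁻¹ := by field_simp; ring
    rwa [h, norm_mul, norm_neg, norm_inv, hnorm, inv_one, mul_one]
  refine ⟨-e⁻¹, ?_, ?_, ?_, ?_⟩
  · rw [neg_pow, inv_pow, hel]
    norm_num [pow_succ, pow_mul]
  · rwa [neg_neg]
  · rwa [neg_neg, inv_inv]
  · rw [neg_neg, inv_pow, ne_eq, inv_eq_one]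
    intro h3
    have h6 : e ^ (2 * (2 * m + 1)) = 1 := by rw [mul_comm, pow_mul, hel]; norm_num
    have hne1 : e ≠ 1 := fun h => by rw [h, one_pow] at hel; norm_num at hel
    have h32 := orderOf_dvd_of_pow_eq_one h3
    rcases (Nat.dvd_prime Nat.prime_three).1 h32 with ho | ho
    · exact hne1 (orderOf_eq_one_iff.1 ho)
    · have hcl : θ * 3 < Real.pi := by linarith
      have h := congrArg Complex.im h3
      rw [he, ← Complex.exp_nat_mul, show ((3 : ℕ) : ℂ) * (θ * Complex.I) = ((θ * 3 : ℝ) : ℂ) * Complex.I by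
        push_cast; ring, Complex.exp_ofReal_mul_I_im, Complex.one_im] at h
      have h0 : 0 < θ * 3 := by rw [hθ]; positivity
      exact (Real.sin_pos_of_pos_of_lt_pi h0 hcl).ne' h

variable {G : Type u} [Group G] [Finite G]

namespace Cover3

theorem normal_cases (h : Cover3 G) (N : Subgroup G) [N.Normal] :
    N ≤ Subgroup.center G ∨ N = ⊤ := by
  haveI := h.simple
  rcases (Subgroup.Normal.map (inferInstance : N.Normal) _
    (QuotientGroup.mk'_surjective (Subgroup.center G))).eq_bot_or_eq_top with e | e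
  · rw [Subgroup.map_eq_bot_iff, QuotientGroup.ker_mk'] at e
    exact Or.inl e
  · right
    replace e := congrArg (Subgroup.comap (QuotientGroup.mk' (Subgroup.center G))) e
    rw [Subgroup.comap_map_eq, QuotientGroup.ker_mk', Subgroup.comap_top] at e
    rw [← top_le_iff, ← h.perfect, commutator_def]
    conv_lhs => rw [← e]
    refine Subgroup.commutator_le.2 fun a ha b hb => ?_
    obtain ⟨x, hx, c, hc, rfl⟩ := Subgroup.mem_sup_of_normal_right.1 ha
    obtain ⟨y, hy, d, hd, rfl⟩ := Subgroup.mem_sup_of_normal_right.1 hb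
    rw [Subgroup.mem_center_iff] at hc hd
    have e1 : ⁅x * c, y * d⁆ = ⁅x, y⁆ := by
      simp only [commutatorElement_def, mul_inv_rev]
      calc x * c * (y * d) * (c⁻¹ * x⁻¹) * (d⁻¹ * y⁻¹)
          = x * (c * (y * d)) * c⁻¹ * x⁻¹ * (d⁻¹ * y⁻¹) := by group
        _ = x * y * d * x⁻¹ * d⁻¹ * y⁻¹ := by rw [← hc (y * d)]; group
        _ = x * y * (x⁻¹ * d) * d⁻¹ * y⁻¹ := by rw [hd x⁻¹]; group
        _ = x * y * x⁻¹ * y⁻¹ := by group
    rw [e1]
    exact N.mul_mem (N.mul_mem (N.mul_mem hx hy) (N.inv_mem hx)) (N.inv_mem hy)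

theorem inf_center (h : Cover3 G) {l : ℕ} [hl : Fact l.Prime] (hl3 : l ≠ 3) (P : Subgroup G)
    (hP : IsPGroup l P) : P ⊓ Subgroup.center G = ⊥ := by
  refine (Subgroup.eq_bot_iff_forall _).2 fun x hx => ?_
  obtain ⟨j, hj⟩ := hP ⟨x, hx.1⟩
  have hj' : x ^ l ^ j = 1 := congrArg Subtype.val hj
  have hco : Nat.Coprime (l ^ j) 3 :=
    Nat.Coprime.pow_left j ((Nat.coprime_primes hl.out Nat.prime_three).2 hl3)
  exact orderOf_eq_one_iff.1 (Nat.dvd_one.1 (hco ▸ Nat.dvd_gcd (orderOf_dvd_of_pow_eq_one hj')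
    (orderOf_dvd_of_pow_eq_one (h.exp3 x hx.2))))

variable (ρ : Representation ℂ G (Fin 3 → ℂ))

/-- The centraliser of an element outside the centre fixes a line and a complementary plane. -/
theorem exists_split (hρ : Function.Injective ρ) {x : G} (hx : x ∉ Subgroup.center G) :
    ∃ L W : Submodule ℂ (Fin 3 → ℂ), IsCompl L W ∧ finrank ℂ L = 1 ∧ finrank ℂ W = 2 ∧
      ∀ g ∈ Subgroup.centralizer ({x} : Set G), (∀ v ∈ L, ρ g v ∈ L) ∧ ∀ v ∈ W, ρ g v ∈ W := by
  classical
  obtain ⟨c, hc⟩ := Module.End.exists_eigenvalue (ρ x)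
  set T : Module.End ℂ (Fin 3 → ℂ) := ρ x - c • 1 with hT
  have hTv : ∀ v, T v = ρ x v - c • v := fun v => by simp [hT]
  have hdisj : Disjoint (LinearMap.ker T) (LinearMap.range T) := by
    rw [Submodule.disjoint_def]
    rintro v hv ⟨w, rfl⟩
    rw [LinearMap.mem_ker, hTv, sub_eq_zero] at hv
    have hw : ρ x w = c • w + T w := by rw [hTv]; abel
    have hit : ∀ j : ℕ, ρ (x ^ (j + 1)) w = c ^ (j + 1) • w + ((j + 1 : ℕ) * c ^ j : ℂ) • T w := by
      intro j
      induction j with
      | zero => simpa using hw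
      | succ j ih =>
        rw [pow_succ', map_mul, Module.End.mul_apply, ih, map_add, map_smul, map_smul, hw, hv,
          smul_add, smul_smul, smul_smul, ← pow_succ, mul_assoc, ← pow_succ, add_assoc, ← add_smul]
        congr 2
        push_cast
        ring
    have h1 := hit (orderOf x - 1)
    rw [Nat.sub_add_cancel (orderOf_pos x), pow_orderOf_eq_one, map_one, Module.End.one_apply] at h1
    obtain ⟨v0, hv0⟩ := hc.exists_hasEigenvector
    have hcn : c ^ orderOf x = 1 := by
      have hp : ∀ j : ℕ, ρ (x ^ j) v0 = c ^ j • v0 := by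
        intro j
        induction j with
        | zero => simp
        | succ j ih =>
          rw [pow_succ', map_mul, Module.End.mul_apply, ih, map_smul, hv0.apply_eq_smul, smul_smul,
            pow_succ]
      have := hp (orderOf x)
      rw [pow_orderOf_eq_one, map_one, Module.End.one_apply] at this
      exact (smul_left_injective ℂ hv0.2 (show c ^ orderOf x • v0 = (1 : ℂ) • v0 by
        rw [one_smul]; exact this.symm))
    rw [hcn, one_smul, left_eq_add, smul_eq_zero] at h1
    refine h1.resolve_left (mul_ne_zero (Nat.cast_ne_zero.2 (orderOf_pos x).ne') (pow_ne_zero _ ?_))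
    rintro rfl
    rw [zero_pow (orderOf_pos x).ne'] at hcn
    exact zero_ne_one hcn
  have hcompl : IsCompl (LinearMap.ker T) (LinearMap.range T) := by
    refine (Submodule.isCompl_iff_disjoint _ _ ?_).2 hdisj
    rw [LinearMap.finrank_range_add_finrank_ker T |>.symm, add_comm]
  have hinv : ∀ g ∈ Subgroup.centralizer ({x} : Set G),
      (∀ v ∈ LinearMap.ker T, ρ g v ∈ LinearMap.ker T) ∧
        ∀ v ∈ LinearMap.range T, ρ g v ∈ LinearMap.range T := by
    intro g hg
    have hgx : ∀ v, ρ x (ρ g v) = ρ g (ρ x v) := fun v => by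
      rw [← Module.End.mul_apply, ← Module.End.mul_apply, ← map_mul, ← map_mul,
        Subgroup.mem_centralizer_singleton_iff.1 hg]
    have hTg : ∀ v, T (ρ g v) = ρ g (T v) := fun v => by
      rw [hTv, hTv, map_sub, map_smul, hgx]
    refine ⟨fun v hv => ?_, ?_⟩
    · rw [LinearMap.mem_ker] at hv ⊢
      rw [hTg, hv, map_zero]
    · rintro v ⟨w, rfl⟩
      exact ⟨ρ g w, hTg w⟩
  have hadd := LinearMap.finrank_range_add_finrank_ker T
  rw [finrank_fin_fun] at hadd
  have hker0 : finrank ℂ (LinearMap.ker T) ≠ 0 := by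
    rw [Ne, Submodule.finrank_eq_zero]
    intro e
    obtain ⟨v0, hv0⟩ := hc.exists_hasEigenvector
    refine hv0.2 ((Submodule.mem_bot ℂ).1 (e ▸ ?_))
    rw [LinearMap.mem_ker, hTv, hv0.apply_eq_smul, sub_self]
  have hran0 : finrank ℂ (LinearMap.range T) ≠ 0 := by
    rw [Ne, Submodule.finrank_eq_zero, LinearMap.range_eq_bot]
    intro e
    refine hx (Subgroup.mem_center_iff.2 fun g => hρ (LinearMap.ext fun v => ?_))
    have hs : ∀ v, ρ x v = c • v := fun v => sub_eq_zero.1 (by rw [← hTv, e]; rfl)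
    rw [map_mul, map_mul, Module.End.mul_apply, Module.End.mul_apply, hs, hs, map_smul]
  rcases (show finrank ℂ (LinearMap.ker T) = 1 ∨ finrank ℂ (LinearMap.ker T) = 2 by omega) with e | e
  · exact ⟨_, _, hcompl, e, by omega, hinv⟩
  · exact ⟨_, _, hcompl.symm, by omega, e, fun g hg => ⟨(hinv g hg).2, (hinv g hg).1⟩⟩

/-- In the derived group of such a centraliser, an involution excludes elements of prime order five
or more; and without involutions it is abelian. -/
theorem derived_centralizer (h : Cover3 G) (hρ : Function.Injective ρ) {x : G}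
    (hx : x ∉ Subgroup.center G) {l : ℕ} (hl : l.Prime) (hl5 : 5 ≤ l)
    (hdvd : l ∣ Nat.card (commutator (Subgroup.centralizer ({x} : Set G)))) :
    ∀ a ∈ commutator (Subgroup.centralizer ({x} : Set G)),
      ∀ b ∈ commutator (Subgroup.centralizer ({x} : Set G)), a * b = b * a := by
  classical
  haveI := Fact.mk hl
  set C := Subgroup.centralizer ({x} : Set G)
  obtain ⟨L, W, hLW, hL1, hW2, hinv⟩ := exists_split ρ hρ hx
  obtain ⟨⟨v₀, hv₀L⟩, hv₀', hspan⟩ := finrank_eq_one_iff'.1 hL1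
  have hv₀ : v₀ ≠ 0 := fun e => hv₀' (Subtype.ext e)
  -- on the line
  have hline : ∀ g : C, ∃ c : ℂ, ρ g v₀ = c • v₀ := fun g => by
    obtain ⟨c, hc⟩ := hspan ⟨_, (hinv g g.2).1 v₀ hv₀L⟩
    exact ⟨c, (congrArg Subtype.val hc).symm⟩
  choose c hc using hline
  let χ : C →* ℂ :=
    { toFun := c
      map_one' := smul_left_injective ℂ hv₀ (show c 1 • v₀ = (1 : ℂ) • v₀ by
        rw [← hc, OneMemClass.coe_one, map_one, Module.End.one_apply, one_smul])
      map_mul' := fun a b => smul_left_injective ℂ hv₀ (show c (a * b) • v₀ = (c a * c b) • v₀ by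
        rw [← hc, Subgroup.coe_mul, map_mul, Module.End.mul_apply, hc, map_smul, hc, smul_smul,
          mul_comm (c a)]) }
  have htriv : ∀ (f : C →* ℂ) (g : C), g ∈ commutator C → f g = 1 := fun f g hg =>
    congrArg Units.val (show f.toHomUnits g = 1 from Abelianization.commutator_subset_ker _ hg)
  have hfixL : ∀ g : C, g ∈ commutator C → ∀ v ∈ L, ρ g v = v := by
    intro g hg v hv
    obtain ⟨a, ha⟩ := hspan ⟨v, hv⟩
    rw [show v = a • v₀ from (congrArg Subtype.val ha).symm, map_smul, hc,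
      show c g = 1 from htriv χ g hg, one_smul]
  -- on the plane
  let R : C →* Module.End ℂ W :=
    { toFun := fun g => (ρ g).restrict (hinv g g.2).2
      map_one' := LinearMap.ext fun v => Subtype.ext (by simp [LinearMap.restrict_apply])
      map_mul' := fun a b => LinearMap.ext fun v => Subtype.ext (by
        simp [LinearMap.restrict_apply, Module.End.mul_apply]) }
  let bW := Module.finBasisOfFinrankEq ℂ W hW2
  let M : C →* Matrix (Fin 2) (Fin 2) ℂ :=
    ((LinearMap.toMatrixAlgEquiv bW : _ ≃ₐ[ℂ] _) : _ →* _).comp R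
  have hMdet : ∀ g : C, g ∈ commutator C → (M g).det = 1 := fun g hg =>
    htriv (Matrix.detMonoidHom.comp M) g hg
  have hMinj : ∀ g : C, g ∈ commutator C → M g = 1 → g = 1 := by
    intro g hg hM
    have hR : R g = 1 := (LinearMap.toMatrixAlgEquiv bW).injective (hM.trans (map_one _).symm)
    refine Subtype.ext (hρ (LinearMap.ext fun v => ?_))
    rw [OneMemClass.coe_one, map_one, Module.End.one_apply]
    obtain ⟨a, ha, b, hb, rfl⟩ := Submodule.mem_sup.1
      (show v ∈ L ⊔ W by rw [hLW.sup_eq_top]; trivial)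
    rw [map_add, hfixL g hg a ha]
    congr 1
    exact congrArg Subtype.val (LinearMap.congr_fun hR ⟨b, hb⟩)
  let τ : Representation ℂ (commutator C) (Fin 2 → ℂ) :=
    (Matrix.toLinAlgEquiv' : Matrix (Fin 2) (Fin 2) ℂ ≃ₐ[ℂ] _).toMonoidHom.comp
      (M.comp (commutator C).subtype)
  by_cases h2 : 2 ∣ Nat.card (commutator C)
  swap
  · intro a ha b hb
    have := Char.Blichfeldt.commute_of_primes τ (fun g hg => Subtype.ext (hMinj g g.2
      (Matrix.toLinAlgEquiv'.injective (hg.trans (map_one _).symm)))) ⊤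
      (fun r hr hrd => by
        rw [Subgroup.card_top] at hrd
        rcases hr.eq_two_or_odd' with rfl | ho
        · exact absurd hrd h2
        · rcases ho with ⟨j, rfl⟩
          have := hr.two_le
          omega)
      (Subgroup.mem_top (⟨a, ha⟩ : commutator C)) (Subgroup.mem_top (⟨b, hb⟩ : commutator C))
    exact congrArg Subtype.val this
  exfalso
  haveI : Fact (Nat.Prime 2) := ⟨Nat.prime_two⟩
  obtain ⟨⟨i, hi⟩, hio⟩ := exists_prime_orderOf_dvd_card' 2 h2
  obtain ⟨⟨y, hy⟩, hyo⟩ := exists_prime_orderOf_dvd_card' l hdvd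
  rw [Subgroup.orderOf_mk] at hio hyo
  have hMi : M i = -1 := by
    refine mat_two_of_sq (by norm_num) _ ?_ (hMdet i hi) fun e => ?_
    · have := pow_orderOf_eq_one i
      rw [hio, sq] at this
      rw [← map_mul, this, map_one]
    · rw [hMinj i hi e, orderOf_one] at hio
      omega
  set Y := M y with hY
  have hYl : Y ^ l = 1 := by rw [hY, ← map_pow, ← hyo, pow_orderOf_eq_one, map_one]
  have hY1 : Y ≠ 1 := fun e => by
    rw [hMinj y hy e, orderOf_one] at hyo
    omega
  set E := Matrix.toLinAlgEquiv' (R := ℂ) Y with hE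
  obtain ⟨μ, hμ⟩ := Module.End.exists_eigenvalue E
  obtain ⟨w, hw⟩ := hμ.exists_hasEigenvector
  have hEpow : ∀ j : ℕ, (E ^ j) w = μ ^ j • w := by
    intro j
    induction j with
    | zero => simp
    | succ j ih => rw [pow_succ', Module.End.mul_apply, ih, map_smul, hw.apply_eq_smul, smul_smul,
        pow_succ]
  have hμl : μ ^ l = 1 := by
    have h1 := hEpow l
    rw [hE, ← map_pow, hYl, map_one, Module.End.one_apply] at h1
    exact smul_left_injective ℂ hw.2 (show μ ^ l • w = (1 : ℂ) • w by rw [one_smul]; exact h1.symm)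
  have hchar : ∀ (A : Matrix (Fin 2) (Fin 2) ℂ) (a : ℂ) (v : Fin 2 → ℂ), v ≠ 0 →
      A.mulVec v = a • v → A.det = 1 → a * a - (A 0 0 + A 1 1) * a + 1 = 0 := by
    intro A a v hv hA hd
    have hdet0 : (A - a • (1 : Matrix (Fin 2) (Fin 2) ℂ)).det = 0 :=
      Matrix.exists_mulVec_eq_zero_iff.1 ⟨v, hv, by
        rw [Matrix.sub_mulVec, Matrix.smul_mulVec, Matrix.one_mulVec, hA, sub_self]⟩
    rw [Matrix.det_fin_two] at hdet0 hd
    simp at hdet0
    linear_combination hdet0 - hd
  have hEw : Y.mulVec w = μ • w := by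
    have := hw.apply_eq_smul
    rwa [hE, Matrix.toLinAlgEquiv'_apply] at this
  have hμ1 : μ ≠ 1 := by
    intro e
    have ht := hchar Y μ w hw.2 hEw (hMdet y hy)
    rw [e] at ht
    have hd := hMdet y hy
    rw [← hY, Matrix.det_fin_two] at hd
    have hsq : (Y - 1) * (Y - 1) = 0 := by
      ext a b
      fin_cases a <;> fin_cases b <;> simp [Matrix.mul_apply, Fin.sum_univ_two]
      · linear_combination -(Y 0 0) * ht - hd
      · linear_combination -(Y 0 1) * ht
      · linear_combination -(Y 1 0) * ht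
      · linear_combination -(Y 1 1) * ht - hd
    have hp : ∀ j : ℕ, Y ^ j = 1 + (j : ℂ) • (Y - 1) := by
      intro j
      induction j with
      | zero => simp
      | succ j ih =>
        rw [pow_succ, ih]
        calc (1 + (j : ℂ) • (Y - 1)) * Y = Y + (j : ℂ) • ((Y - 1) * (Y - 1) + (Y - 1)) := by
              rw [add_mul, one_mul, smul_mul_assoc]
              congr 2
              noncomm_ring
          _ = _ := by rw [hsq, zero_add, Nat.cast_succ, add_smul, one_smul]; abel
    have := hp l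
    rw [hYl, left_eq_add, smul_eq_zero, sub_eq_zero] at this
    exact hY1 (this.resolve_left (Nat.cast_ne_zero.2 hl.ne_zero))
  have hprim : IsPrimitiveRoot μ l := by
    rw [IsPrimitiveRoot.iff_orderOf]
    exact orderOf_eq_prime hμl hμ1
  obtain ⟨m, rfl⟩ : ∃ m, l = 2 * m + 1 := by
    obtain ⟨m, hm⟩ := hl.odd_of_ne_two (by omega)
    exact ⟨m, hm⟩
  obtain ⟨ω, hω, hn1, hn2, hω3⟩ := exists_root_near m (by omega)
  obtain ⟨k, -, hk⟩ := hprim.eq_pow_of_pow_eq_one hω
  set z : C := i * y ^ k with hz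
  have hzc : z ∈ commutator C := (commutator C).mul_mem hi ((commutator C).pow_mem hy k)
  set ε : ℂ := -ω
  have hMz : M z = -(Y ^ k) := by rw [hz, map_mul, map_pow, hMi, neg_one_mul]
  have hMzw : (M z).mulVec w = ε • w := by
    have := hEpow k
    rw [hE, ← map_pow, Matrix.toLinAlgEquiv'_apply, hk] at this
    rw [hMz, Matrix.neg_mulVec, this, neg_smul]
  have hε0 : ε ≠ 0 := by
    intro e
    rw [e] at hω3 hn1
    simp at hn1
  have hplane : ∀ (ν : ℂ) (v : Fin 2 → ℂ), v ≠ 0 → (M z).mulVec v = ν • v → ν = ε ∨ ν = ε⁻¹ := by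
    intro ν v hv hνv
    have e1 := hchar _ ε w hw.2 hMzw (hMdet z hzc)
    have e2 := hchar _ ν v hv hνv (hMdet z hzc)
    have h0 : (ν - ε) * (ν * ε - 1) = 0 := by linear_combination ε * e2 - ν * e1
    rcases mul_eq_zero.1 h0 with h | h
    · exact Or.inl (sub_eq_zero.1 h)
    · exact Or.inr (eq_inv_of_mul_eq_one_left (sub_eq_zero.1 h))
  have hcen : (z : G) ∈ Subgroup.center G := by
    refine h.central_of_arc ρ hρ hv₀ (ε := 1) (by rw [one_smul]; exact hfixL z hzc v₀ hv₀L)
      norm_one fun ν v hv hνv => ?_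
    obtain ⟨a, ha, b, hb, rfl⟩ := Submodule.mem_sup.1
      (show v ∈ L ⊔ W by rw [hLW.sup_eq_top]; trivial)
    rw [map_add, hfixL z hzc a ha, smul_add] at hνv
    have hdiff : a - ν • a = ν • b - ρ z b := by
      rw [sub_eq_sub_iff_add_eq_add]
      linear_combination (norm := abel) hνv
    have hab0 : a - ν • a = 0 := by
      refine Submodule.disjoint_def.1 hLW.disjoint _ (L.sub_mem ha (L.smul_mem ν ha)) ?_
      rw [hdiff]
      exact W.sub_mem (W.smul_mem ν hb) ((hinv z z.2).2 b hb)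
    by_cases hb0 : b = 0
    · subst hb0
      rw [add_zero] at hv
      have : ((1 : ℂ) - ν) • a = 0 := by rw [sub_smul, one_smul]; exact hab0
      rw [sub_eq_zero.1 ((smul_eq_zero.1 this).resolve_right hv), sub_self, norm_zero]
      exact one_pos
    · have hbv : ρ z b = ν • b := (sub_eq_zero.1 (hdiff.symm.trans hab0)).symm
      have hR : R z ⟨b, hb⟩ = ν • (⟨b, hb⟩ : W) := Subtype.ext hbv
      have hM : (M z).mulVec (bW.repr ⟨b, hb⟩) = ν • (bW.repr ⟨b, hb⟩ : Fin 2 → ℂ) := by
        show (LinearMap.toMatrixAlgEquiv bW (R z)).mulVec _ = _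
        rw [show (LinearMap.toMatrixAlgEquiv bW (R z)) = LinearMap.toMatrix bW bW (R z) from rfl,
          LinearMap.toMatrix_mulVec_repr bW bW, hR, map_smul]
        rfl
      rcases hplane ν _ (fun e => hb0 (congrArg Subtype.val (bW.repr.map_eq_zero_iff.1
        (DFunLike.coe_injective e)))) hM with rfl | rfl
      · exact hn1
      · exact hn2
  refine hω3 ?_
  have h3 : z ^ 3 = 1 := Subtype.ext (h.exp3 z hcen)
  have h3' : (M z) ^ 3 = 1 := by rw [← map_pow, h3, map_one]
  have e : (M z ^ 3).mulVec w = ε ^ 3 • w := by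
    rw [pow_three, ← Matrix.mulVec_mulVec, ← Matrix.mulVec_mulVec, hMzw, Matrix.mulVec_smul, hMzw,
      Matrix.mulVec_smul, Matrix.mulVec_smul, hMzw, smul_smul, smul_smul, pow_three, mul_assoc]
  rw [h3', Matrix.one_mulVec] at e
  exact smul_left_injective ℂ hw.2 (show ε ^ 3 • w = (1 : ℂ) • w by rw [one_smul]; exact e.symm)

/-- The Sylow subgroup of such a centraliser is normal. -/
theorem centralizer_sylow_normal (h : Cover3 G) (hρ : Function.Injective ρ) {x : G}
    (hx : x ∉ Subgroup.center G) {l : ℕ} [hl : Fact l.Prime] (hl5 : 5 ≤ l)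
    {C : Subgroup G} (hC : C = Subgroup.centralizer ({x} : Set G)) (P : Sylow l C) :
    (P : Subgroup C).Normal := by
  classical
  haveI : Fintype C := Fintype.ofFinite C
  set D := commutator C with hD
  set m := Nat.card D / l ^ (Nat.card D).factorization l with hm
  have hmfac : l ^ (Nat.card D).factorization l * m = Nat.card D :=
    Nat.ordProj_mul_ordCompl_eq_self _ _
  have hml : ¬ l ∣ m := Nat.not_dvd_ordCompl hl.out Nat.card_pos.ne'
  have hcommD : l ∣ Nat.card D → ∀ a ∈ D, ∀ b ∈ D, a * b = b * a := by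
    rw [hD]
    subst hC
    exact h.derived_centralizer ρ hρ hx hl.out hl5
  -- the `l'`-part of `D`
  let B : Subgroup C :=
    { carrier := {d | d ∈ D ∧ d ^ m = 1}
      one_mem' := ⟨D.one_mem, one_pow m⟩
      mul_mem' := fun {a b} ha hb => ⟨D.mul_mem ha.1 hb.1, by
        by_cases hd : l ∣ Nat.card D
        · rw [(show Commute a b from hcommD hd a ha.1 b hb.1).mul_pow, ha.2, hb.2, one_mul]
        · rw [Nat.factorization_eq_zero_of_not_dvd hd, pow_zero, one_mul] at hmfac
          exact hmfac ▸ congrArg Subtype.val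
            (pow_card_eq_one' (x := (⟨a * b, D.mul_mem ha.1 hb.1⟩ : D)))⟩
      inv_mem' := fun {a} ha => ⟨D.inv_mem ha.1, by rw [inv_pow, ha.2, inv_one]⟩ }
  haveI hBn : B.Normal := ⟨fun b hb g => ⟨(inferInstance : D.Normal).conj_mem b hb.1 g, by
    rw [conj_pow, hb.2, mul_one, mul_inv_cancel]⟩⟩
  have hBl : ¬ l ∣ Nat.card B := fun hd => by
    obtain ⟨⟨b, hb⟩, hbo⟩ := exists_prime_orderOf_dvd_card' l hd
    rw [Subgroup.orderOf_mk] at hbo
    exact hml (hbo ▸ orderOf_dvd_of_pow_eq_one hb.2)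
  have hcen : ∀ u ∈ (P : Subgroup C), ∀ b ∈ B, Commute u b := by
    intro u hu b hb
    obtain ⟨j, hj⟩ := P.isPGroup' ⟨u, hu⟩
    exact Char.SmallSylow.commute_pprime (ρ.comp C.subtype) (hρ.comp C.subtype_injective)
      (by omega) j u (by simpa using congrArg Subtype.val hj) B hBl
      (by rw [Subgroup.normalizer_eq_top]; trivial) b hb
  have hnorm : D ≤ Subgroup.normalizer ((P : Subgroup C) : Set C) := by
    intro d hd
    by_cases hdl : l ∣ Nat.card D
    swap
    · have hm' : m = Nat.card D := by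
        rwa [Nat.factorization_eq_zero_of_not_dvd hdl, pow_zero, one_mul] at hmfac
      have hdB : d ∈ B := ⟨hd, by
        rw [hm']; exact congrArg Subtype.val (pow_card_eq_one' (x := (⟨d, hd⟩ : D)))⟩
      exact Subgroup.centralizer_le_normalizer _
        (Subgroup.mem_centralizer_iff.mpr fun u hu => (hcen u hu d hdB).eq)
    set N := l ^ (Nat.card D).factorization l with hN
    have hco : N.Coprime m := Nat.Coprime.pow_left _ (hl.out.coprime_iff_not_dvd.2 hml)
    have hcard : d ^ (N * m) = 1 := by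
      rw [hmfac]; exact congrArg Subtype.val (pow_card_eq_one' (x := (⟨d, hd⟩ : D)))
    have h1 : d ^ N ∈ B := ⟨D.pow_mem hd N, by rw [← pow_mul, hcard]⟩
    have h2 : d ^ m ∈ (P : Subgroup C) := by
      let A : Subgroup C :=
        { carrier := {e | e ∈ D ∧ e ^ N = 1}
          one_mem' := ⟨D.one_mem, one_pow N⟩
          mul_mem' := fun {a b} ha hb => ⟨D.mul_mem ha.1 hb.1, by
            rw [(show Commute a b from hcommD hdl a ha.1 b hb.1).mul_pow, ha.2, hb.2, one_mul]⟩
          inv_mem' := fun {a} ha => ⟨D.inv_mem ha.1, by rw [inv_pow, ha.2, inv_one]⟩ }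
      haveI : A.Normal := ⟨fun b hb g => ⟨(inferInstance : D.Normal).conj_mem b hb.1 g, by
        rw [conj_pow, hb.2, mul_one, mul_inv_cancel]⟩⟩
      have hA : IsPGroup l A := fun e => ⟨(Nat.card D).factorization l, Subtype.ext e.2.2⟩
      exact hA.le_sylow_of_normal P ⟨D.pow_mem hd m, by rw [← pow_mul, mul_comm m N, hcard]⟩
    have hn1 : d ^ N ∈ Subgroup.normalizer ((P : Subgroup C) : Set C) :=
      Subgroup.centralizer_le_normalizer _
        (Subgroup.mem_centralizer_iff.mpr fun u hu => (hcen u hu _ h1).eq)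
    have hn2 : d ^ m ∈ Subgroup.normalizer ((P : Subgroup C) : Set C) := Subgroup.le_normalizer h2
    have hgcd := Nat.gcd_eq_gcd_ab N m
    rw [hco.gcd_eq_one, Nat.cast_one] at hgcd
    have : d = (d ^ N) ^ Nat.gcdA N m * (d ^ m) ^ Nat.gcdB N m := by
      rw [← zpow_natCast d N, ← zpow_natCast d m, ← zpow_mul, ← zpow_mul, ← zpow_add, ← hgcd,
        zpow_one]
    rw [this]
    exact Subgroup.mul_mem _ (Subgroup.zpow_mem _ hn1 _) (Subgroup.zpow_mem _ hn2 _)
  haveI : (D ⊔ (P : Subgroup C)).Normal := Subgroup.Normal.of_commutator_le _ le_sup_left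
  refine Char.SmallSylow.normal_of_le P (D ⊔ (P : Subgroup C)) le_sup_right fun Q => ?_
  set P' : Sylow l ↥(D ⊔ (P : Subgroup C)) := P.subtype le_sup_right
  have hPn : (P' : Subgroup ↥(D ⊔ (P : Subgroup C))).Normal := by
    rw [Sylow.coe_subtype]
    exact Subgroup.normal_subgroupOf_of_le_normalizer (sup_le hnorm Subgroup.le_normalizer)
  haveI := Sylow.unique_of_normal _ hPn
  rw [Subsingleton.elim Q P']
  exact hPn

/-- A Sylow subgroup for a prime `l ≥ 5` has order less than sixteen. -/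
theorem sylow_card_lt (h : Cover3 G) (hρ : Function.Injective ρ) {l : ℕ} [hl : Fact l.Prime]
    (hl5 : 5 ≤ l) (P : Sylow l G) (hdvd : l ∣ Nat.card G) : Nat.card (P : Subgroup G) < 16 := by
  classical
  haveI := Fintype.ofFinite G
  haveI := Fintype.ofFinite (P : Subgroup G)
  have hinj : ∀ g, ρ g = 1 → g = 1 := fun g hg => hρ (hg.trans (map_one ρ).symm)
  have hPab : ∀ a ∈ (P : Subgroup G), ∀ b ∈ (P : Subgroup G), a * b = b * a := fun a ha b hb =>
    Char.Blichfeldt.commute_of_primes ρ hinj (P : Subgroup G) (fun r hr hrd => by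
      obtain ⟨k, hk⟩ := IsPGroup.iff_card.mp P.isPGroup'
      rw [hk] at hrd
      rw [(Nat.prime_dvd_prime_iff_eq hr hl.out).mp (hr.dvd_of_dvd_pow hrd)]
      omega) ha hb
  have hPZ := h.inf_center (l := l) (by omega) (P : Subgroup G) P.isPGroup'
  have hnc : ∀ v ∈ (P : Subgroup G), v ≠ 1 → v ∉ Subgroup.center G := fun v hv h1 hz =>
    h1 ((Subgroup.mem_bot).1 (hPZ ▸ ⟨hv, hz⟩))
  have hPne : (P : Subgroup G) ≠ ⊥ := P.ne_bot_of_dvd_card hdvd
  have hall : ∀ K : Subgroup G, K.Normal → (P : Subgroup G) ≤ K → K = ⊤ := fun K hK hPK => by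
    haveI := hK
    refine (h.normal_cases K).resolve_left fun hc => hPne ?_
    rw [← hPZ, eq_comm, inf_eq_left]
    exact hPK.trans hc
  have hone : ∀ g : G, g ∉ Subgroup.center G → ∀ a b : G,
      Subgroup.centralizer ({g} : Set G) ⊓ (P : Subgroup G).map (MulAut.conj a).toMonoidHom ≠ ⊥ →
      Subgroup.centralizer ({g} : Set G) ⊓ (P : Subgroup G).map (MulAut.conj b).toMonoidHom ≠ ⊥ →
      (P : Subgroup G).map (MulAut.conj a).toMonoidHom =
        (P : Subgroup G).map (MulAut.conj b).toMonoidHom := by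
    intro g hg a b ha hb
    set Pa : Sylow l G := P.mapSurjective (f := (MulAut.conj a).toMonoidHom) (MulAut.conj a).surjective
    set Pb : Sylow l G := P.mapSurjective (f := (MulAut.conj b).toMonoidHom) (MulAut.conj b).surjective
    show (Pa : Subgroup G) = (Pb : Subgroup G)
    obtain ⟨x, hx, hx1⟩ := (Subgroup.bot_or_exists_ne_one
      (Subgroup.centralizer ({g} : Set G) ⊓ (Pa : Subgroup G))).resolve_left ha
    obtain ⟨y, hy, hy1⟩ := (Subgroup.bot_or_exists_ne_one
      (Subgroup.centralizer ({g} : Set G) ⊓ (Pb : Subgroup G))).resolve_left hb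
    have hab : ∀ (S : Sylow l G), ∀ u ∈ (S : Subgroup G), ∀ v ∈ (S : Subgroup G),
        u * v = v * u ∧ (u ≠ 1 → u ∉ Subgroup.center G) := by
      intro S u hu v hv
      obtain ⟨c, hc⟩ := MulAction.exists_smul_eq G P S
      have hcm : (S : Subgroup G) = (P : Subgroup G).map (MulAut.conj c).toMonoidHom := by
        rw [← hc]; rfl
      rw [hcm] at hu hv
      obtain ⟨u', hu', rfl⟩ := hu
      obtain ⟨v', hv', rfl⟩ := hv
      refine ⟨by rw [← map_mul, ← map_mul, hPab u' hu' v' hv'], fun h1 hz => ?_⟩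
      refine hnc u' hu' (fun e => h1 (by rw [e, map_one])) ?_
      have := (inferInstance : (Subgroup.center G).Normal).conj_mem _ hz c⁻¹
      simpa [mul_assoc] using this
    -- the `l`-elements of the centraliser of a noncentral element form one Sylow subgroup
    have huniq : ∀ e : G, e ∉ Subgroup.center G → ∃ S : Sylow l G,
        ∀ w ∈ Subgroup.centralizer ({e} : Set G), (∃ T : Sylow l G, w ∈ (T : Subgroup G)) →
          w ∈ (S : Subgroup G) := by
      intro e he
      set L := Subgroup.centralizer ({e} : Set G)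
      obtain ⟨S0⟩ : Nonempty (Sylow l L) := inferInstance
      obtain ⟨S, hS⟩ := (S0.isPGroup'.map L.subtype).exists_le_sylow
      haveI := Sylow.unique_of_normal S0 (h.centralizer_sylow_normal ρ hρ he hl5 rfl S0)
      refine ⟨S, fun w hw ⟨T, hwT⟩ => ?_⟩
      obtain ⟨R, hR⟩ :=
        ((T.isPGroup'.to_le (Subgroup.zpowers_le.2 hwT)).comap_subtype (K := L)).exists_le_sylow
      have h1 := hR (show (⟨w, hw⟩ : L) ∈ (Subgroup.zpowers w).comap L.subtype from
        Subgroup.mem_zpowers w)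
      rw [Subsingleton.elim R S0] at h1
      exact hS ⟨_, h1, rfl⟩
    -- all of `S` commutes with an element of `S`
    have hmem : ∀ (S : Sylow l G) (u : G), u ∈ (S : Subgroup G) → u ≠ 1 → ∀ T : Sylow l G,
        u ∈ (T : Subgroup G) → (S : Subgroup G) = T := by
      intro S u hu hu1 T huT
      obtain ⟨R, hR⟩ := huniq u ((hab S u hu u hu).2 hu1)
      have hle : ∀ A : Sylow l G, u ∈ (A : Subgroup G) → (A : Subgroup G) = R := fun A hA => by
        refine Subgroup.eq_of_le_of_card_ge (fun v hv => hR v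
          (Subgroup.mem_centralizer_singleton_iff.mpr (hab A v hv u hA).1) ⟨A, hv⟩) ?_
        rw [A.card_eq_multiplicity, R.card_eq_multiplicity]
      rw [hle S hu, hle T huT]
    obtain ⟨R, hR⟩ := huniq g hg
    rw [hmem Pa x hx.2 hx1 R (hR x hx.1 ⟨Pa, hx.2⟩), hmem Pb y hy.2 hy1 R (hR y hy.1 ⟨Pb, hy.2⟩)]
  obtain ⟨x, hxP, hx1⟩ := (Subgroup.bot_or_exists_ne_one _).resolve_left hPne
  obtain ⟨m, hm⟩ := exists_decomposition (isCharacter_character ρ)
  obtain ⟨φ, hφ, hφx⟩ : ∃ φ : IrrCharacter G, m φ ≠ 0 ∧ (φ : G → ℂ) x ≠ (φ : G → ℂ) 1 := by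
    by_contra hno
    push Not at hno
    refine hx1 (Char.SmallSylow.eq_one_of_char ρ hρ ?_)
    have e1 := congrFun hm x
    have e2 := congrFun hm 1
    simp only [Finset.sum_apply, Pi.smul_apply] at e1 e2
    rw [e1, ← Char.SmallSylow.char_one_nat ρ, e2]
    refine Finset.sum_congr rfl fun φ _ => ?_
    by_cases h0 : m φ = 0
    · rw [h0, zero_smul, zero_smul]
    · rw [hno φ h0]
  have hd2 : 2 ≤ Char.deg (φ : G → ℂ) := by
    by_contra hlt
    have hd0 : Char.deg (φ : G → ℂ) ≠ 0 := fun h0 => irr_one_ne_zero φ.2 (by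
      rw [char_one_eq_deg (irr_isCharacter φ.2), h0, Nat.cast_zero])
    have h1 : (φ : G → ℂ) 1 = 1 := by
      rw [char_one_eq_deg (irr_isCharacter φ.2), show Char.deg (φ : G → ℂ) = 1 by omega, Nat.cast_one]
    obtain ⟨f, hf⟩ := exists_hom_of_degree_one (irr_isCharacter φ.2) h1
    refine hφx ?_
    rw [hf]
    show ((f x : ℂˣ) : ℂ) = ((f 1 : ℂˣ) : ℂ)
    rw [h.monoidHom_eq_one f x, map_one]
  have hb := Char.AbTI.succ_sq_deg_gt (P : Subgroup G) hPab hPZ hone φ hd2 hall
  have hdle : Char.deg (φ : G → ℂ) ≤ 3 :=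
    Char.SmallSylow.deg_le m hm (d := 3) (Char.SmallSylow.char_one_nat ρ) hφ
  have : Nat.card (P : Subgroup G) < (1 + Char.deg (φ : G → ℂ)) ^ 2 := by exact_mod_cast hb
  exact lt_of_lt_of_le this (Nat.pow_le_pow_left (show 1 + Char.deg (φ : G → ℂ) ≤ 4 by omega) 2)

theorem sq_not_dvd (h : Cover3 G) (hρ : Function.Injective ρ) {l : ℕ} [hl : Fact l.Prime]
    (hl5 : 5 ≤ l) : ¬ l ^ 2 ∣ Nat.card G := by
  intro h2
  obtain ⟨P⟩ := (inferInstance : Nonempty (Sylow l G))
  have hlt := h.sylow_card_lt ρ hρ hl5 P ((dvd_pow_self l two_ne_zero).trans h2)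
  rw [P.card_eq_multiplicity] at hlt
  have h1 := (hl.out.pow_dvd_iff_le_factorization Nat.card_pos.ne').1 h2
  have h3 : l ^ 2 ≤ l ^ (Nat.card G).factorization l := Nat.pow_le_pow_right hl.out.pos h1
  have h4 : 5 ^ 2 ≤ l ^ 2 := Nat.pow_le_pow_left hl5 2
  omega

/-- The prime divisors: `5` or `7`, to the first power, and no larger one. -/
theorem five_or_seven (h : Cover3 G) (hρ : Function.Injective ρ) :
    (7 ∣ Nat.card G ∧ ¬ 7 ^ 2 ∣ Nat.card G) ∨
      (5 ∣ Nat.card G ∧ ¬ 5 ^ 2 ∣ Nat.card G ∧ ¬ 7 ∣ Nat.card G) := by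
  haveI : Fact (Nat.Prime 5) := ⟨by norm_num⟩
  haveI : Fact (Nat.Prime 7) := ⟨by norm_num⟩
  by_cases h7 : 7 ∣ Nat.card G
  · exact Or.inl ⟨h7, h.sq_not_dvd ρ hρ (by norm_num)⟩
  refine Or.inr ⟨?_, h.sq_not_dvd ρ hρ le_rfl, h7⟩
  by_contra h5
  refine h.not_solvable
    (Char.isSolvable_of_two_primes Nat.prime_two Nat.prime_three _ rfl fun r hr hrd => ?_)
  have hle := prime_le_seven h ρ hρ hr hrd
  have h5' : r ≠ 5 := fun e => h5 (e ▸ hrd)
  have h7' : r ≠ 7 := fun e => h7 (e ▸ hrd)
  interval_cases r <;> norm_num at *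

end Cover3

end Cfsg.Agent.PThree
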