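import Cfsg.Agent.Lib.Classical.PThree.Basic
import Cfsg.Agent.Lib.Classical.PThree.CoprimeSylow
import Cfsg.Agent.Lib.Char.HalfDegree.Group
import Cfsg.Agent.Lib.Solv.FHeight.Irred
import Cfsg.Agent.Lib.Fusion.Dickson
import Mathlib.RingTheory.Jacobson.Ring
import Mathlib.FieldTheory.Finite.Basic

/-!
# Finite groups of degree three in characteristic five

An absolutely irreducible group spans the matrix algebra; a finite group with a faithful irreducible
representation over an algebraically closed field of characteristic five has one over a smallest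
finite field of that characteristic, and its image contains no transvection.
-/

set_option autoImplicit false
set_option linter.style.haveILetI false
set_option linter.unusedSectionVars false

open Module Matrix Cfsg Cfsg.Geo Cfsg.Agent
open scoped MatrixGroups commutatorElement

namespace Cfsg.Agent.PThree

universe u v

/-- Jacobson density: an irreducible group with scalar commutant spans the matrix algebra. -/
theorem span_of_absIrred {U : Type u} [Group U] {F : Type v} [Field F]
    (ρ : U →* Matrix (Fin 3) (Fin 3) F) (h : ActsAbsolutelyIrreducibly (Set.range ρ)) :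
    Submodule.span F (Set.range ρ) = ⊤ := by
  classical
  let σ : Representation F U (Fin 3 → F) :=
    (Matrix.toLinAlgEquiv' : Matrix (Fin 3) (Fin 3) F ≃ₐ[F] _).toMonoidHom.comp ρ
  haveI : σ.IsIrreducible :=
    { toNontrivial := ⟨⟨⊥, ⊤, fun e => by
        have h1 : (Pi.single 0 1 : Fin 3 → F) ∈ (⊥ : Subrepresentation σ).toSubmodule := by
          rw [e]; trivial
        simpa using congrFun ((Submodule.mem_bot F).1 h1) 0⟩⟩
      eq_bot_or_eq_top := fun W => by
        rcases h.1 W.toSubmodule (by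
          rintro _ ⟨g, rfl⟩ _ ⟨w, hw, rfl⟩
          exact W.apply_mem_toSubmodule g hw) with e | e
        · exact Or.inl (Subrepresentation.toSubmodule_injective e)
        · exact Or.inr (Subrepresentation.toSubmodule_injective e) }
  have hsc : ∀ f : Module.End (MonoidAlgebra F U) σ.asModule, ∃ c : F, ∀ v, f v = c • v := by
    intro f
    let f' : (Fin 3 → F) →ₗ[F] (Fin 3 → F) :=
      σ.asModuleEquiv.toLinearMap ∘ₗ (f.restrictScalars F) ∘ₗ σ.asModuleEquiv.symm.toLinearMap
    obtain ⟨c, hc⟩ := h.2 (LinearMap.toMatrix' f') (by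
      rintro _ ⟨g, rfl⟩
      apply Matrix.toLin'.injective
      rw [Matrix.toLin'_mul, Matrix.toLin'_mul, Matrix.toLin'_toMatrix']
      refine LinearMap.ext fun w => ?_
      have hg : ∀ w : Fin 3 → F, σ.asModuleEquiv.symm (σ g w) =
          MonoidAlgebra.of F U g • σ.asModuleEquiv.symm w := fun w =>
        σ.asModuleEquiv.injective (by simp [Representation.asModuleEquiv_map_smul])
      show σ.asModuleEquiv (f (σ.asModuleEquiv.symm (σ g w))) =
        σ g (σ.asModuleEquiv (f (σ.asModuleEquiv.symm w)))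
      rw [hg, map_smul, Representation.asModuleEquiv_map_smul, Representation.asAlgebraHom_of])
    refine ⟨c, fun v => σ.asModuleEquiv.injective ?_⟩
    have hf' : f' = c • LinearMap.id := by
      have := congrArg Matrix.toLin' hc
      rwa [Matrix.toLin'_toMatrix', map_smul, Matrix.toLin'_one] at this
    have := LinearMap.congr_fun hf' (σ.asModuleEquiv v)
    simpa [f'] using this
  rw [eq_top_iff]
  rintro T -
  haveI : FiniteDimensional F σ.asModule := inferInstanceAs (FiniteDimensional F (Fin 3 → F))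
  let f : Module.End (Module.End (MonoidAlgebra F U) σ.asModule) σ.asModule :=
    { toFun := fun v => σ.asModuleEquiv.symm (T *ᵥ σ.asModuleEquiv v)
      map_add' := fun a b => by simp [Matrix.mulVec_add]
      map_smul' := fun e v => by
        obtain ⟨c, hc⟩ := hsc e
        simp [Module.End.smul_def, hc, Matrix.mulVec_smul] }
  let b := Module.finBasis F σ.asModule
  obtain ⟨r, hr⟩ := jacobson_density f (Finset.univ.image b)
  have hT : Matrix.toLinAlgEquiv' T = σ.asAlgebraHom r := by
    refine (b.map σ.asModuleEquiv).ext fun i => ?_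
    have h := congrArg σ.asModuleEquiv (hr (b i) (by simp))
    rw [Representation.asModuleEquiv_map_smul] at h
    simpa [f] using h
  have hmem : ∀ r, σ.asAlgebraHom r ∈ (Submodule.span F (Set.range ρ)).map
      (Matrix.toLinAlgEquiv' : Matrix (Fin 3) (Fin 3) F ≃ₐ[F] _).toLinearMap := by
    intro r
    induction r using MonoidAlgebra.induction_on with
    | of g =>
      rw [Representation.asAlgebraHom_of]
      exact ⟨ρ g, Submodule.subset_span ⟨g, rfl⟩, rfl⟩
    | add a b ha hb => rw [map_add]; exact add_mem ha hb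
    | smul c a ha => rw [map_smul]; exact Submodule.smul_mem _ c ha
  obtain ⟨X, hX, hXT⟩ := hmem r
  exact (Matrix.toLinAlgEquiv'.injective (hXT.trans hT.symm)) ▸ hX

theorem absIrred_of_span {U : Type u} [Group U] {F : Type v} [Field F]
    (ρ : U →* Matrix (Fin 3) (Fin 3) F) (h : Submodule.span F (Set.range ρ) = ⊤) :
    ActsAbsolutelyIrreducibly (Set.range ρ) := by
  classical
  refine ⟨fun W hW => ?_, fun M hM => ?_⟩
  · have hall : ∀ A : Matrix (Fin 3) (Fin 3) F, ∀ w ∈ W, A *ᵥ w ∈ W := by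
      intro A w hw
      have hA : A ∈ Submodule.span F (Set.range ρ) := h ▸ Submodule.mem_top
      induction hA using Submodule.span_induction with
      | mem x hx => exact hW x hx ⟨w, hw, Matrix.toLin'_apply x w⟩
      | zero => rw [Matrix.zero_mulVec]; exact W.zero_mem
      | add a b _ _ ha hb => rw [Matrix.add_mulVec]; exact W.add_mem ha hb
      | smul c a _ ha => rw [Matrix.smul_mulVec]; exact W.smul_mem c ha
    by_cases hb : W = ⊥
    · exact Or.inl hb
    · obtain ⟨w, hw, hw0⟩ := W.ne_bot_iff.1 hb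
      obtain ⟨j, hj⟩ := Function.ne_iff.1 hw0
      simp only [Pi.zero_apply] at hj
      refine Or.inr (eq_top_iff.2 fun v _ => ?_)
      have hA : Matrix.vecMulVec v (Pi.single j (w j)⁻¹) *ᵥ w = v := by
        rw [Matrix.vecMulVec_mulVec, single_dotProduct, inv_mul_cancel₀ hj]
        simp
      exact hA ▸ hall _ w hw
  · have hall : ∀ A : Matrix (Fin 3) (Fin 3) F, Commute A M := by
      intro A
      have hA : A ∈ Submodule.span F (Set.range ρ) := h ▸ Submodule.mem_top
      induction hA using Submodule.span_induction with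
      | mem x hx => exact (hM x hx).symm
      | zero => exact Commute.zero_left M
      | add a b _ _ ha hb => exact ha.add_left hb
      | smul c a _ ha => exact ha.smul_left c
    obtain ⟨c, hc⟩ := (Matrix.mem_range_scalar_iff_commute_single' (M := M)).2 fun i j => hall _
    exact ⟨c, by rw [← hc, Matrix.smul_one_eq_diagonal]; rfl⟩

variable {F : Type v} [Field F] {P : Subgroup (GL (Fin 3) F)}

theorem range_coe (P : Subgroup (GL (Fin 3) F)) :
    Set.range ((Units.coeHom _).comp P.subtype) = matrixSet P := by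
  ext x
  constructor
  · rintro ⟨g, rfl⟩; exact ⟨g, g.2, rfl⟩
  · rintro ⟨g, hg, rfl⟩; exact ⟨⟨g, hg⟩, rfl⟩

/-- The centre consists of the scalar elements. -/
theorem center_eq (habs : ActsAbsolutelyIrreducibly (matrixSet P)) :
    Subgroup.center P = (scalars (Fin 3) F).subgroupOf P := by
  ext z
  rw [Subgroup.mem_subgroupOf, mem_scalars_iff, Subgroup.mem_center_iff]
  constructor
  · intro hz
    obtain ⟨c, hc⟩ := habs.2 ((z : GL (Fin 3) F) : Matrix (Fin 3) (Fin 3) F) (by
      rintro _ ⟨g, hg, rfl⟩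
      exact (congrArg (fun w : P => ((w : GL (Fin 3) F) : Matrix (Fin 3) (Fin 3) F))
        (hz ⟨g, hg⟩)).symm)
    have hc0 : c ≠ 0 := fun e => (z : GL (Fin 3) F).ne_zero (by rw [hc, e, zero_smul])
    exact ⟨Units.mk0 c hc0, hc⟩
  · rintro ⟨c, hc⟩ g
    refine Subtype.ext (Units.ext ?_)
    rw [Subgroup.coe_mul, Subgroup.coe_mul, Units.val_mul, Units.val_mul, hc, Matrix.mul_smul,
      Matrix.smul_mul, Matrix.mul_one, Matrix.one_mul]

theorem Ctx.commutator_eq_top (h : Ctx P) : commutator P = ⊤ := by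
  refine Subgroup.map_injective P.subtype_injective ?_
  rw [commutator_def, Subgroup.map_commutator, ← MonoidHom.range_eq_map, Subgroup.range_subtype]
  exact h.perfect

/-- A group with the hypotheses is a `Cover3`. -/
theorem Ctx.cover3 (h : Ctx P) : Cover3 P where
  simple := by
    haveI := h.simple
    haveI : Nontrivial (P ⧸ (scalars (Fin 3) F).subgroupOf P) := h.simple.toNontrivial
    haveI : Nontrivial (P ⧸ Subgroup.center P) :=
      (QuotientGroup.quotientMulEquivOfEq (center_eq h.absIrred)).toEquiv.nontrivial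
    exact IsSimpleGroup.isSimpleGroup_of_surjective
      (QuotientGroup.quotientMulEquivOfEq (center_eq h.absIrred).symm).toMonoidHom
      (QuotientGroup.quotientMulEquivOfEq (center_eq h.absIrred).symm).surjective
  noncomm := by
    by_contra hne
    push Not at hne
    refine h.nonabelian ⟨⟨fun a b => ?_⟩⟩
    obtain ⟨x, rfl⟩ := QuotientGroup.mk_surjective a
    obtain ⟨y, rfl⟩ := QuotientGroup.mk_surjective b
    rw [← QuotientGroup.mk_mul, ← QuotientGroup.mk_mul, QuotientGroup.eq, ← center_eq h.absIrred]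
    have := hne y⁻¹ x⁻¹
    simpa [mul_assoc] using this
  exp3 := fun z hz => by
    rw [center_eq h.absIrred, Subgroup.mem_subgroupOf, mem_scalars_iff] at hz
    obtain ⟨c, hc⟩ := hz
    have hd : ((z : GL (Fin 3) F) : Matrix (Fin 3) (Fin 3) F).det = 1 :=
      congrArg Units.val (MonoidHom.mem_ker.1 (h.le_sl z.2))
    rw [hc, Matrix.det_smul, Fintype.card_fin, Matrix.det_one, mul_one] at hd
    refine Subtype.ext (Units.ext ?_)
    rw [SubmonoidClass.coe_pow, Units.val_pow_eq_pow_val, hc, smul_pow, one_pow, hd, one_smul]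
    rfl
  perfect := h.commutator_eq_top

variable {G : Type u} [Group G] [Finite G]

/-- An absolutely irreducible image of such a group satisfies the standing hypotheses. -/
theorem Cover3.ctx_range (h : Cover3 G) (f : G →* GL (Fin 3) F) (hf : Function.Injective f)
    (habs : ActsAbsolutelyIrreducibly (matrixSet f.range)) :
    Ctx f.range ∧
      Nonempty ((G ⧸ Subgroup.center G) ≃* (f.range ⧸ (scalars (Fin 3) F).subgroupOf f.range)) := by
  let e : G ≃* f.range := MonoidHom.ofInjective hf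
  have hcen : (Subgroup.center G).map e.toMonoidHom = (scalars (Fin 3) F).subgroupOf f.range := by
    rw [← center_eq habs]
    ext x
    obtain ⟨g, rfl⟩ := e.surjective x
    rw [Subgroup.mem_map_equiv, MulEquiv.symm_apply_apply, Subgroup.mem_center_iff,
      Subgroup.mem_center_iff]
    constructor
    · intro hg y
      obtain ⟨b, rfl⟩ := e.surjective y
      rw [← map_mul, ← map_mul, hg b]
    · intro hg b
      exact e.injective (by rw [map_mul, map_mul, hg (e b)])
  let E := QuotientGroup.congr (Subgroup.center G) ((scalars (Fin 3) F).subgroupOf f.range) e hcen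
  have hperf : ⁅f.range, f.range⁆ = f.range := by
    rw [MonoidHom.range_eq_map, ← Subgroup.map_commutator, ← commutator_def, h.perfect]
  refine ⟨⟨?_, hperf, ?_, ?_, habs⟩, ⟨E⟩⟩
  · rintro x ⟨g, rfl⟩
    exact h.monoidHom_eq_one (Matrix.GeneralLinearGroup.det.comp f) g
  · haveI := h.simple
    haveI : Nontrivial (G ⧸ Subgroup.center G) := h.simple.toNontrivial
    haveI : Nontrivial (f.range ⧸ (scalars (Fin 3) F).subgroupOf f.range) :=
      E.symm.toEquiv.nontrivial
    exact IsSimpleGroup.isSimpleGroup_of_surjective E.toMonoidHom E.surjective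
  · intro hc
    obtain ⟨a, b, hab⟩ := h.noncomm
    refine hab ((QuotientGroup.eq_one_iff _).1 (E.injective ?_))
    haveI := hc
    rw [QuotientGroup.mk_mul, QuotientGroup.mk_mul, QuotientGroup.mk_mul, QuotientGroup.mk_inv,
      QuotientGroup.mk_inv, map_mul, map_mul, map_mul, map_inv, map_inv, mul_comm' (E a),
      mul_inv_cancel_right, mul_inv_cancel, map_one]

/-- Some nine elements have linearly independent matrices. -/
def Model {K : Type v} [Field K] (σ : G →* Matrix (Fin 3) (Fin 3) K) : Prop :=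
  Function.Injective σ ∧ ∃ f : Fin 3 × Fin 3 → G,
    (Matrix.of fun i j : Fin 3 × Fin 3 => σ (f i) j.1 j.2).det ≠ 0

theorem span_of_det {U : Type u} [Group U] {K : Type v} [Field K]
    (σ : U →* Matrix (Fin 3) (Fin 3) K) (f : Fin 3 × Fin 3 → U)
    (hd : (Matrix.of fun i j : Fin 3 × Fin 3 => σ (f i) j.1 j.2).det ≠ 0) :
    Submodule.span K (Set.range σ) = ⊤ := by
  rw [eq_top_iff]
  intro T _
  set B := Matrix.of fun i j : Fin 3 × Fin 3 => σ (f i) j.1 j.2 with hB
  have hT : T = ∑ i, ((fun j : Fin 3 × Fin 3 => T j.1 j.2) ᵥ* B⁻¹) i • σ (f i) := by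
    ext a b
    have h1 : (((fun j : Fin 3 × Fin 3 => T j.1 j.2) ᵥ* B⁻¹) ᵥ* B) (a, b) = T a b := by
      rw [Matrix.vecMul_vecMul, Matrix.nonsing_inv_mul _ (isUnit_iff_ne_zero.2 hd), Matrix.vecMul_one]
    rw [Matrix.sum_apply, ← h1]
    rfl
  rw [hT]
  exact Submodule.sum_mem _ fun i _ => Submodule.smul_mem _ _ (Submodule.subset_span ⟨f i, rfl⟩)

theorem exists_det_of_span {U : Type u} [Group U] {K : Type v} [Field K]
    (σ : U →* Matrix (Fin 3) (Fin 3) K) (h : Submodule.span K (Set.range σ) = ⊤) :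
    ∃ f : Fin 3 × Fin 3 → U,
      (Matrix.of fun i j : Fin 3 × Fin 3 => σ (f i) j.1 j.2).det ≠ 0 := by
  classical
  obtain ⟨s, hs, hspan, hli⟩ := exists_linearIndependent K (Set.range σ)
  haveI : Fintype s := hli.setFinite.fintype
  let b : Basis s K (Matrix (Fin 3) (Fin 3) K) := Basis.mk hli (by
    rw [Subtype.range_coe_subtype, Set.setOf_mem_eq, hspan, h])
  have hcard : Fintype.card s = Fintype.card (Fin 3 × Fin 3) := by
    rw [← Module.finrank_eq_card_basis b, Module.finrank_matrix, Module.finrank_self, mul_one,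
      Fintype.card_prod]
  let e : Fin 3 × Fin 3 ≃ s := (Fintype.equivOfCardEq hcard).symm
  choose f hf using fun i : Fin 3 × Fin 3 => hs (e i).2
  refine ⟨f, fun hd => ?_⟩
  obtain ⟨c, hc, hc0⟩ := Matrix.exists_vecMul_eq_zero_iff.2 hd
  refine hc (funext fun i => ?_)
  have hli' : LinearIndependent K fun i => σ (f i) := by
    rw [show (fun i => σ (f i)) = (fun x : s => (x : Matrix (Fin 3) (Fin 3) K)) ∘ e from
      funext fun i => hf i]
    exact hli.comp e e.injective
  refine Fintype.linearIndependent_iff.1 hli' c ?_ i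
  ext a b
  have := congrFun hc0 (a, b)
  rw [Matrix.sum_apply]
  exact this

theorem Model.absIrred {K : Type v} [Field K] {σ : G →* Matrix (Fin 3) (Fin 3) K} (h : Model σ) :
    ActsAbsolutelyIrreducibly (Set.range σ) :=
  let ⟨_, f, hf⟩ := h
  absIrred_of_span σ (span_of_det σ f hf)

/-- Specialisation to a finite field. -/
theorem Cover3.exists_finite_model (h : Cover3 G) {k : Type} [Field k] [CharP k 5]
    (σ : G →* Matrix (Fin 3) (Fin 3) k) (hσ : Model σ) :
    ∃ (K : Type) (_ : Field K) (_ : Fintype K) (_ : CharP K 5) (τ : G →* Matrix (Fin 3) (Fin 3) K),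
      Model τ := by
  classical
  haveI : Fact (Nat.Prime 5) := ⟨by norm_num⟩
  letI : Algebra (ZMod 5) k := ZMod.algebra k 5
  obtain ⟨hinj, f, hf⟩ := hσ
  set d := (Matrix.of fun i j : Fin 3 × Fin 3 => σ (f i) j.1 j.2).det with hd
  set S : Set k := insert d⁻¹ (Set.range fun t : G × Fin 3 × Fin 3 => σ t.1 t.2.1 t.2.2) with hSdef
  have hS : S.Finite := (Set.finite_range _).insert _
  set A := Algebra.adjoin (ZMod 5) S
  haveI : Algebra.FiniteType (ZMod 5) A := by
    refine (Subalgebra.fg_iff_finiteType A).1 ?_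
    have := Subalgebra.fg_adjoin_finset (R := ZMod 5) hS.toFinset
    rwa [hS.coe_toFinset] at this
  set inc : A →+* k := A.val.toRingHom
  have hincinj : Function.Injective inc := Subtype.val_injective
  let W : G → Matrix (Fin 3) (Fin 3) A := fun g => Matrix.of fun i j =>
    ⟨σ g i j, Algebra.subset_adjoin (Or.inr ⟨(g, i, j), rfl⟩)⟩
  have hW : ∀ g, (W g).map inc = σ g := fun g => rfl
  let Wh : G →* Matrix (Fin 3) (Fin 3) A :=
    { toFun := W
      map_one' := Matrix.map_injective hincinj (by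
        show (W 1).map inc = (1 : Matrix (Fin 3) (Fin 3) A).map inc
        rw [hW, Matrix.map_one inc (map_zero inc) (map_one inc), map_one])
      map_mul' := fun g g' => Matrix.map_injective hincinj (by
        show (W (g * g')).map inc = (W g * W g').map inc
        rw [Matrix.map_mul, hW, hW, hW, map_mul]) }
  obtain ⟨m, hm⟩ := Ideal.exists_maximal A
  letI : Field (A ⧸ m) := Ideal.Quotient.field m
  haveI : Algebra.FiniteType (ZMod 5) (A ⧸ m) :=
    Algebra.FiniteType.of_surjective (Ideal.Quotient.mkₐ (ZMod 5) m) (Ideal.Quotient.mkₐ_surjective _ m)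
  haveI : Module.Finite (ZMod 5) (A ⧸ m) := finite_of_finite_type_of_isJacobsonRing (ZMod 5) (A ⧸ m)
  haveI : Finite (A ⧸ m) := Module.finite_of_finite (ZMod 5)
  letI : Fintype (A ⧸ m) := Fintype.ofFinite _
  haveI : CharP (A ⧸ m) 5 := charP_of_injective_algebraMap (algebraMap (ZMod 5) (A ⧸ m)).injective 5
  set φ : A →+* A ⧸ m := Ideal.Quotient.mk m
  let τ : G →* Matrix (Fin 3) (Fin 3) (A ⧸ m) := φ.mapMatrix.toMonoidHom.comp Wh
  let D : Matrix (Fin 3 × Fin 3) (Fin 3 × Fin 3) A := Matrix.of fun i j => W (f i) j.1 j.2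
  have hD : inc D.det = d := by rw [RingHom.map_det]; rfl
  have hdu : φ D.det ≠ 0 := by
    intro e
    have h1 : D.det * (⟨d⁻¹, Algebra.subset_adjoin (Or.inl rfl)⟩ : A) = 1 := hincinj (by
      rw [map_mul, map_one, hD]
      exact mul_inv_cancel₀ hf)
    have := congrArg φ h1
    rw [map_mul, e, zero_mul, map_one] at this
    exact zero_ne_one this
  have hdet : (Matrix.of fun i j : Fin 3 × Fin 3 => τ (f i) j.1 j.2).det ≠ 0 := by
    rw [RingHom.map_det] at hdu
    exact hdu
  refine ⟨A ⧸ m, inferInstance, inferInstance, inferInstance, τ, ?_, f, hdet⟩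
  rw [← MonoidHom.ker_eq_bot_iff, Subgroup.eq_bot_iff_forall]
  rcases h.normal_cases τ.ker with hker | hker
  · intro z hz
    obtain ⟨c, hc⟩ := (absIrred_of_span σ (span_of_det σ f hf)).2 (σ z) (by
      rintro _ ⟨g, rfl⟩
      rw [← map_mul, ← map_mul, (Subgroup.mem_center_iff.1 (hker hz) g).symm])
    have hcA : c = inc (W z 0 0) := by
      show c = σ z 0 0
      rw [hc]; simp
    have hφ : φ (W z 0 0) = 1 := by
      have hz' : τ z = (1 : Matrix (Fin 3) (Fin 3) (A ⧸ m)) := MonoidHom.mem_ker.1 hz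
      have := congrFun (congrFun hz' 0) 0
      rw [Matrix.one_apply_eq] at this
      exact this
    by_contra hne
    have hc1 : c ≠ 1 := fun e => hne (hinj (by rw [hc, e, one_smul, map_one]))
    have hc3 : c ^ 3 = 1 := by
      have h3 := congrArg σ (h.exp3 z (hker hz))
      rw [map_pow, map_one, hc, smul_pow, one_pow] at h3
      simpa using congrFun (congrFun h3 0) 0
    have hq : c ^ 2 + c + 1 = 0 :=
      (mul_eq_zero.1 (show (c - 1) * (c ^ 2 + c + 1) = 0 by linear_combination hc3)).resolve_left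
        (sub_ne_zero.2 hc1)
    have h0 : W z 0 0 ^ 2 + W z 0 0 + 1 = 0 := hincinj (by
      rw [map_add, map_add, map_pow, ← hcA, map_one, map_zero, hq])
    have h3 := congrArg φ h0
    rw [map_add, map_add, map_pow, hφ, map_one, map_zero, one_pow] at h3
    have : ((3 : ℕ) : A ⧸ m) = 0 := by push_cast; linear_combination h3
    rw [CharP.cast_eq_zero_iff (A ⧸ m) 5] at this
    norm_num at this
  · exfalso
    refine hdet (Matrix.det_zero_of_row_eq (i := (0, 0)) (j := (0, 1)) (by simp) (funext fun j => ?_))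
    have e : ∀ g, τ g = 1 := fun g => MonoidHom.mem_ker.1 (hker ▸ Subgroup.mem_top g)
    simp [e]

/-- A finite model admitting no twist. -/
theorem Cover3.exists_minimal_model (h : Cover3 G) {k : Type} [Field k] [CharP k 5]
    (σ : G →* Matrix (Fin 3) (Fin 3) k) (hσ : Model σ) :
    ∃ (K : Type) (_ : Field K) (_ : Fintype K) (_ : CharP K 5) (f : G →* GL (Fin 3) K),
      Function.Injective f ∧ Ctx f.range ∧
      Nonempty ((G ⧸ Subgroup.center G) ≃* (f.range ⧸ (scalars (Fin 3) K).subgroupOf f.range)) ∧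
      ∀ τ : K ≃+* K, τ ≠ RingEquiv.refl K → ¬ Twist f.range τ := by
  classical
  have hex : ∃ n, ∃ (K : Type) (_ : Field K) (_ : Fintype K) (_ : CharP K 5)
      (τ : G →* Matrix (Fin 3) (Fin 3) K), Model τ ∧ Nat.card K = n := by
    obtain ⟨K, i1, i2, i3, τ, hτ⟩ := h.exists_finite_model σ hσ
    exact ⟨_, K, i1, i2, i3, τ, hτ, rfl⟩
  obtain ⟨K, i1, i2, i3, τ, hτ, hn⟩ := Nat.find_spec hex
  let f : G →* GL (Fin 3) K := τ.toHomUnits
  have hf : Function.Injective f := fun a b e => hτ.1 (congrArg Units.val e)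
  have hset : matrixSet f.range = Set.range τ := by
    ext x
    constructor
    · rintro ⟨_, ⟨g, rfl⟩, rfl⟩; exact ⟨g, rfl⟩
    · rintro ⟨g, rfl⟩; exact ⟨f g, ⟨g, rfl⟩, rfl⟩
  obtain ⟨hctx, hiso⟩ := h.ctx_range f hf (hset ▸ hτ.absIrred)
  refine ⟨K, i1, i2, i3, f, hf, hctx, hiso, fun s hs ht => ?_⟩
  obtain ⟨F₀, hF₀, B, hB⟩ := hctx.realisable_of_twist hs ht
  have hmem : ∀ g i j, ((B : Matrix (Fin 3) (Fin 3) K) * τ g *
      ((B⁻¹ : GL (Fin 3) K) : Matrix (Fin 3) (Fin 3) K)) i j ∈ F₀ := fun g i j =>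
    hB (τ g) (hset ▸ ⟨g, rfl⟩) i j
  let R : G → Matrix (Fin 3) (Fin 3) F₀ := fun g => Matrix.of fun i j => ⟨_, hmem g i j⟩
  have hR : ∀ g, (R g).map F₀.subtype = (B : Matrix (Fin 3) (Fin 3) K) * τ g *
      ((B⁻¹ : GL (Fin 3) K) : Matrix (Fin 3) (Fin 3) K) := fun g => rfl
  let Rh : G →* Matrix (Fin 3) (Fin 3) F₀ :=
    { toFun := R
      map_one' := Matrix.map_injective F₀.subtype_injective (by
        show (R 1).map F₀.subtype = (1 : Matrix (Fin 3) (Fin 3) F₀).map F₀.subtype
        rw [hR, map_one, Matrix.mul_one, Units.mul_inv,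
          Matrix.map_one _ (map_zero _) (map_one _)])
      map_mul' := fun g g' => Matrix.map_injective F₀.subtype_injective (by
        show (R (g * g')).map F₀.subtype = (R g * R g').map F₀.subtype
        rw [Matrix.map_mul, hR, hR, hR, map_mul]
        simp only [Matrix.mul_assoc, Units.inv_mul_cancel_left]) }
  obtain ⟨g9, hg9⟩ := exists_det_of_span (σ := Rh.comp (MonoidHom.id G) |> fun r =>
      ((Subfield.subtype F₀).mapMatrix.toMonoidHom).comp r) (by
    obtain ⟨-, f9, hf9⟩ := hτ
    have hs : Submodule.span K (Set.range τ) = ⊤ := span_of_det τ f9 hf9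
    rw [eq_top_iff]
    intro T _
    have hT : ((B⁻¹ : GL (Fin 3) K) : Matrix (Fin 3) (Fin 3) K) * T *
        (B : Matrix (Fin 3) (Fin 3) K) ∈ Submodule.span K (Set.range τ) := hs ▸ Submodule.mem_top
    have key : ∀ X ∈ Submodule.span K (Set.range τ), (B : Matrix (Fin 3) (Fin 3) K) * X *
        ((B⁻¹ : GL (Fin 3) K) : Matrix (Fin 3) (Fin 3) K) ∈
        Submodule.span K (Set.range fun g => (R g).map F₀.subtype) := by
      intro X hX
      induction hX using Submodule.span_induction with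
      | mem x hx =>
        obtain ⟨g, rfl⟩ := hx
        exact Submodule.subset_span ⟨g, hR g⟩
      | zero => rw [Matrix.mul_zero, Matrix.zero_mul]; exact zero_mem _
      | add a b _ _ ha hb => rw [Matrix.mul_add, Matrix.add_mul]; exact add_mem ha hb
      | smul c a _ ha => rw [Matrix.mul_smul, Matrix.smul_mul]; exact Submodule.smul_mem _ c ha
    have hTT := key _ hT
    rw [show (B : Matrix (Fin 3) (Fin 3) K) * (((B⁻¹ : GL (Fin 3) K) : Matrix (Fin 3) (Fin 3) K) * T *
      (B : Matrix (Fin 3) (Fin 3) K)) * ((B⁻¹ : GL (Fin 3) K) : Matrix (Fin 3) (Fin 3) K) = T by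
        simp only [Matrix.mul_assoc, Units.mul_inv, Units.mul_inv_cancel_left, Matrix.mul_one]] at hTT
    exact hTT)
  haveI : Fintype F₀ := Fintype.ofFinite F₀
  haveI : CharP F₀ 5 := charP_of_injective_ringHom (F₀.subtype.injective) 5 |> fun _ =>
    ((RingHom.charP_iff F₀.subtype F₀.subtype_injective 5).2 i3)
  refine Nat.find_min hex (m := Nat.card F₀) ?_
    ⟨F₀, inferInstance, inferInstance, inferInstance, Rh, ⟨fun a b e => ?_, g9, fun hd => hg9 ?_⟩, rfl⟩
  · rw [← hn]
    refine lt_of_le_of_ne (Nat.card_le_card_of_injective _ Subtype.val_injective) fun e => hF₀ ?_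
    refine SetLike.coe_injective ?_
    rw [Subfield.coe_top]
    exact Set.eq_of_subset_of_ncard_le (Set.subset_univ _)
      (by rw [Set.ncard_univ]; exact e.ge) Set.finite_univ
  · refine hτ.1 ?_
    have h1 := congrArg (fun X : Matrix (Fin 3) (Fin 3) F₀ => X.map F₀.subtype) e
    rw [show Rh a = R a from rfl, show Rh b = R b from rfl] at h1
    simp only [hR] at h1
    exact B.isUnit.mul_left_cancel (B⁻¹.isUnit.mul_right_cancel h1)
  · have := congrArg F₀.subtype hd
    rw [map_zero, RingHom.map_det] at this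
    exact this

theorem one_add_pow {K : Type v} [Field K] {N : Matrix (Fin 3) (Fin 3) K} (hN : N * N = 0) :
    ∀ j : ℕ, (1 + N) ^ j = 1 + (j : K) • N
  | 0 => by simp
  | j + 1 => by
    rw [pow_succ, one_add_pow hN j, add_mul, one_mul, smul_mul_assoc, mul_add, mul_one, hN, add_zero,
      Nat.cast_succ, add_smul, one_smul]
    abel

theorem exists_neg_one {K : Type v} [Field K] [CharP K 5] [Fact (Nat.Prime 5)]
    (S : Subgroup (Matrix.SpecialLinearGroup (Fin 2) K))
    (h : Fusion.Dickson.ContainsStd 5 S) : ∃ Z ∈ S, Z.1 = -1 := by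
  obtain ⟨M, hM, hstd⟩ := h
  refine ⟨_, hstd (-1), ?_⟩
  have e1 : (Fusion.Dickson.stdMap (F := K) 5 (-1)).1 = -1 := by
    ext i j
    show (ZMod.castHom dvd_rfl K) ((-1 : Matrix.SpecialLinearGroup (Fin 2) (ZMod 5)).1 i j) = _
    rw [Matrix.SpecialLinearGroup.coe_neg, Matrix.SpecialLinearGroup.coe_one, Matrix.neg_apply,
      Matrix.neg_apply, map_neg, Matrix.one_apply, Matrix.one_apply, apply_ite (ZMod.castHom dvd_rfl K),
      map_one, map_zero]
  show M⁻¹ * _ * M = _
  rw [e1, Matrix.mul_neg, Matrix.mul_one, Matrix.neg_mul,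
    Matrix.nonsing_inv_mul _ (isUnit_iff_ne_zero.2 hM)]

set_option maxHeartbeats 800000 in
/-- No transvection. -/
theorem Cover3.no_transvection (h : Cover3 G) (ρ : Representation ℂ G (Fin 3 → ℂ))
    (hρ : Function.Injective ρ) {K : Type v} [Field K] [CharP K 5] (f : G →* GL (Fin 3) K)
    (hf : Function.Injective f) : ∀ g : G, ¬ IsTransvection (f g) := by
  classical
  letI := Fintype.ofFinite G
  haveI : Fact (Nat.Prime 5) := ⟨by norm_num⟩
  have hsq : ¬ 5 ^ 2 ∣ Nat.card G := h.sq_not_dvd ρ hρ le_rfl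
  let val : G → Matrix (Fin 3) (Fin 3) K := fun g => (f g : Matrix (Fin 3) (Fin 3) K)
  have hval : Function.Injective val := fun a b e => hf (Units.ext e)
  have hmul : ∀ a b, val (a * b) = val a * val b := fun a b => by simp [val]
  have h5 : ∀ (a : G) (v φ : Fin 3 → K), φ ⬝ᵥ v = 0 → v ≠ 0 → φ ≠ 0 →
      val a = 1 + vecMulVec v φ → a ^ 5 = 1 ∧ orderOf a = 5 := by
    intro a v φ hz hv hφ ha
    have hNN : vecMulVec v φ * vecMulVec v φ = 0 := by
      rw [Matrix.vecMulVec_mul_vecMulVec, hz, zero_smul]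
      ext i j; simp [Matrix.vecMulVec_apply]
    have hp : a ^ 5 = 1 := hval (by
      show ((f (a ^ 5) : GL (Fin 3) K) : Matrix (Fin 3) (Fin 3) K) = _
      rw [map_pow, Units.val_pow_eq_pow_val, show (f a : Matrix (Fin 3) (Fin 3) K) = _ from ha,
        one_add_pow hNN, CharP.cast_eq_zero K 5, zero_smul, add_zero]
      simp [val])
    refine ⟨hp, orderOf_eq_prime hp fun e => ?_⟩
    rw [e] at ha
    obtain ⟨i, hi⟩ := Function.ne_iff.1 hv
    obtain ⟨j, hj⟩ := Function.ne_iff.1 hφ
    have h1 : vecMulVec v φ = 0 := by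
      have : val 1 = 1 := by simp [val]
      rw [this, left_eq_add] at ha
      exact ha
    exact mul_ne_zero hi hj (congrFun (congrFun h1 i) j)
  have hab5 : ∀ (S : Subgroup G), IsPGroup 5 S → ∀ a ∈ S, ∀ b ∈ S, a * b = b * a :=
    fun S hS a ha b hb => Char.Blichfeldt.commute_of_primes ρ
      (fun g hg => hρ (hg.trans (map_one ρ).symm)) S (fun r hr hrd => by
        obtain ⟨k, hk⟩ := IsPGroup.iff_card.mp hS
        rw [hk] at hrd
        rw [(Nat.prime_dvd_prime_iff_eq hr Fact.out).mp (hr.dvd_of_dvd_pow hrd)]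
        norm_num) ha hb
  intro g hg
  obtain ⟨v, φ, hv, hφ, hφv, hg⟩ := hg
  obtain ⟨hg5, hgo⟩ := h5 g v φ hφv hv hφ hg
  -- a conjugate outside the cyclic group
  obtain ⟨a, ha⟩ : ∃ a, a * g * a⁻¹ ∉ Subgroup.zpowers g := by
    by_contra hno
    push Not at hno
    haveI : (Subgroup.zpowers g).Normal := ⟨fun b hb c => by
      obtain ⟨i, rfl⟩ := Subgroup.mem_zpowers_iff.mp hb
      rw [← conj_zpow]
      exact Subgroup.zpow_mem _ (hno c) i⟩
    have := h.pgroup_normal_eq_bot (r := 5) (by norm_num) (Subgroup.zpowers g)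
      (IsPGroup.of_card (n := 1) (by rw [Nat.card_zpowers, hgo, pow_one]))
    rw [Subgroup.zpowers_eq_bot] at this
    rw [this, orderOf_one] at hgo
    omega
  set y := a * g * a⁻¹ with hy
  set w := val a *ᵥ v with hw
  set ψ := φ ᵥ* val a⁻¹ with hψ
  have hai : val a⁻¹ * val a = 1 := by rw [← hmul, inv_mul_cancel]; simp [val]
  have hai' : val a * val a⁻¹ = 1 := by rw [← hmul, mul_inv_cancel]; simp [val]
  have hψw : ψ ⬝ᵥ w = 0 := by
    rw [hψ, hw, ← Matrix.dotProduct_mulVec, Matrix.mulVec_mulVec, hai, Matrix.one_mulVec, hφv]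
  have hyv : val y = 1 + vecMulVec w ψ := by
    rw [hy, hmul, hmul, show val g = 1 + vecMulVec v φ from hg, mul_add, mul_one, add_mul, hai',
      Matrix.mul_vecMulVec, Matrix.vecMulVec_mul]
  have hw0 : w ≠ 0 := fun e => hv (by
    rw [← Matrix.one_mulVec v, ← hai, ← Matrix.mulVec_mulVec, ← hw, e, Matrix.mulVec_zero])
  have hψ0 : ψ ≠ 0 := fun e => hφ (by
    rw [← Matrix.vecMul_one φ, ← hai, ← Matrix.vecMul_vecMul, ← hψ, e, Matrix.zero_vecMul])
  obtain ⟨hy5, hyo⟩ := h5 y w ψ hψw hw0 hψ0 hyv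
  have hncomm : g * y ≠ y * g := fun e =>
    ha (Char.HalfDegree.mem_zpowers_of_commute hsq hgo hy5 e)
  -- the centres lie off the axes
  have hpair : ∀ (b c : G) (p q s t : Fin 3 → K), val b = 1 + vecMulVec p q →
      val c = 1 + vecMulVec s t → q ⬝ᵥ p = 0 → t ⬝ᵥ s = 0 → p ≠ 0 → q ≠ 0 → t ≠ 0 → orderOf b = 5 →
      t ⬝ᵥ p = 0 → q ⬝ᵥ s = 0 := by
    intro b c p q s t hb hc hqp hts hp0 hq0 ht0 hbo htp
    by_contra hqs
    set δ := q ⬝ᵥ s
    -- the commutator is a transvection with centre `p` and axis that of `c`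
    have hd : val (b * c * b⁻¹ * c⁻¹) = 1 + vecMulVec (δ • p) t := by
      have key : val (b * c) = (1 + vecMulVec (δ • p) t) * val (c * b) := by
        rw [hmul, hmul, hb, hc]
        simp only [mul_add, add_mul, mul_one, one_mul, Matrix.vecMulVec_mul_vecMulVec,
          Matrix.smul_vecMulVec, smul_mul_assoc, smul_smul, htp, hts, zero_mul, mul_zero, zero_smul,
          smul_zero, add_zero, zero_add, Matrix.vecMulVec_zero, Matrix.vecMulVec_smul]
        abel
      have h1 : b * c * b⁻¹ * c⁻¹ = b * c * (c * b)⁻¹ := by group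
      rw [h1, hmul, key, mul_assoc, ← hmul, mul_inv_cancel]
      simp [val]
    set d := b * c * b⁻¹ * c⁻¹
    have hδp : δ • p ≠ 0 := smul_ne_zero hqs hp0
    obtain ⟨hd5, -⟩ := h5 d (δ • p) t (by rw [dotProduct_smul, htp, smul_zero]) hδp ht0 hd
    have hcomm : b * d = d * b := hval (by
      rw [hmul b d, hmul d b, hb, hd]
      simp only [mul_add, add_mul, mul_one, one_mul, Matrix.vecMulVec_mul_vecMulVec,
        dotProduct_smul, htp, hqp, smul_zero, zero_smul, Matrix.smul_vecMulVec,
        Matrix.vecMulVec_zero, mul_smul_comm, smul_mul_assoc]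
      abel)
    obtain ⟨i, hi⟩ := Subgroup.mem_zpowers_iff.1
      (Char.HalfDegree.mem_zpowers_of_commute hsq hbo hd5 hcomm)
    obtain ⟨i, hi⟩ : ∃ n : ℕ, b ^ n = d := mem_powers_iff_mem_zpowers.2 ⟨i, hi⟩
    rw [← hi] at hd
    have hNN : vecMulVec p q * vecMulVec p q = 0 := by
      rw [Matrix.vecMulVec_mul_vecMulVec, hqp, zero_smul]
      ext i j; simp [Matrix.vecMulVec_apply]
    have hbi : val (b ^ i) = 1 + (i : K) • vecMulVec p q := by
      show ((f (b ^ i) : GL (Fin 3) K) : Matrix (Fin 3) (Fin 3) K) = _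
      rw [map_pow, Units.val_pow_eq_pow_val, show (f b : Matrix (Fin 3) (Fin 3) K) = _ from hb,
        one_add_pow hNN]
    rw [hbi, add_right_inj] at hd
    obtain ⟨l, hl⟩ := Function.ne_iff.1 hp0
    have hqt : ∀ m, (i : K) * q m = δ * t m := fun m => by
      have := congrFun (congrFun hd l) m
      simp [Matrix.vecMulVec_apply] at this
      refine mul_left_cancel₀ hl ?_
      linear_combination this
    have hsum : (i : K) * (q ⬝ᵥ s) = δ * (t ⬝ᵥ s) := by
      simp only [dotProduct, Finset.mul_sum, ← mul_assoc]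
      exact Finset.sum_congr rfl fun m _ => by rw [hqt m]
    rw [hts, mul_zero] at hsum
    have hi0 : (i : K) = 0 := (mul_eq_zero.1 hsum).resolve_right hqs
    refine ht0 (funext fun m => ?_)
    have := hqt m
    rw [hi0, zero_mul] at this
    exact (mul_eq_zero.1 this.symm).resolve_left hqs
  have hboth : φ ⬝ᵥ w ≠ 0 ∧ ψ ⬝ᵥ v ≠ 0 := by
    have e1 := hpair g y v φ w ψ hg hyv hφv hψw hv hφ hψ0 hgo
    have e2 := hpair y g w ψ v φ hyv hg hψw hφv hw0 hψ0 hφ hyo
    have hne : ¬ (φ ⬝ᵥ w = 0 ∧ ψ ⬝ᵥ v = 0) := fun ⟨a1, a2⟩ => hncomm (hval (by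
      rw [hmul g y, hmul y g, show val g = _ from hg, hyv]
      simp only [mul_add, add_mul, mul_one, one_mul, Matrix.vecMulVec_mul_vecMulVec, a1, a2,
        zero_smul, Matrix.vecMulVec_zero]
      abel))
    exact ⟨fun e => hne ⟨e, e2 e⟩, fun e => hne ⟨e1 e, e⟩⟩
  obtain ⟨hs, ht⟩ := hboth
  obtain ⟨u, hu, hφu, hψu⟩ : ∃ u : Fin 3 → K, u ≠ 0 ∧ φ ⬝ᵥ u = 0 ∧ ψ ⬝ᵥ u = 0 := by
    let L : (Fin 3 → K) →ₗ[K] (Fin 2 → K) := Matrix.toLin' (Matrix.of ![φ, ψ])
    obtain ⟨u, huL, hu⟩ := (LinearMap.ker L).ne_bot_iff.1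
      (LinearMap.ker_ne_bot_of_finrank_lt (by simp))
    exact ⟨u, hu, congrFun (LinearMap.mem_ker.1 huL) 0, congrFun (LinearMap.mem_ker.1 huL) 1⟩
  -- the basis
  let Bm : Matrix (Fin 3) (Fin 3) K := Matrix.of fun i j => ![v, w, u] j i
  have hBm : ∀ c : Fin 3 → K, Bm *ᵥ c = c 0 • v + c 1 • w + c 2 • u := fun c => by
    ext i
    simp [Bm, Matrix.mulVec, dotProduct, Fin.sum_univ_three, mul_comm]
  have hBu : IsUnit Bm.det := isUnit_iff_ne_zero.2 fun e => by
    obtain ⟨c, hc, hc0⟩ := Matrix.exists_mulVec_eq_zero_iff.2 e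
    rw [hBm] at hc0
    have eφ := congrArg (φ ⬝ᵥ ·) hc0
    have eψ := congrArg (ψ ⬝ᵥ ·) hc0
    simp only [dotProduct_add, dotProduct_smul, hφv, hφu, hψw, hψu, dotProduct_zero, smul_eq_mul,
      mul_zero, add_zero, zero_add] at eφ eψ
    have c1 := (mul_eq_zero.1 eφ).resolve_right hs
    have c0 := (mul_eq_zero.1 eψ).resolve_right ht
    rw [c0, c1, zero_smul, zero_smul, zero_add, zero_add, smul_eq_zero] at hc0
    exact hc (funext fun i => by fin_cases i <;> simp [c0, c1, hc0.resolve_right hu])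
  let E : Matrix.SpecialLinearGroup (Fin 2) K →* Matrix (Fin 3) (Fin 3) K :=
    { toFun := fun A => Bm * !![A.1 0 0, A.1 0 1, 0; A.1 1 0, A.1 1 1, 0; 0, 0, 1] * Bm⁻¹
      map_one' := by
        rw [show (!![(1 : Matrix.SpecialLinearGroup (Fin 2) K).1 0 0, _, 0; _, _, 0; 0, 0, 1] :
          Matrix (Fin 3) (Fin 3) K) = 1 by ext i j; fin_cases i <;> fin_cases j <;> simp, mul_one,
          Matrix.mul_nonsing_inv _ hBu]
      map_mul' := fun A B => by
        rw [show (!![(A * B).1 0 0, _, 0; _, _, 0; 0, 0, 1] : Matrix (Fin 3) (Fin 3) K) =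
            !![A.1 0 0, A.1 0 1, 0; A.1 1 0, A.1 1 1, 0; 0, 0, 1] *
              !![B.1 0 0, B.1 0 1, 0; B.1 1 0, B.1 1 1, 0; 0, 0, 1] by
          ext i j; fin_cases i <;> fin_cases j <;>
            simp [Matrix.mul_apply, Fin.sum_univ_two, Fin.sum_univ_three]]
        simp only [Matrix.mul_assoc, Matrix.nonsing_inv_mul_cancel_left _ _ hBu] }
  have hEinj : Function.Injective E := by
    intro A B e
    have e' := congrArg (fun X => Bm⁻¹ * X * Bm) e
    simp only [E, MonoidHom.coe_mk, OneHom.coe_mk, Matrix.mul_assoc,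
      Matrix.nonsing_inv_mul_cancel_left _ _ hBu, Matrix.nonsing_inv_mul _ hBu, Matrix.mul_one] at e'
    refine Fusion.Dickson.ext' ?_ ?_ ?_ ?_
    · exact congrFun (congrFun e' 0) 0
    · exact congrFun (congrFun e' 0) 1
    · exact congrFun (congrFun e' 1) 0
    · exact congrFun (congrFun e' 1) 1
  let X : Matrix.SpecialLinearGroup (Fin 2) K :=
    ⟨!![1, φ ⬝ᵥ w; 0, 1], by simp [Matrix.det_fin_two]⟩
  let Y : Matrix.SpecialLinearGroup (Fin 2) K :=
    ⟨!![1, 0; ψ ⬝ᵥ v, 1], by simp [Matrix.det_fin_two]⟩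
  have hEX : E X = val g := by
    show Bm * _ * Bm⁻¹ = _
    refine (congrArg (· * Bm⁻¹) ?_).trans (Matrix.mul_nonsing_inv_cancel_right _ _ hBu)
    refine Matrix.ext_of_mulVec_single fun j => ?_
    rw [← Matrix.mulVec_mulVec, ← Matrix.mulVec_mulVec, hBm, hBm, show val g = _ from hg,
      Matrix.add_mulVec, Matrix.one_mulVec, Matrix.vecMulVec_mulVec]
    fin_cases j <;> ext i <;>
      simp [X, dotProduct_add, dotProduct_smul, hφv, hφu, smul_smul, mul_comm, add_comm]
  have hEY : E Y = val y := by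
    show Bm * _ * Bm⁻¹ = _
    refine (congrArg (· * Bm⁻¹) ?_).trans (Matrix.mul_nonsing_inv_cancel_right _ _ hBu)
    refine Matrix.ext_of_mulVec_single fun j => ?_
    rw [← Matrix.mulVec_mulVec, ← Matrix.mulVec_mulVec, hBm, hBm, hyv,
      Matrix.add_mulVec, Matrix.one_mulVec, Matrix.vecMulVec_mulVec]
    fin_cases j <;> ext i <;>
      simp [Y, dotProduct_add, dotProduct_smul, hψw, hψu, smul_smul, mul_comm, add_comm]
  let valh : G →* Matrix (Fin 3) (Fin 3) K := (Units.coeHom _).comp f
  let S : Subgroup (Matrix.SpecialLinearGroup (Fin 2) K) := f.range.comap E.toHomUnits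
  haveI : Finite S := by
    have hS : ∀ A : S, ∃ b : G, val b = E A := fun A => by
      obtain ⟨b, hb⟩ := A.2
      exact ⟨b, congrArg Units.val hb⟩
    choose pre hpre using hS
    exact Finite.of_injective pre fun A B e =>
      Subtype.ext (hEinj (by rw [← hpre, ← hpre, e]))
  have hXS : X ∈ S := ⟨g, Units.ext hEX.symm⟩
  have hYS : Y ∈ S := ⟨y, Units.ext hEY.symm⟩
  have hX5 : X ^ 5 = 1 := hEinj (by
    rw [map_pow, hEX, map_one]
    show valh g ^ 5 = 1
    rw [← map_pow, hg5, map_one])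
  have hY5 : Y ^ 5 = 1 := hEinj (by
    rw [map_pow, hEY, map_one]
    show valh y ^ 5 = 1
    rw [← map_pow, hy5, map_one])
  have hXY : X * Y ≠ Y * X := fun e => hncomm (hval (by
    rw [hmul g y, hmul y g, ← hEX, ← hEY, ← map_mul, e, map_mul]))
  obtain ⟨Z, hZS, hZval⟩ := exists_neg_one S (Fusion.Dickson.exists_containsStd 5 (by norm_num) S
    ⟨X, hXS, Y, hYS, hX5, hY5, hXY⟩)
  obtain ⟨i, hi⟩ := hZS
  have hiv : val i = E Z := congrArg Units.val hi
  have hZc : ∀ A : Matrix.SpecialLinearGroup (Fin 2) K, Z * A = A * Z := fun A => Subtype.ext (by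
    rw [Matrix.SpecialLinearGroup.coe_mul, Matrix.SpecialLinearGroup.coe_mul, hZval, neg_one_mul,
      mul_neg_one])
  have hig : i * g = g * i := hval (by
    rw [hmul, hmul, hiv, ← hEX, ← map_mul, hZc, map_mul])
  have hiy : i * y = y * i := hval (by
    rw [hmul i y, hmul y i, hiv, ← hEY, ← map_mul, hZc, map_mul])
  have hi2 : orderOf i = 2 := by
    refine orderOf_eq_prime (hval ?_) fun e => ?_
    · rw [sq, hmul, hiv, ← map_mul, show Z * Z = 1 from Subtype.ext (by
        rw [Matrix.SpecialLinearGroup.coe_mul, hZval, neg_one_mul, neg_neg]; rfl), map_one]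
      simp [val]
    · have h1 : Z = 1 := hEinj (by rw [map_one, ← hiv, e]; simp [val])
      have h2 := congrFun (congrFun (congrArg Subtype.val h1) 0) 0
      rw [hZval] at h2
      have h3 : ((2 : ℕ) : K) = 0 := by
        simp at h2
        push_cast
        linear_combination -h2
      rw [CharP.cast_eq_zero_iff K 5] at h3
      norm_num at h3
  haveI : Fact (Nat.Prime 5) := ⟨by norm_num⟩
  set C := Subgroup.centralizer ({i} : Set G) with hC
  have hgC : g ∈ C := Subgroup.mem_centralizer_singleton_iff.2 hig.symm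
  have hyC : y ∈ C := Subgroup.mem_centralizer_singleton_iff.2 hiy.symm
  obtain ⟨S0⟩ : Nonempty (Sylow 5 C) := inferInstance
  haveI := Sylow.unique_of_normal S0
    (h.centralizer_sylow_normal ρ hρ (h.not_central_of_invol hi2) le_rfl hC S0)
  have hin : ∀ (b : G) (hb : b ∈ C), orderOf b = 5 → (⟨b, hb⟩ : C) ∈ (S0 : Subgroup C) := by
    intro b hb hbo
    have hp : IsPGroup 5 (Subgroup.zpowers (⟨b, hb⟩ : C)) :=
      IsPGroup.of_card (n := 1) (by rw [Nat.card_zpowers, Subgroup.orderOf_mk, hbo, pow_one])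
    obtain ⟨R, hR⟩ := hp.exists_le_sylow
    rw [Subsingleton.elim R S0] at hR
    exact hR (Subgroup.mem_zpowers _)
  exact hncomm (hab5 _ (S0.isPGroup'.map C.subtype) g ⟨_, hin g hgC hgo, rfl⟩
    y ⟨_, hin y hyC hyo, rfl⟩)

end Cfsg.Agent.PThree
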