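import Cfsg.Agent.Lib.Classical.LinThree.HessLift
import Cfsg.Agent.S0899
import Cfsg.Agent.S4503
import Cfsg.Agent.S4504

/-!
# Finite groups with a faithful representation of degree three: the primes

A perfect group, simple modulo a centre of exponent three, with a faithful complex representation of
degree three has no prime divisor above `7`; with a prime divisor `7` to the first power it is
`PSL(2, 7)` modulo the centre.
-/

set_option autoImplicit false
set_option linter.style.haveILetI false
set_option linter.unusedSectionVars false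

namespace Cfsg.Agent.PThree

universe u v

/-- A coprime linear group of degree three has a faithful complex representation of degree three. -/
theorem exists_complex_rep {G : Type u} [Group G] [Finite G] {p : ℕ} (hp : p.Prime)
    (hG : ¬ p ∣ Nat.card G) {K : Type v} [Field K] [Fintype K] [CharP K p]
    (σ : G →* Matrix (Fin 3) (Fin 3) K) (hinj : Function.Injective σ)
    (hspan : Submodule.span K (Set.range σ) = ⊤) :
    ∃ ρ : Representation ℂ G (Fin 3 → ℂ), Function.Injective ρ := by
  obtain ⟨V, f, R, U, U', hUU', hU'U, hred, -, -⟩ :=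
    Classical.LinThree.Hess.exists_lift hp (by norm_num : 0 < 3) hG σ hspan
  let ρ : Representation ℂ G (Fin 3 → ℂ) :=
    (Matrix.toLinAlgEquiv' : Matrix (Fin 3) (Fin 3) ℂ ≃ₐ[ℂ] _).toMonoidHom.comp
      ((V.subtype.mapMatrix : Matrix (Fin 3) (Fin 3) V →+* _).toMonoidHom.comp R)
  refine ⟨ρ, fun a b h => hinj ?_⟩
  have h1 : R a = R b :=
    Matrix.map_injective V.subtype_injective (Matrix.toLinAlgEquiv'.injective h)
  have h2 := congrArg (fun X => U' * X.map (IsLocalRing.residue V) * U) h1
  simp only [hred, Matrix.mul_assoc, hU'U, Matrix.mul_one] at h2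
  simp only [← Matrix.mul_assoc, hU'U, Matrix.one_mul] at h2
  exact Matrix.map_injective f.injective h2

variable {G : Type u} [Group G] [Finite G]

/-- The hypotheses: perfect, simple and non-abelian modulo a centre of exponent three. -/
structure Cover3 (G : Type u) [Group G] : Prop where
  simple : IsSimpleGroup (G ⧸ Subgroup.center G)
  noncomm : ∃ a b : G, a * b * a⁻¹ * b⁻¹ ∉ Subgroup.center G
  exp3 : ∀ z ∈ Subgroup.center G, z ^ 3 = 1
  perfect : commutator G = ⊤

namespace Cover3

theorem pgroup_normal_eq_bot (h : Cover3 G) {r : ℕ} [hr : Fact r.Prime] (hr3 : r ≠ 3)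
    (N : Subgroup G) [N.Normal] (hN : IsPGroup r N) : N = ⊥ := by
  have hle : N ≤ Subgroup.center G := by
    haveI := h.simple
    rcases (Subgroup.Normal.map (inferInstance : N.Normal) _
      (QuotientGroup.mk'_surjective (Subgroup.center G))).eq_bot_or_eq_top with e | e
    · rw [Subgroup.map_eq_bot_iff, QuotientGroup.ker_mk'] at e
      exact e
    · exfalso
      have hp : IsPGroup r (G ⧸ Subgroup.center G) := by
        have := hN.map (QuotientGroup.mk' (Subgroup.center G))
        rw [e] at this
        exact this.of_equiv Subgroup.topEquiv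
      haveI : Group.IsNilpotent (G ⧸ Subgroup.center G) := hp.isNilpotent
      obtain ⟨a, b, hab⟩ := h.noncomm
      apply hab
      rw [← QuotientGroup.eq_one_iff]
      have hc := IsSimpleGroup.comm_iff_isSolvable.2 (inferInstance : Group.IsSolvable (G ⧸ Subgroup.center G))
        (QuotientGroup.mk a) (QuotientGroup.mk b)
      rw [QuotientGroup.mk_mul, QuotientGroup.mk_mul, QuotientGroup.mk_mul, QuotientGroup.mk_inv,
        QuotientGroup.mk_inv, hc, mul_inv_cancel_right, mul_inv_cancel]
  refine (Subgroup.eq_bot_iff_forall N).2 fun x hx => ?_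
  obtain ⟨j, hj⟩ := hN ⟨x, hx⟩
  have hj' : x ^ r ^ j = 1 := congrArg Subtype.val hj
  have h3 : x ^ 3 = 1 := h.exp3 x (hle hx)
  have hco : Nat.Coprime (r ^ j) 3 :=
    Nat.Coprime.pow_left j ((Nat.coprime_primes hr.out Nat.prime_three).2 hr3)
  exact orderOf_eq_one_iff.1 (Nat.dvd_one.1 (hco ▸ Nat.dvd_gcd (orderOf_dvd_of_pow_eq_one hj')
    (orderOf_dvd_of_pow_eq_one h3)))

theorem sylow_not_normal (h : Cover3 G) {r : ℕ} [hr : Fact r.Prime] (hr3 : r ≠ 3)
    (hdvd : r ∣ Nat.card G) (P : Sylow r G) : ¬ (P : Subgroup G).Normal := by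
  intro hn
  have e := h.pgroup_normal_eq_bot hr3 (P : Subgroup G) P.isPGroup'
  exact P.ne_bot_of_dvd_card hdvd e

end Cover3

theorem character_isCharacter {H : Type u} [Group H] [Finite H]
    (ρ : Representation ℂ H (Fin 3 → ℂ)) : IsCharacter H ρ.character := ⟨3, ρ, rfl⟩

theorem faithful_of_injective {H : Type u} [Group H] [Finite H]
    (ρ : Representation ℂ H (Fin 3 → ℂ)) (hρ : Function.Injective ρ) :
    ∀ g : H, ρ.character g = ρ.character 1 → g = 1 := by
  haveI := Fintype.ofFinite H
  intro g hg
  exact Char.SmallSylow.eq_one_of_char ρ hρ (hg.trans (Char.SmallSylow.char_one_nat ρ))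

theorem charDegree_eq {H : Type u} [Group H] [Finite H]
    (ρ : Representation ℂ H (Fin 3 → ℂ)) : Cfsg.charDegree ρ.character = 3 := by
  haveI := Fintype.ofFinite H
  unfold Cfsg.charDegree
  rw [Char.SmallSylow.char_one_nat ρ]
  simp

/-- No prime above `7`. -/
theorem prime_le_seven (h : Cover3 G) (ρ : Representation ℂ G (Fin 3 → ℂ))
    (hρ : Function.Injective ρ) {r : ℕ} (hr : r.Prime) (hdvd : r ∣ Nat.card G) : r ≤ 7 := by
  haveI := Fact.mk hr
  by_contra hlt
  obtain ⟨P⟩ := (inferInstance : Nonempty (Sylow r G))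
  refine h.sylow_not_normal (by omega) hdvd P (S0899.result 3 ρ hρ r (Or.inr ⟨by omega, ?_⟩) P)
  intro K hK Q
  by_contra hQ
  haveI : Fintype K := Fintype.ofFinite K
  have hdK : r ∣ Nat.card K := by
    by_contra hd
    refine hQ ?_
    have hbot : (Q : Subgroup K) = ⊥ := by
      rw [← Subgroup.card_eq_one, Q.card_eq_multiplicity, Nat.factorization_eq_zero_of_not_dvd hd,
        pow_zero]
    rw [hbot]
    infer_instance
  have hd7 := S4503.result (G := K) r hr hdK hK (fun H hH hHc => by
      have hHp : IsPGroup r H := IsPGroup.of_card (n := 1) (by rw [hHc, pow_one])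
      obtain ⟨Q', hQ'⟩ := hHp.exists_le_sylow
      have hcQ : Nat.card (Q' : Subgroup K) = r := by
        rw [Q'.card_eq_multiplicity]
        have h1 : (Nat.card K).factorization r ≤ 1 := by
          by_contra h2
          exact hK ((hr.pow_dvd_iff_le_factorization Nat.card_pos.ne').2 (by omega))
        have h2 : 1 ≤ (Nat.card K).factorization r :=
          (hr.dvd_iff_one_le_factorization Nat.card_pos.ne').1 hdK
        rw [show (Nat.card K).factorization r = 1 by omega, pow_one]
      have hHQ : H = (Q' : Subgroup K) :=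
        Subgroup.eq_of_le_of_card_ge hQ' (by rw [hcQ, hHc])
      haveI : Finite (Sylow r K) := inferInstance
      haveI := Sylow.unique_of_normal Q' (hHQ ▸ hH)
      rw [Subsingleton.elim Q Q'] at hQ
      exact hQ (hHQ ▸ hH))
    (Representation.character (MonoidHom.comp ρ K.subtype : Representation ℂ K (Fin 3 → ℂ)))
    (character_isCharacter (H := K) _)
    (faithful_of_injective (H := K) _ (fun a b e => K.subtype_injective (hρ e)))
  rw [charDegree_eq] at hd7
  omega

/-- The case of `7` to the first power. -/
theorem psl_seven (h : Cover3 G) (ρ : Representation ℂ G (Fin 3 → ℂ))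
    (hρ : Function.Injective ρ) (h7 : 7 ∣ Nat.card G) (h49 : ¬ 7 ^ 2 ∣ Nat.card G) :
    Nonempty ((G ⧸ Subgroup.center G) ≃* Matrix.ProjectiveSpecialLinearGroup (Fin 2) (ZMod 7)) := by
  haveI : Fact (Nat.Prime 7) := ⟨by norm_num⟩
  refine S4504.result 7 (by norm_num) h7 h49 (fun H hH hHc => ?_) ρ.character
    (character_isCharacter ρ) (faithful_of_injective ρ hρ) (by rw [charDegree_eq])
  haveI := hH
  have e := h.pgroup_normal_eq_bot (r := 7) (by norm_num) H (IsPGroup.of_card (n := 1) (by rw [hHc, pow_one]))
  rw [e, Subgroup.card_bot] at hHc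
  omega

end Cfsg.Agent.PThree
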