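import Cfsg.Agent.Lib.Classical.PThree.Span
import Cfsg.Agent.Lib.Small.Order168Classes

/-!
# Group-theoretic input for the field computations

Facts on the classes of `A₅`, `A₆` and the simple group of order 168, and the transfer argument
which makes a central element lying in an abelian Sylow subgroup of a perfect group trivial.
-/

set_option autoImplicit false
set_option linter.unusedSectionVars false
set_option linter.style.haveILetI false

namespace Cfsg.Agent.PThree

theorem altFive_real : ∀ y : alternatingGroup (Fin 5), ∃ g : alternatingGroup (Fin 5), g * y * g⁻¹ = y⁻¹ := by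
  decide +kernel

theorem altSix_orders : ∀ y : alternatingGroup (Fin 6), y ^ 3 = 1 ∨ y ^ 4 = 1 ∨ y ^ 5 = 1 := by
  decide +kernel

theorem altSix_real : ∀ y : alternatingGroup (Fin 6), ∃ g : alternatingGroup (Fin 6), g * y * g⁻¹ = y⁻¹ := by
  decide +kernel

theorem altSix_five : ∃ y : alternatingGroup (Fin 6), y ^ 5 = 1 ∧ y ≠ 1 := by
  decide +kernel

section

variable {G : Type*} [Group G]

/-- Pulling the reality of all elements back along an isomorphism. -/
theorem real_of_equiv {H : Type*} [Group H] (e : G ≃* H) (hr : ∀ y : H, ∃ g : H, g * y * g⁻¹ = y⁻¹) :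
    ∀ y : G, ∃ g : G, g * y * g⁻¹ = y⁻¹ := fun y => by
  obtain ⟨g, hg⟩ := hr (e y)
  exact ⟨e.symm g, e.injective (by simp [hg])⟩

variable [Finite G]

/-- A central element of an abelian Sylow subgroup of a perfect group is trivial. -/
theorem eq_one_of_central (hperf : commutator G = ⊤) {p : ℕ} [Fact p.Prime] (S : Sylow p G)
    [hab : IsMulCommutative (S : Subgroup G)] {z : G} (hz : z ∈ (S : Subgroup G)) (hc : ∀ g, g * z = z * g) :
    z = 1 := by
  letI : CommGroup (S : Subgroup G) :=
    { (inferInstance : Group (S : Subgroup G)) with mul_comm := fun a b => mul_comm' a b }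
  have h1 : MonoidHom.transfer (MonoidHom.id (S : Subgroup G)) z = 1 := by
    have : z ∈ commutator G := hperf ▸ Subgroup.mem_top z
    exact Abelianization.commutator_subset_ker _ this
  rw [MonoidHom.transfer_eq_pow (MonoidHom.id (S : Subgroup G)) z (fun k g₀ _ => by
    have : Commute (z ^ k) g₀ := ((show Commute g₀ z from hc g₀).pow_right k).symm
    rw [mul_assoc, this.eq, inv_mul_cancel_left])] at h1
  have h2 : z ^ (S : Subgroup G).index = 1 := congrArg Subtype.val h1
  obtain ⟨k, hk⟩ := S.2 ⟨z, hz⟩
  have h3 : z ^ p ^ k = 1 := congrArg Subtype.val hk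
  have hco : Nat.Coprime (p ^ k) (S : Subgroup G).index :=
    Nat.Coprime.pow_left k ((Fact.out : p.Prime).coprime_iff_not_dvd.2 S.not_dvd_index)
  exact orderOf_eq_one_iff.1 (Nat.dvd_one.1 (hco ▸ Nat.dvd_gcd (orderOf_dvd_of_pow_eq_one h3)
    (orderOf_dvd_of_pow_eq_one h2)))

/-- A group of order `p ^ 3` which is not commutative has no central element outside a central
subgroup of order `p`. -/
theorem not_central_of_nonabelian {S : Type*} [Group S] [Finite S] (hS : Nat.card S = 27)
    (hna : ¬ IsMulCommutative S) {z x : S} (hz1 : z ≠ 1) (hz : z ∈ Subgroup.center S)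
    (hz3 : z ^ 3 = 1) (hx : ∀ k : ℕ, x ≠ z ^ k) : x ∉ Subgroup.center S := by
  intro hxc
  haveI : Fact (Nat.Prime 3) := ⟨Nat.prime_three⟩
  obtain ⟨j, hj, hcard⟩ : ∃ j ≤ 3, Nat.card (Subgroup.center S) = 3 ^ j :=
    (Nat.dvd_prime_pow Nat.prime_three).1 (by
      rw [show (3 : ℕ) ^ 3 = 27 from rfl, ← hS]; exact Subgroup.card_subgroup_dvd_card _)
  have hlt : Nat.card (Subgroup.zpowers z) < Nat.card (Subgroup.center S) := by
    refine lt_of_le_of_ne (Subgroup.card_le_of_le (Subgroup.zpowers_le.2 hz)) fun e => ?_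
    have h1 := Subgroup.eq_of_le_of_card_ge (Subgroup.zpowers_le.2 hz) e.ge
    have hx' : x ∈ Subgroup.zpowers z := h1 ▸ hxc
    obtain ⟨k, hk⟩ := (mem_powers_iff_mem_zpowers.2 hx' : x ∈ Submonoid.powers z)
    exact hx k hk.symm
  rw [Nat.card_zpowers, orderOf_eq_prime hz3 hz1, hcard] at hlt
  have hj2 : 2 ≤ j := by
    rcases j with _ | _ | j <;> simp_all
  have hidx : Nat.card (S ⧸ Subgroup.center S) ∣ 3 := by
    have h := Subgroup.card_eq_card_quotient_mul_card_subgroup (Subgroup.center S)
    rw [hS, hcard] at h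
    interval_cases j
    · exact ⟨1, by omega⟩
    · have : Nat.card (S ⧸ Subgroup.center S) = 1 := by omega
      rw [this]; exact one_dvd _
  haveI : IsCyclic (S ⧸ Subgroup.center S) := by
    rcases (Nat.dvd_prime Nat.prime_three).1 hidx with h | h
    · haveI := (Nat.card_eq_one_iff_unique.1 h).1
      exact isCyclic_of_subsingleton
    · exact isCyclic_of_prime_card h
  exact hna (MonoidHom.isMulCommutative_of_isCyclic_of_ker_le_center (QuotientGroup.mk' (Subgroup.center S))
    (by rw [QuotientGroup.ker_mk']))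

/-- The classes of a simple group of order 168. -/
theorem classes_168 [IsSimpleGroup G] (hc : Nat.card G = 168) (x : G) :
    (x ^ 3 = 1 ∧ ∃ g, g * x * g⁻¹ = x⁻¹) ∨ (x ^ 4 = 1 ∧ ∃ g, g * x * g⁻¹ = x⁻¹) ∨
      (x ^ 7 = 1 ∧ ∃ g, g * x * g⁻¹ = x ^ 2) := by
  open Small.Order168 in
  rcases orders hc x with e | e | e | e | e
  · left
    rw [orderOf_eq_one_iff] at e
    exact ⟨by rw [e, one_pow], 1, by simp [e]⟩
  · right; left
    have h2 : x ^ 2 = 1 := e ▸ pow_orderOf_eq_one x
    refine ⟨by rw [show 4 = 2 * 2 from rfl, pow_mul, h2, one_pow], 1, ?_⟩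
    rw [one_mul, inv_one, mul_one]
    exact (inv_eq_of_mul_eq_one_right (by rwa [pow_two] at h2)).symm
  · left
    exact ⟨e ▸ pow_orderOf_eq_one x, isConj_iff.1 (conj_three hc x x⁻¹ e (by rw [orderOf_inv, e]))⟩
  · right; left
    exact ⟨e ▸ pow_orderOf_eq_one x, isConj_iff.1 (conj_four hc x x⁻¹ e (by rw [orderOf_inv, e]))⟩
  · right; right
    refine ⟨e ▸ pow_orderOf_eq_one x, isConj_iff.1 ?_⟩
    have h7 : x ^ 7 = 1 := e ▸ pow_orderOf_eq_one x
    have ho : ∀ k : ℕ, ¬ 7 ∣ k → orderOf (x ^ k) = 7 := fun k hk => by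
      rw [Nat.Coprime.orderOf_pow, e]
      rw [e]
      exact (Nat.Prime.coprime_iff_not_dvd (by norm_num)).2 hk
    by_contra hnc
    classical
    haveI := Fintype.ofFinite G
    have hA : ∀ y : G, orderOf y = 7 → (Finset.univ.filter fun g => IsConj y g).card = 24 := fun y hy => by
      rw [← (seven hc hy).1, Nat.card_eq_fintype_card, Fintype.card_subtype]
    have hcount : (Finset.univ.filter fun g : G => orderOf g = 7).card = 48 := by
      rw [← count7 hc, Nat.card_eq_fintype_card, Fintype.card_subtype]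
    -- the square is conjugate to the inverse
    have hinv : IsConj (x ^ 2) x⁻¹ := by
      by_contra hni
      set A := Finset.univ.filter fun g => IsConj x g
      set B := Finset.univ.filter fun g => IsConj x⁻¹ g
      have hd : Disjoint A B := Finset.disjoint_left.2 fun g hgA hgB =>
        (seven hc e).2 ((Finset.mem_filter.1 hgA).2.trans (Finset.mem_filter.1 hgB).2.symm)
      have hord : ∀ {y g : G}, orderOf y = 7 → IsConj y g → orderOf g = 7 := by
        intro y g hy hyg
        obtain ⟨a, rfl⟩ := isConj_iff.1 hyg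
        rw [← MulAut.conj_apply, MulEquiv.orderOf_eq, hy]
      have hsub : insert (x ^ 2) (A ∪ B) ⊆ Finset.univ.filter fun g : G => orderOf g = 7 := by
        intro g hg
        simp only [Finset.mem_insert, Finset.mem_union, A, B, Finset.mem_filter, Finset.mem_univ, true_and] at hg ⊢
        rcases hg with rfl | hg | hg
        · exact ho 2 (by norm_num)
        · exact hord e hg
        · exact hord (by rw [orderOf_inv, e]) hg
      have h1 := Finset.card_le_card hsub
      rw [Finset.card_insert_of_notMem (by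
          simp only [Finset.mem_union, A, B, Finset.mem_filter, Finset.mem_univ, true_and]
          rintro (h | h)
          · exact hnc h
          · exact hni h.symm),
        Finset.card_union_of_disjoint hd, hA x e, hA x⁻¹ (by rw [orderOf_inv, e]), hcount] at h1
      omega
    have hpow : ∀ {a b : G} (k : ℕ), IsConj a b → IsConj (a ^ k) (b ^ k) := by
      intro a b k hab
      obtain ⟨g, rfl⟩ := isConj_iff.1 hab
      exact isConj_iff.2 ⟨g, (conj_pow).symm⟩
    have h4 : IsConj (x ^ 4) x := by
      have h := hpow 2 hinv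
      rw [← pow_mul] at h
      have hi : IsConj (x⁻¹ ^ 2) x := by
        obtain ⟨g, hg⟩ := isConj_iff.1 hinv
        exact isConj_iff.2 ⟨g, by rw [inv_pow, ← conj_inv, hg, inv_inv]⟩
      exact h.trans hi
    have h8 := hpow 2 h4
    rw [← pow_mul, show 4 * 2 = 7 + 1 from rfl, pow_succ, h7, one_mul] at h8
    exact hnc h8

end

end Cfsg.Agent.PThree
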