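import Cfsg.Agent.Lib.Classical.PThree.FieldGroups
import Cfsg.Agent.Lib.Small.PSLThreeTwo

/-!
# The fields of definition of the small perfect subgroups of the three-dimensional linear group

In characteristic `p` the `p`-th power of the trace of `x` is the trace of `x ^ p`, so the classes of
`A₅`, `A₆` and the simple group of order 168 decide which field automorphisms twist `P` to itself
and which carry it to its dual.
-/

set_option autoImplicit false
set_option linter.unusedSectionVars false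
set_option linter.style.haveILetI false

namespace Cfsg.Agent.PThree

open Matrix Cfsg Cfsg.Geo
open scoped MatrixGroups

variable {F : Type*} [Field F] [Fintype F] {P : Subgroup (GL (Fin 3) F)}

/-- The trace of an element of `P`. -/
def tr' (x : P) : F := (incl P x).trace

theorem tr'_one : tr' (1 : P) = 3 := by simp [tr', incl_apply]

theorem tr'_conj (g x : P) : tr' (g * x * g⁻¹) = tr' x := by
  rw [tr', map_mul, map_mul, Matrix.trace_mul_comm, ← Matrix.mul_assoc, ← map_mul, inv_mul_cancel, map_one,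
    Matrix.one_mul, tr']

theorem frob_apply (p : ℕ) [ExpChar F p] (k : ℕ) (a : F) : iterateFrobeniusEquiv F p k a = a ^ p ^ k :=
  iterateFrobeniusEquiv_def F p k a

section Frob

variable (p : ℕ) [Fact p.Prime] [CharP F p]

theorem tr'_pow (x : P) (k : ℕ) : tr' x ^ p ^ k = tr' (x ^ p ^ k) := by
  rw [tr', tr', map_pow, trace_pow_char_pow]

theorem three_pow (k : ℕ) : (3 : F) ^ p ^ k = 3 := by
  have h := iterateFrobenius_def p k ((3 : ℕ) : F)
  rw [map_natCast] at h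
  exact_mod_cast h.symm

/-- Unipotent elements have trace three. -/
theorem tr'_unipotent {x : P} {j : ℕ} (hx : x ^ p ^ j = 1) : tr' x = 3 := by
  have h : tr' x ^ p ^ j = (3 : F) ^ p ^ j := by rw [tr'_pow, hx, tr'_one, three_pow]
  rw [← frob_apply p j, ← frob_apply p j] at h
  exact (iterateFrobeniusEquiv F p j).injective h

theorem twist_frob (h : Ctx P) (k : ℕ) (hk : ∀ x : P, tr' x ^ p ^ k = tr' x) :
    Twist P (iterateFrobeniusEquiv F p k) :=
  twist_of_traces h _ fun x hx => (frob_apply p k _).trans (hk ⟨x, hx⟩)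

theorem form_frob (h : Ctx P) (k : ℕ) (hk : ∀ x : P, tr' x ^ p ^ k = tr' x⁻¹) :
    Form P (iterateFrobeniusEquiv F p k) :=
  form_of_traces h _ fun x hx => (frob_apply p k _).trans (hk ⟨x, hx⟩)

theorem card_of_frob {k : ℕ} (hk : 1 ≤ k) (h : iterateFrobeniusEquiv F p k = RingEquiv.refl F) :
    ∃ n, 1 ≤ n ∧ n ≤ k ∧ Fintype.card F = p ^ n := by
  classical
  obtain ⟨n, -, hn⟩ := FiniteField.card F p
  refine ⟨n, n.2, ?_, hn⟩
  have hroot : ∀ a : F, a ^ p ^ k = a := fun a => by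
    rw [← frob_apply p k a, h]; rfl
  have hlt : 1 < p ^ k := Nat.one_lt_pow (by omega) (Fact.out : p.Prime).one_lt
  have hne := FiniteField.X_pow_card_sub_X_ne_zero F hlt
  have h1 := Polynomial.card_le_degree_of_subset_roots (Z := (Finset.univ : Finset F))
    (p := (Polynomial.X ^ (p ^ k) - Polynomial.X : Polynomial F)) (fun a _ => by
      rw [Polynomial.mem_roots hne]
      simp [hroot a])
  rw [Finset.card_univ, hn, FiniteField.X_pow_card_sub_X_natDegree_eq F hlt] at h1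
  exact (Nat.pow_le_pow_iff_right (Fact.out : p.Prime).one_lt).1 h1

theorem involutive_of_card (hF : Fintype.card F = p ^ 2) (a : F) :
    iterateFrobeniusEquiv F p 1 (iterateFrobeniusEquiv F p 1 a) = a := by
  rw [frob_apply, frob_apply, ← pow_mul, pow_one, ← pow_two, ← hF, FiniteField.pow_card]

/-- The `p ^ k`-th power of the trace of a real element of order dividing three, four or five. -/
theorem real_pow {y : P} (hr : ∃ g, g * y * g⁻¹ = y⁻¹) {k : ℕ} {n : ℕ} (hn : y ^ n = 1)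
    (hm : (∃ j, n = p ^ j) ∨ p ^ k % n = 1 ∨ p ^ k % n = n - 1) : tr' y ^ p ^ k = tr' y := by
  rcases hm with ⟨j, rfl⟩ | hm | hm
  · rw [tr'_unipotent p hn, three_pow]
  · rw [tr'_pow, pow_eq_pow_mod _ hn, hm, pow_one]
  · obtain ⟨g, hg⟩ := hr
    have e : y ^ (n - 1) = y⁻¹ := by
      rcases Nat.eq_zero_or_pos n with rfl | hn0
      · simp only [Nat.mod_zero] at hm
        exact absurd hm (pow_ne_zero k (Fact.out : p.Prime).ne_zero)
      · refine eq_inv_of_mul_eq_one_left ?_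
        rw [← pow_succ, Nat.sub_add_cancel hn0, hn]
    rw [tr'_pow, pow_eq_pow_mod _ hn, hm, e, ← hg, tr'_conj]

theorem mod_pow_four (k : ℕ) : (∃ j, 4 = p ^ j) ∨ p ^ k % 4 = 1 ∨ p ^ k % 4 = 4 - 1 := by
  rcases (Fact.out : p.Prime).eq_two_or_odd' with rfl | h
  · exact Or.inl ⟨2, rfl⟩
  · have := Nat.odd_iff.1 (h.pow (n := k))
    omega

theorem mod_pow_three (k : ℕ) : (∃ j, 3 = p ^ j) ∨ p ^ k % 3 = 1 ∨ p ^ k % 3 = 3 - 1 := by
  by_cases h : p = 3
  · exact Or.inl ⟨1, by rw [h, pow_one]⟩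
  · have hnd : ¬ 3 ∣ p ^ k := fun hd =>
      h ((Nat.prime_dvd_prime_iff_eq Nat.prime_three Fact.out).1 (Nat.prime_three.dvd_of_dvd_pow hd)).symm
    omega

end Frob

/-! ### Scalars in `P` -/

section Scalars

variable (h : Ctx P)

theorem mem_sc {z : P} : z ∈ (scalars (Fin 3) F).subgroupOf P ↔ ∃ c : F, c ≠ 0 ∧ incl P z = c • (1 : Matrix (Fin 3) (Fin 3) F) := by
  rw [Subgroup.mem_subgroupOf, mem_scalars_iff]
  exact ⟨fun ⟨c, hc⟩ => ⟨c, c.ne_zero, hc⟩, fun ⟨c, h0, hc⟩ => ⟨Units.mk0 c h0, hc⟩⟩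

include h in
theorem sc_cube {z : P} {c : F} (hz : incl P z = c • (1 : Matrix (Fin 3) (Fin 3) F)) : c ^ 3 = 1 := by
  have h1 : Matrix.GeneralLinearGroup.det (z : GL (Fin 3) F) = 1 := h.le_sl z.2
  have h2 := congrArg Matrix.det hz
  rw [Matrix.det_smul, Matrix.det_one, mul_one, Fintype.card_fin, incl_apply] at h2
  rw [← h2]
  exact congrArg Units.val h1

theorem incl_injective : Function.Injective (incl P) := fun _ _ e => Subtype.ext (Units.ext e)

include h in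
theorem sc_pow_three {z : P} (hz : z ∈ (scalars (Fin 3) F).subgroupOf P) : z ^ 3 = 1 := by
  obtain ⟨c, -, hc⟩ := mem_sc.1 hz
  exact incl_injective (by rw [map_pow, hc, smul_pow, one_pow, sc_cube h hc, one_smul, map_one])

theorem sc_central {z : P} (hz : z ∈ (scalars (Fin 3) F).subgroupOf P) (g : P) : g * z = z * g := by
  obtain ⟨c, -, hc⟩ := mem_sc.1 hz
  exact incl_injective (by rw [map_mul, map_mul, hc, Matrix.mul_smul, Matrix.smul_mul, Matrix.one_mul, Matrix.mul_one])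

include h in
theorem card_sc_le : Nat.card ((scalars (Fin 3) F).subgroupOf P) ≤ 3 := by
  classical
  have hex : ∀ z : (scalars (Fin 3) F).subgroupOf P, ∃ c : F, c ^ 3 = 1 ∧ incl P z = c • (1 : Matrix (Fin 3) (Fin 3) F) :=
    fun z => by
      obtain ⟨c, -, hc⟩ := mem_sc.1 z.2
      exact ⟨c, sc_cube h hc, hc⟩
  choose c hc3 hc using hex
  have hmem : ∀ z, c z ∈ (Polynomial.nthRoots 3 (1 : F)).toFinset := fun z => by
    rw [Multiset.mem_toFinset, Polynomial.mem_nthRoots (by norm_num)]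
    exact hc3 z
  have hle := Nat.card_le_card_of_injective
    (f := fun z => (⟨c z, hmem z⟩ : ((Polynomial.nthRoots 3 (1 : F)).toFinset : Finset F))) (fun a b e => by
      refine Subtype.ext (incl_injective ?_)
      rw [hc a, hc b, show c a = c b from congrArg Subtype.val e])
  refine hle.trans ?_
  rw [Nat.card_eq_fintype_card, Fintype.card_coe]
  exact (Multiset.toFinset_card_le _).trans (Polynomial.card_nthRoots 3 1)

include h in
theorem perfect_top : commutator P = ⊤ := by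
  apply Subgroup.map_injective P.subtype_injective
  rw [Subgroup.map_subtype_commutator, ← MonoidHom.range_eq_map, Subgroup.range_subtype, h.perfect]

/-- A nontrivial scalar forces nonabelian Sylow `3`-subgroups. -/
theorem nonabelian_sylow {z : P} (hz : z ∈ (scalars (Fin 3) F).subgroupOf P) (hz1 : z ≠ 1) (h : Ctx P)
    [Fact (Nat.Prime 3)] (S : Sylow 3 P) : z ∈ (S : Subgroup P) ∧ ¬ IsMulCommutative (S : Subgroup P) := by
  have hp : IsPGroup 3 (Subgroup.zpowers z) := IsPGroup.of_card (n := 1) (by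
    rw [Nat.card_zpowers, orderOf_eq_prime (sc_pow_three h hz) hz1, pow_one])
  obtain ⟨T, hT⟩ := hp.exists_le_sylow
  obtain ⟨g, hg⟩ := MulAction.exists_smul_eq P T S
  have hzS : z ∈ (S : Subgroup P) := by
    rw [← hg, Sylow.coe_subgroup_smul, Subgroup.mem_pointwise_smul_iff_inv_smul_mem]
    have e : (MulAut.conj g)⁻¹ • z = z := by
      rw [MulAut.smul_def, MulAut.conj_inv_apply, mul_assoc, ← sc_central hz g, ← mul_assoc, inv_mul_cancel,
        one_mul]
    rw [e]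
    exact hT (Subgroup.mem_zpowers z)
  exact ⟨hzS, fun hab => hz1 (eq_one_of_central (perfect_top h) S (hab := hab) hzS fun a => sc_central hz a)⟩

include h in
theorem sc_trivial (h9 : ¬ 9 ∣ Nat.card (P ⧸ (scalars (Fin 3) F).subgroupOf P)) {z : P}
    (hz : z ∈ (scalars (Fin 3) F).subgroupOf P) : z = 1 := by
  by_contra hz1
  haveI : Fact (Nat.Prime 3) := ⟨Nat.prime_three⟩
  set Z := (scalars (Fin 3) F).subgroupOf P
  have h3 : Nat.card Z = 3 := by
    have h1 : Nat.card Z ≤ 3 := card_sc_le h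
    have ho : orderOf (⟨z, hz⟩ : Z) = 3 :=
      (Subgroup.orderOf_mk z hz).trans (orderOf_eq_prime (sc_pow_three h hz) hz1)
    have hdvd : 3 ∣ Nat.card Z := by
      have hd := orderOf_dvd_natCard (G := Z) ⟨z, hz⟩
      exact ho.symm.dvd.trans hd
    have := Nat.le_of_dvd Nat.card_pos hdvd
    omega
  let S : Sylow 3 P := default
  refine (nonabelian_sylow hz hz1 h S).2 ?_
  obtain ⟨k, hk⟩ := IsPGroup.iff_card.1 S.2
  have hk2 : k ≤ 2 := by
    by_contra hlt
    have h27 : 27 ∣ Nat.card P := by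
      refine Dvd.dvd.trans ?_ (Subgroup.card_subgroup_dvd_card (S : Subgroup P))
      rw [hk, show (27 : ℕ) = 3 ^ 3 from rfl]
      exact pow_dvd_pow 3 (by omega)
    rw [Subgroup.card_eq_card_quotient_mul_card_subgroup Z, h3] at h27
    exact h9 (Nat.dvd_of_mul_dvd_mul_right (by norm_num) (show 9 * 3 ∣ _ from h27))
  interval_cases k
  · haveI := (Nat.card_eq_one_iff_unique.1 hk).1
    exact ⟨⟨fun a b => Subsingleton.elim _ _⟩⟩
  · haveI : IsCyclic (S : Subgroup P) := isCyclic_of_prime_card (p := 3) (by rw [hk, pow_one])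
    infer_instance
  · exact IsPGroup.isMulCommutative_of_card_eq_prime_sq hk

theorem pow_eq_one_of_trivial {H : Type*} [Group H] (ht : ∀ z : P, z ∈ (scalars (Fin 3) F).subgroupOf P → z = 1)
    (π : (P ⧸ (scalars (Fin 3) F).subgroupOf P) ≃* H) {x : P} {n : ℕ} (hn : π x ^ n = 1) : x ^ n = 1 := by
  refine ht _ ((QuotientGroup.eq_one_iff _).1 (π.injective ?_))
  rw [map_one, ← hn, ← map_pow]
  rfl

theorem conj_of_trivial (ht : ∀ z : P, z ∈ (scalars (Fin 3) F).subgroupOf P → z = 1) {x x' : P}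
    (hg : ∃ g : P ⧸ (scalars (Fin 3) F).subgroupOf P, g * x * g⁻¹ = x') : ∃ g, g * x * g⁻¹ = x' := by
  obtain ⟨g, hg⟩ := hg
  obtain ⟨g, rfl⟩ := QuotientGroup.mk_surjective g
  refine ⟨g, mul_inv_eq_one.1 (ht _ ((QuotientGroup.eq_one_iff _).1 ?_))⟩
  rw [QuotientGroup.mk_mul, QuotientGroup.mk_inv, mul_inv_eq_one, QuotientGroup.mk_mul, QuotientGroup.mk_mul,
    QuotientGroup.mk_inv, hg]

include h in
theorem form_refl_of_real (hr : ∀ x : P, ∃ g, g * x * g⁻¹ = x⁻¹) : Form P (RingEquiv.refl F) :=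
  form_of_traces h _ fun x hx => by
    obtain ⟨g, hg⟩ := hr ⟨x, hx⟩
    show tr' (⟨x, hx⟩ : P) = tr' (⟨x, hx⟩ : P)⁻¹
    rw [← hg, tr'_conj]

end Scalars

/-! ### The three groups -/

theorem form_of_a5 (h : Ctx P) (e : Nonempty ((P ⧸ (scalars (Fin 3) F).subgroupOf P) ≃* alternatingGroup (Fin 5))) :
    Form P (RingEquiv.refl F) := by
  obtain ⟨e⟩ := e
  have ht : ∀ z : P, z ∈ (scalars (Fin 3) F).subgroupOf P → z = 1 := fun z hz => sc_trivial h (by
    rw [Nat.card_congr e.toEquiv, nat_card_alternatingGroup, Nat.card_fin]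
    norm_num [Nat.factorial]) hz
  exact form_refl_of_real h fun x => conj_of_trivial ht (by
    simpa using real_of_equiv e altFive_real (x : P ⧸ (scalars (Fin 3) F).subgroupOf P))

theorem fields_168 (h : Ctx P) (hc : Nat.card (P ⧸ (scalars (Fin 3) F).subgroupOf P) = 168)
    (p : ℕ) [hp : Fact p.Prime] [CharP F p] :
    (∃ τ, τ ≠ RingEquiv.refl F ∧ Twist P τ) ∨ Form P (RingEquiv.refl F) ∨
      (Fintype.card F = p ∧ (p % 7 = 1 ∨ p % 7 = 2 ∨ p % 7 = 4)) ∨
      (Fintype.card F = p ^ 2 ∧ (p % 7 = 3 ∨ p % 7 = 5 ∨ p % 7 = 6) ∧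
        ∃ s : F ≃+* F, (∀ a, s (s a) = a) ∧ s ≠ RingEquiv.refl F ∧ Form P s) := by
  haveI := h.simple
  have ht : ∀ z : P, z ∈ (scalars (Fin 3) F).subgroupOf P → z = 1 := fun z hz =>
    sc_trivial h (by rw [hc]; norm_num) hz
  -- the behaviour of the traces
  have key : ∀ (k : ℕ) (x : P), tr' x ^ p ^ k = tr' x ∧ tr' x⁻¹ = tr' x ∨
      x ^ 7 = 1 ∧ p ≠ 7 ∧ ∃ g, g * x * g⁻¹ = x ^ 2 := by
    intro k x
    have cl := classes_168 hc (x : P ⧸ (scalars (Fin 3) F).subgroupOf P)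
    have lift : ∀ n : ℕ, (x : P ⧸ (scalars (Fin 3) F).subgroupOf P) ^ n = 1 → x ^ n = 1 :=
      fun n hn => pow_eq_one_of_trivial ht (MulEquiv.refl _) hn
    have real : ∀ n : ℕ, x ^ n = 1 → (∃ g, g * x * g⁻¹ = x⁻¹) →
        ((∃ j, n = p ^ j) ∨ p ^ k % n = 1 ∨ p ^ k % n = n - 1) → tr' x ^ p ^ k = tr' x ∧ tr' x⁻¹ = tr' x :=
      fun n hn hg hm => ⟨real_pow p hg hn hm, by
        obtain ⟨g, hg⟩ := hg
        rw [← hg, tr'_conj]⟩
    rcases cl with ⟨hn, hg⟩ | ⟨hn, hg⟩ | ⟨hn, hg⟩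
    · exact Or.inl (real 3 (lift 3 hn) (conj_of_trivial ht (by simpa using hg)) (mod_pow_three p k))
    · exact Or.inl (real 4 (lift 4 hn) (conj_of_trivial ht (by simpa using hg)) (mod_pow_four p k))
    by_cases h7 : p = 7
    · refine Or.inl ?_
      have hx : x ^ p ^ 1 = 1 := by rw [pow_one, h7]; exact lift 7 hn
      have hxi : x⁻¹ ^ p ^ 1 = 1 := by rw [inv_pow, hx, inv_one]
      exact ⟨by rw [tr'_unipotent p hx, three_pow], by rw [tr'_unipotent p hx, tr'_unipotent p hxi]⟩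
    · exact Or.inr ⟨lift 7 hn, h7, conj_of_trivial ht (by simpa using hg)⟩
  have h124 : ∀ k, (p = 7 ∨ p ^ k % 7 = 1 ∨ p ^ k % 7 = 2 ∨ p ^ k % 7 = 4) → ∀ x : P, tr' x ^ p ^ k = tr' x := by
    intro k hk x
    rcases key k x with ⟨e, -⟩ | ⟨hn, h7, g, hg⟩
    · exact e
    have e2 : ∀ j, tr' (x ^ (2 * j)) = tr' (x ^ j) := fun j => by
      rw [pow_mul, ← hg, conj_pow, tr'_conj]
    rw [tr'_pow, pow_eq_pow_mod _ hn]
    rcases hk with hk | hk | hk | hk
    · exact absurd hk h7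
    · rw [hk, pow_one]
    · rw [hk, e2 1, pow_one]
    · rw [hk, e2 2, e2 1, pow_one]
  have h356 : ∀ k, (p = 7 ∨ p ^ k % 7 = 3 ∨ p ^ k % 7 = 5 ∨ p ^ k % 7 = 6) → ∀ x : P, tr' x ^ p ^ k = tr' x⁻¹ := by
    intro k hk x
    rcases key k x with ⟨e, e'⟩ | ⟨hn, h7, g, hg⟩
    · rw [e, e']
    have hinv : x⁻¹ = x ^ 6 := inv_eq_of_mul_eq_one_right (by rw [← pow_succ', hn])
    have e2 : ∀ j, tr' (x ^ (2 * j)) = tr' (x ^ j) := fun j => by
      rw [pow_mul, ← hg, conj_pow, tr'_conj]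
    have e5 : tr' (x ^ 5) = tr' (x ^ 6) := by
      rw [← e2 6, show 2 * 6 = 7 + 5 from rfl, pow_add, hn, one_mul]
    rw [tr'_pow, pow_eq_pow_mod _ hn, hinv]
    rcases hk with hk | hk | hk | hk
    · exact absurd hk h7
    · rw [hk, ← e2 3]
    · rw [hk, e5]
    · rw [hk]
  by_cases hgood : p % 7 = 1 ∨ p % 7 = 2 ∨ p % 7 = 4
  · by_cases hσ : iterateFrobeniusEquiv F p 1 = RingEquiv.refl F
    · obtain ⟨n, hn1, hn2, hn⟩ := card_of_frob p le_rfl hσ
      rw [le_antisymm hn2 hn1, pow_one] at hn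
      exact Or.inr (Or.inr (Or.inl ⟨hn, hgood⟩))
    · exact Or.inl ⟨_, hσ, twist_frob p h 1 (h124 1 (by rw [pow_one]; exact Or.inr hgood))⟩
  have hbad : p = 7 ∨ p % 7 = 3 ∨ p % 7 = 5 ∨ p % 7 = 6 := by
    by_cases h7 : p = 7
    · exact Or.inl h7
    · have hnd : ¬ 7 ∣ p := fun hd =>
        h7 ((Nat.prime_dvd_prime_iff_eq (by norm_num) hp.out).1 hd).symm
      omega
  have hform := form_frob p h 1 (h356 1 (by rw [pow_one]; exact hbad))
  have hsq : p = 7 ∨ p ^ 2 % 7 = 1 ∨ p ^ 2 % 7 = 2 ∨ p ^ 2 % 7 = 4 := by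
    rcases hbad with h7 | h7 | h7 | h7
    · exact Or.inl h7
    all_goals right; rw [Nat.pow_mod, h7]; norm_num
  by_cases hσ2 : iterateFrobeniusEquiv F p 2 = RingEquiv.refl F
  swap
  · exact Or.inl ⟨_, hσ2, twist_frob p h 2 (h124 2 hsq)⟩
  by_cases hσ : iterateFrobeniusEquiv F p 1 = RingEquiv.refl F
  · exact Or.inr (Or.inl (hσ ▸ hform))
  by_cases h7 : p = 7
  · exact Or.inl ⟨_, hσ, twist_frob p h 1 (h124 1 (Or.inl h7))⟩
  obtain ⟨n, hn1, hn2, hn⟩ := card_of_frob p (by norm_num) hσ2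
  interval_cases n
  · exfalso
    refine hσ (RingEquiv.ext fun a => ?_)
    rw [frob_apply, ← hn, FiniteField.pow_card]
    rfl
  · exact Or.inr (Or.inr (Or.inr ⟨hn, hbad.resolve_left h7, _, involutive_of_card p hn, hσ, hform⟩))

theorem fields_l27 (h : Ctx P)
    (e : Nonempty ((P ⧸ (scalars (Fin 3) F).subgroupOf P) ≃* Matrix.ProjectiveSpecialLinearGroup (Fin 2) (ZMod 7)))
    (p : ℕ) [hp : Fact p.Prime] [CharP F p] :
    (∃ τ, τ ≠ RingEquiv.refl F ∧ Twist P τ) ∨ Form P (RingEquiv.refl F) ∨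
      (Fintype.card F = p ∧ (p % 7 = 1 ∨ p % 7 = 2 ∨ p % 7 = 4)) ∨
      (Fintype.card F = p ^ 2 ∧ (p % 7 = 3 ∨ p % 7 = 5 ∨ p % 7 = 6) ∧
        ∃ s : F ≃+* F, (∀ a, s (s a) = a) ∧ s ≠ RingEquiv.refl F ∧ Form P s) := by
  haveI : Fact (Nat.Prime 7) := ⟨by norm_num⟩
  obtain ⟨e⟩ := e
  exact fields_168 h ((Nat.card_congr e.toEquiv).trans
    (Small.PSLThreeTwo.psl_two_seven (ZMod.card 7)).2) p

theorem five_check : ∀ r : ZMod 5, r = 2 ∨ r = 3 →
    (r ^ 3 - r ^ 0) * (r ^ 3 - r ^ 1) * (r ^ 3 - r ^ 2) ≠ 0 := by decide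

theorem no_five_in_gl {p : ℕ} [Fact p.Prime] [CharP F p] (hF : Fintype.card F = p) (hp : p % 5 = 2 ∨ p % 5 = 3)
    {y : GL (Fin 3) F} (hy : y ^ 5 = 1) : y = 1 := by
  haveI : Fact (Nat.Prime 5) := ⟨by norm_num⟩
  by_contra hy1
  have h5 : 5 ∣ Nat.card (GL (Fin 3) F) := orderOf_eq_prime hy hy1 ▸ orderOf_dvd_natCard y
  rw [Matrix.card_GL_field, hF, Fin.prod_univ_three] at h5
  have hpp : 2 ≤ p := (Fact.out : p.Prime).two_le
  have hcast : (((p ^ 3 - p ^ 0) * (p ^ 3 - p ^ 1) * (p ^ 3 - p ^ 2) : ℕ) : ZMod 5) = 0 :=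
    (ZMod.natCast_eq_zero_iff _ 5).2 h5
  rw [Nat.cast_mul, Nat.cast_mul, Nat.cast_sub (Nat.pow_le_pow_right (by omega) (by norm_num)),
    Nat.cast_sub (Nat.pow_le_pow_right (by omega) (by norm_num)),
    Nat.cast_sub (Nat.pow_le_pow_right (by omega) (by norm_num)), Nat.cast_pow, Nat.cast_pow, Nat.cast_pow,
    Nat.cast_pow, ← ZMod.natCast_mod p 5] at hcast
  exact five_check _ (by rcases hp with h | h <;> simp [h]) hcast

theorem fields_a6 (h : Ctx P) (e : Nonempty ((P ⧸ (scalars (Fin 3) F).subgroupOf P) ≃* alternatingGroup (Fin 6)))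
    (p : ℕ) [hp : Fact p.Prime] [CharP F p] :
    (∃ τ, τ ≠ RingEquiv.refl F ∧ Twist P τ) ∨ Form P (RingEquiv.refl F) ∨
      (Fintype.card F = p ∧ (p % 15 = 1 ∨ p % 15 = 4)) ∨
      (Fintype.card F = p ^ 2 ∧ p ≠ 3 ∧ (p % 5 = 2 ∨ p % 5 = 3)) ∨
      (Fintype.card F = p ^ 2 ∧ (p % 15 = 11 ∨ p % 15 = 14 ∨ p = 5) ∧
        ∃ s : F ≃+* F, (∀ a, s (s a) = a) ∧ s ≠ RingEquiv.refl F ∧ Form P s) := by
  classical
  obtain ⟨e⟩ := e
  set Z := (scalars (Fin 3) F).subgroupOf P with hZ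
  have hQ : Nat.card (P ⧸ Z) = 360 := by
    rw [Nat.card_congr e.toEquiv, nat_card_alternatingGroup, Nat.card_fin]
    norm_num [Nat.factorial]
  have qreal := real_of_equiv e altSix_real
  by_cases htriv : ∀ z : P, z ∈ Z → z = 1
  · refine Or.inr (Or.inl (form_refl_of_real h fun x => conj_of_trivial htriv ?_))
    simpa using qreal (x : P ⧸ Z)
  push Not at htriv
  obtain ⟨z₀, hz₀, hz₀1⟩ := htriv
  haveI : Fact (Nat.Prime 3) := ⟨Nat.prime_three⟩
  have hZ3 : Nat.card Z = 3 := by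
    have h1 : Nat.card Z ≤ 3 := card_sc_le h
    have ho : orderOf (⟨z₀, hz₀⟩ : Z) = 3 :=
      (Subgroup.orderOf_mk z₀ hz₀).trans (orderOf_eq_prime (sc_pow_three h hz₀) hz₀1)
    have hdvd : 3 ∣ Nat.card Z := by
      have hd := orderOf_dvd_natCard (G := Z) ⟨z₀, hz₀⟩
      exact ho.symm.dvd.trans hd
    have h2 := Nat.le_of_dvd Nat.card_pos hdvd
    omega
  -- the characteristic is not three
  obtain ⟨c₀, -, hc₀⟩ := mem_sc.1 hz₀
  have hc₀1 : c₀ ≠ 1 := fun e' => hz₀1 (incl_injective (by rw [hc₀, e', one_smul, map_one]))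
  have hp3 : p ≠ 3 := fun e3 => by
    subst e3
    have h1 : (c₀ - 1) ^ 3 = 0 := by rw [sub_pow_char, sc_cube h hc₀, one_pow, sub_self]
    exact hc₀1 (sub_eq_zero.1 (eq_zero_of_pow_eq_zero h1))
  -- an element of order three modulo scalars has trace zero
  have hthree : ∀ x : P, (x : P ⧸ Z) ^ 3 = 1 → x ∉ Z → tr' x = 0 := by
    intro x hx3 hxZ
    have hxcube : x ^ 3 ∈ Z := (QuotientGroup.eq_one_iff _).1 hx3
    have hx9 : x ^ 3 ^ 2 = 1 := by
      rw [show 3 ^ 2 = 3 * 3 from rfl, pow_mul, sc_pow_three h hxcube]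
    have hp3x : IsPGroup 3 (Subgroup.zpowers x) := by
      obtain ⟨j, -, hj⟩ := (Nat.dvd_prime_pow Nat.prime_three).1 (orderOf_dvd_of_pow_eq_one hx9)
      exact IsPGroup.of_card (n := j) (by rw [Nat.card_zpowers, hj])
    obtain ⟨S, hS⟩ := hp3x.exists_le_sylow
    obtain ⟨hzS, hna⟩ := nonabelian_sylow hz₀ hz₀1 h S
    have hcS : Nat.card (S : Subgroup P) = 27 := by
      rw [S.card_eq_multiplicity, Subgroup.card_eq_card_quotient_mul_card_subgroup Z, hQ, hZ3]
      have : (360 * 3).factorization 3 = 3 := by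
        rw [show 360 * 3 = 40 * 3 ^ 3 from rfl, Nat.factorization_mul (by norm_num) (by norm_num),
          Finsupp.add_apply, Nat.factorization_eq_zero_of_not_dvd (by norm_num),
          Nat.Prime.factorization_pow Nat.prime_three, Finsupp.single_eq_same]
      rw [this]; rfl
    have hxS : x ∈ (S : Subgroup P) := hS (Subgroup.mem_zpowers x)
    have hncen := not_central_of_nonabelian hcS hna (z := ⟨z₀, hzS⟩) (x := ⟨x, hxS⟩)
      (fun e' => hz₀1 (congrArg Subtype.val e'))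
      (Subgroup.mem_center_iff.2 fun a => Subtype.ext (sc_central hz₀ _))
      (Subtype.ext (sc_pow_three h hz₀))
      (fun k e' => hxZ (by rw [show x = z₀ ^ k from congrArg Subtype.val e']; exact pow_mem hz₀ k))
    rw [Subgroup.mem_center_iff] at hncen
    push Not at hncen
    obtain ⟨⟨g, hgS⟩, hg⟩ := hncen
    -- the images commute, the Sylow subgroups of the quotient being abelian
    have hab : IsMulCommutative ((S : Subgroup P).map (QuotientGroup.mk' Z)) := by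
      obtain ⟨k, hk⟩ := IsPGroup.iff_card.1 (S.2.map (QuotientGroup.mk' Z))
      have hk2 : k ≤ 2 := by
        by_contra hlt
        have h27 : 27 ∣ 360 := by
          rw [← hQ]
          refine Dvd.dvd.trans ?_ (Subgroup.card_subgroup_dvd_card ((S : Subgroup P).map (QuotientGroup.mk' Z)))
          rw [hk, show (27 : ℕ) = 3 ^ 3 from rfl]
          exact pow_dvd_pow 3 (by omega)
        norm_num at h27
      interval_cases k
      · haveI := (Nat.card_eq_one_iff_unique.1 hk).1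
        exact ⟨⟨fun a b => Subsingleton.elim _ _⟩⟩
      · haveI := isCyclic_of_prime_card (p := 3) (by rw [hk, pow_one])
        infer_instance
      · exact IsPGroup.isMulCommutative_of_card_eq_prime_sq hk
    have hcm : g * x * g⁻¹ * x⁻¹ ∈ Z := by
      rw [← QuotientGroup.eq_one_iff]
      have := congrArg Subtype.val (hab.1.1 ⟨_, Subgroup.mem_map_of_mem _ hgS⟩ ⟨_, Subgroup.mem_map_of_mem _ hxS⟩)
      simp only [QuotientGroup.mk_mul, QuotientGroup.mk_inv]
      rw [mul_inv_eq_one, mul_inv_eq_iff_eq_mul]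
      exact this
    obtain ⟨c, -, hc⟩ := mem_sc.1 hcm
    have hc1 : c ≠ 1 := fun e' => hg (Subtype.ext (by
      have : g * x * g⁻¹ * x⁻¹ = 1 := incl_injective (by rw [hc, e', one_smul, map_one])
      exact mul_inv_eq_iff_eq_mul.1 (mul_inv_eq_one.1 this)))
    have h2 : tr' x = c * tr' x := by
      calc tr' x = tr' (g * x * g⁻¹) := (tr'_conj g x).symm
        _ = tr' (g * x * g⁻¹ * x⁻¹ * x) := by rw [inv_mul_cancel_right]
        _ = c * tr' x := by
          rw [tr', map_mul, hc, Matrix.smul_mul, Matrix.one_mul, Matrix.trace_smul, smul_eq_mul, tr']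
    have h3 : (c - 1) * tr' x = 0 := by linear_combination -h2
    exact (mul_eq_zero.1 h3).resolve_left (sub_ne_zero.2 hc1)
  -- every other element is a scalar times a real element of order dividing four or five
  have hsplit : ∀ x : P, (tr' x = 0 ∧ tr' x⁻¹ = 0) ∨ ∃ (c : F) (y : P), c ^ 3 = 1 ∧ tr' x = c * tr' y ∧
      tr' x⁻¹ = c⁻¹ * tr' y ∧ (∀ m : ℕ, tr' (x ^ m) = c ^ m * tr' (y ^ m)) ∧
      (y ^ 4 = 1 ∨ y ^ 5 = 1) ∧ ∃ g, g * y * g⁻¹ = y⁻¹ := by
    intro x
    have htr : ∀ (z : P) (c : F) (y : P), incl P z = c • (1 : Matrix (Fin 3) (Fin 3) F) → tr' (z * y) = c * tr' y :=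
      fun z c y hc => by
        rw [tr', map_mul, hc, Matrix.smul_mul, Matrix.one_mul, Matrix.trace_smul, smul_eq_mul, tr']
    suffices hgoal : (tr' x = 0 ∧ tr' x⁻¹ = 0) ∨ ∃ y : P, x * y⁻¹ ∈ Z ∧ (y ^ 4 = 1 ∨ y ^ 5 = 1) ∧
        ∃ g, g * y * g⁻¹ = y⁻¹ by
      rcases hgoal with h0 | ⟨y, hz, hy, g, hg⟩
      · exact Or.inl h0
      obtain ⟨c, hc0, hc⟩ := mem_sc.1 hz
      have hci : incl P (x * y⁻¹)⁻¹ = c⁻¹ • (1 : Matrix (Fin 3) (Fin 3) F) := by
        have h1 : incl P (x * y⁻¹) * incl P (x * y⁻¹)⁻¹ = 1 := by rw [← map_mul, mul_inv_cancel, map_one]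
        rw [hc, Matrix.smul_mul, Matrix.one_mul] at h1
        rw [← h1, smul_smul, inv_mul_cancel₀ hc0, one_smul]
      have hxy : x = x * y⁻¹ * y := (inv_mul_cancel_right x y).symm
      refine Or.inr ⟨c, y, sc_cube h hc, ?_, ?_, fun m => ?_, hy, g, hg⟩
      · conv_lhs => rw [hxy]
        exact htr _ c _ hc
      · conv_lhs => rw [hxy, _root_.mul_inv_rev, sc_central (inv_mem hz) y⁻¹]
        rw [htr _ _ _ hci, ← hg, tr'_conj]
      · conv_lhs => rw [hxy, (show Commute (x * y⁻¹) y from (sc_central hz y).symm).mul_pow]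
        rw [htr _ (c ^ m) _ (by rw [map_pow, hc, smul_pow, one_pow])]
    by_cases hxZ : x ∈ Z
    · exact Or.inr ⟨1, by rwa [inv_one, mul_one], Or.inl (one_pow 4), 1, by group⟩
    have build : ∀ n a : ℕ, (x : P ⧸ Z) ^ n = 1 → 3 ∣ a → a % n = 1 → n % 3 ≠ 0 → (n = 4 ∨ n = 5) →
        ∃ y : P, x * y⁻¹ ∈ Z ∧ (y ^ 4 = 1 ∨ y ^ 5 = 1) ∧ ∃ g, g * y * g⁻¹ = y⁻¹ := by
      intro n a hn h3a ha h3n hn45
      obtain ⟨b, rfl⟩ := h3a
      have hyn : (x ^ (3 * b)) ^ n = 1 := by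
        rw [← pow_mul, show 3 * b * n = n * (3 * b) by ring, pow_mul, pow_mul,
          sc_pow_three h ((QuotientGroup.eq_one_iff _).1 hn), one_pow]
      have hq : ((x ^ (3 * b) : P) : P ⧸ Z) = x := by
        rw [QuotientGroup.mk_pow, pow_eq_pow_mod _ hn, ha, pow_one]
      refine ⟨x ^ (3 * b), ?_, ?_, ?_⟩
      · rw [← QuotientGroup.eq_one_iff, QuotientGroup.mk_mul, QuotientGroup.mk_inv, hq, mul_inv_cancel]
      · rcases hn45 with rfl | rfl
        · exact Or.inl hyn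
        · exact Or.inr hyn
      obtain ⟨g, hg⟩ := qreal (x : P ⧸ Z)
      obtain ⟨g, rfl⟩ := QuotientGroup.mk_surjective g
      refine ⟨g, mul_inv_eq_one.1 ?_⟩
      set y := x ^ (3 * b)
      set w := g * y * g⁻¹ * (y⁻¹)⁻¹ with hw
      have hwZ : w ∈ Z := by
        rw [← QuotientGroup.eq_one_iff, hw, QuotientGroup.mk_mul, QuotientGroup.mk_inv, mul_inv_eq_one,
          QuotientGroup.mk_mul, QuotientGroup.mk_mul, QuotientGroup.mk_inv, QuotientGroup.mk_inv, hq, hg]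
      have hwn : w ^ n = 1 := by
        have e1 : g * y * g⁻¹ = w * y⁻¹ := by rw [hw]; group
        have e2 := congrArg (· ^ n) e1
        simp only [conj_pow, hyn, mul_one, mul_inv_cancel] at e2
        rw [(show Commute w y⁻¹ from (sc_central hwZ y⁻¹).symm).mul_pow, inv_pow, hyn, inv_one, mul_one] at e2
        exact e2.symm
      have hco : Nat.Coprime n 3 := by rcases hn45 with rfl | rfl <;> norm_num
      exact orderOf_eq_one_iff.1 (Nat.dvd_one.1 (hco ▸ Nat.dvd_gcd (orderOf_dvd_of_pow_eq_one hwn)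
        (orderOf_dvd_of_pow_eq_one (sc_pow_three h hwZ))))
    have hord := altSix_orders (e (x : P ⧸ Z))
    rcases hord with h3 | h4 | h5
    · have hx3 : (x : P ⧸ Z) ^ 3 = 1 := e.injective (by rw [map_pow, h3, map_one])
      refine Or.inl ⟨hthree x hx3 hxZ, hthree x⁻¹ ?_ fun h' => hxZ (by simpa using inv_mem h')⟩
      rw [QuotientGroup.mk_inv, inv_pow, hx3, inv_one]
    · exact Or.inr (build 4 9 (e.injective (by rw [map_pow, h4, map_one])) ⟨3, rfl⟩ rfl (by norm_num) (Or.inl rfl))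
    · exact Or.inr (build 5 6 (e.injective (by rw [map_pow, h5, map_one])) ⟨2, rfl⟩ rfl (by norm_num) (Or.inr rfl))
  -- the two kinds of twisting
  have hzero : ∀ k : ℕ, (0 : F) ^ p ^ k = 0 := fun k => zero_pow (pow_ne_zero k hp.out.ne_zero)
  have hy45 : ∀ k, (p = 5 ∨ p ^ k % 5 = 1 ∨ p ^ k % 5 = 4) → ∀ y : P, (y ^ 4 = 1 ∨ y ^ 5 = 1) →
      (∃ g, g * y * g⁻¹ = y⁻¹) → tr' y ^ p ^ k = tr' y := by
    intro k hk y hy hg
    rcases hy with hy | hy
    · exact real_pow p hg hy (mod_pow_four p k)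
    · refine real_pow p hg hy ?_
      rcases hk with hk | hk | hk
      · exact Or.inl ⟨1, by rw [hk, pow_one]⟩
      · exact Or.inr (Or.inl hk)
      · exact Or.inr (Or.inr hk)
  have hfix : ∀ k, p ^ k % 3 = 1 → (p = 5 ∨ p ^ k % 5 = 1 ∨ p ^ k % 5 = 4) → ∀ x : P, tr' x ^ p ^ k = tr' x := by
    intro k hk3 hk5 x
    rcases hsplit x with ⟨h0, -⟩ | ⟨c, y, hc, hx, -, -, hy, hg⟩
    · rw [h0, hzero]
    · rw [hx, mul_pow, hy45 k hk5 y hy hg, pow_eq_pow_mod _ hc, hk3, pow_one]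
  have hdual : ∀ k, p ^ k % 3 = 2 → (p = 5 ∨ p ^ k % 5 = 1 ∨ p ^ k % 5 = 4) → ∀ x : P, tr' x ^ p ^ k = tr' x⁻¹ := by
    intro k hk3 hk5 x
    rcases hsplit x with ⟨h0, h0'⟩ | ⟨c, y, hc, hx, hx', -, hy, hg⟩
    · rw [h0, h0', hzero]
    · rw [hx, hx', mul_pow, hy45 k hk5 y hy hg, pow_eq_pow_mod _ hc, hk3]
      congr 1
      exact eq_inv_of_mul_eq_one_left (by rw [← pow_succ]; exact hc)
  have hp3' : p % 3 = 1 ∨ p % 3 = 2 := by
    have hnd : ¬ 3 ∣ p := fun hd => hp3 ((Nat.prime_dvd_prime_iff_eq Nat.prime_three hp.out).1 hd).symm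
    omega
  have h23 : p ^ 2 % 3 = 1 := by rcases hp3' with h' | h' <;> rw [Nat.pow_mod, h']
  by_cases h5good : p = 5 ∨ p % 5 = 1 ∨ p % 5 = 4
  · rcases hp3' with h31 | h32
    · by_cases hσ : iterateFrobeniusEquiv F p 1 = RingEquiv.refl F
      · obtain ⟨n, hn1, hn2, hn⟩ := card_of_frob p le_rfl hσ
        rw [le_antisymm hn2 hn1, pow_one] at hn
        exact Or.inr (Or.inr (Or.inl ⟨hn, by omega⟩))
      · exact Or.inl ⟨_, hσ, twist_frob p h 1 (hfix 1 (by rwa [pow_one]) (by rwa [pow_one]))⟩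
    · have hform := form_frob p h 1 (hdual 1 (by rwa [pow_one]) (by rwa [pow_one]))
      by_cases hσ : iterateFrobeniusEquiv F p 1 = RingEquiv.refl F
      · exact Or.inr (Or.inl (hσ ▸ hform))
      have h25 : p = 5 ∨ p ^ 2 % 5 = 1 ∨ p ^ 2 % 5 = 4 := by
        rcases h5good with h' | h' | h'
        · exact Or.inl h'
        all_goals right; rw [Nat.pow_mod, h']; norm_num
      by_cases hσ2 : iterateFrobeniusEquiv F p 2 = RingEquiv.refl F
      swap
      · exact Or.inl ⟨_, hσ2, twist_frob p h 2 (hfix 2 h23 h25)⟩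
      obtain ⟨n, hn1, hn2, hn⟩ := card_of_frob p (by norm_num) hσ2
      interval_cases n
      · exfalso
        refine hσ (RingEquiv.ext fun a => ?_)
        rw [frob_apply, ← hn, FiniteField.pow_card]
        rfl
      · exact Or.inr (Or.inr (Or.inr (Or.inr ⟨hn, by omega, _, involutive_of_card p hn, hσ, hform⟩)))
  · have h523 : p % 5 = 2 ∨ p % 5 = 3 := by
      have hnd : ¬ 5 ∣ p := fun hd => h5good
        (Or.inl ((Nat.prime_dvd_prime_iff_eq (by norm_num) hp.out).1 hd).symm)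
      omega
    have h25 : p ^ 2 % 5 = 4 := by rcases h523 with h' | h' <;> rw [Nat.pow_mod, h']
    by_cases hσ2 : iterateFrobeniusEquiv F p 2 = RingEquiv.refl F
    swap
    · exact Or.inl ⟨_, hσ2, twist_frob p h 2 (hfix 2 h23 (Or.inr (Or.inr h25)))⟩
    obtain ⟨n, hn1, hn2, hn⟩ := card_of_frob p (by norm_num) hσ2
    interval_cases n
    · exfalso
      rw [pow_one] at hn
      obtain ⟨u, hu5, hu1⟩ := altSix_five
      obtain ⟨x, hx⟩ := QuotientGroup.mk_surjective (e.symm u)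
      have hx5 : (x : P ⧸ Z) ^ 5 = 1 := by rw [hx, ← map_pow, hu5, map_one]
      have hy : (x ^ 6) ^ 5 = 1 := by
        rw [← pow_mul, show 6 * 5 = 5 * (3 * 2) from rfl, pow_mul, pow_mul,
          sc_pow_three h ((QuotientGroup.eq_one_iff _).1 hx5), one_pow]
      have h1 := no_five_in_gl hn h523 (y := ((x ^ 6 : P) : GL (Fin 3) F))
        (by rw [← Subgroup.coe_pow, hy, Subgroup.coe_one])
      have h2 : ((x ^ 6 : P) : P ⧸ Z) = 1 := by rw [show (x ^ 6 : P) = 1 from Subtype.ext h1]; rfl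
      rw [QuotientGroup.mk_pow, pow_succ, hx5, one_mul, hx] at h2
      exact hu1 (e.symm.injective (by rw [h2, map_one]))
    · exact Or.inr (Or.inr (Or.inr (Or.inl ⟨hn, hp3, h523⟩)))

end Cfsg.Agent.PThree
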