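import Cfsg.Agent.Lib.Classical.PThree.Basic

/-!
# Traces and equivalences for absolutely irreducible subgroups of the three-dimensional linear group

The matrices of such a group span the matrix algebra, so equal traces give an equivalence; in
characteristic `p` the `p`-th power of a trace is the trace of the `p`-th power.
-/

set_option autoImplicit false
set_option linter.unusedSectionVars false
set_option linter.style.haveILetI false

namespace Cfsg.Agent.PThree

open Matrix Cfsg Cfsg.Geo
open scoped MatrixGroups

/-- Burnside's theorem for an irreducible group with scalar commutant. -/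
theorem span_eq_top_of_irreducible {D : Type*} [Group D] {K : Type*} [Field K] {n : ℕ}
    (σ : D →* Matrix (Fin n) (Fin n) K)
    (hirr : ∀ W : Submodule K (Fin n → K), (∀ g, ∀ y ∈ W, (σ g).mulVec y ∈ W) → W = ⊥ ∨ W = ⊤)
    (hcomm : ∀ f : (Fin n → K) →ₗ[K] (Fin n → K),
      (∀ (g : D) (a : Fin n → K), f ((σ g).mulVec a) = (σ g).mulVec (f a)) → ∃ c : K, ∀ a, f a = c • a) :
    Submodule.span K (Set.range σ) = ⊤ := by
  classical
  set A := Submodule.span K (Set.range σ) with hA
  have hone : (1 : Matrix (Fin n) (Fin n) K) ∈ A := Submodule.subset_span ⟨1, map_one σ⟩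
  have hmul : ∀ g : D, ∀ a ∈ A, σ g * a ∈ A := by
    intro g a ha
    induction ha using Submodule.span_induction with
    | mem x hx =>
      obtain ⟨k, rfl⟩ := hx
      exact Submodule.subset_span ⟨g * k, map_mul σ g k⟩
    | zero => simp
    | add x y _ _ hx hy => rw [mul_add]; exact add_mem hx hy
    | smul c x _ hx => rw [mul_smul_comm]; exact Submodule.smul_mem _ _ hx
  have key : ∀ (k : ℕ) (v : Fin k → Fin n → K), LinearIndependent K v →
      ∀ t : Fin k → Fin n → K, ∃ a ∈ A, ∀ i, a.mulVec (v i) = t i := by
    intro k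
    induction k with
    | zero => exact fun v _ t => ⟨0, zero_mem _, fun i => i.elim0⟩
    | succ k ih =>
      intro v hv t
      set w := v (Fin.last k) with hw
      set v' : Fin k → Fin n → K := fun i => v i.castSucc with hv'
      have hli : LinearIndependent K v' := hv.comp _ (Fin.castSucc_injective k)
      let Iw : Submodule K (Fin n → K) :=
        { carrier := {x | ∃ a ∈ A, (∀ i, a.mulVec (v' i) = 0) ∧ a.mulVec w = x}
          add_mem' := by
            rintro x y ⟨a, ha, ha0, rfl⟩ ⟨b, hb, hb0, rfl⟩
            exact ⟨a + b, add_mem ha hb, fun i => by rw [Matrix.add_mulVec, ha0, hb0, add_zero],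
              Matrix.add_mulVec a b w⟩
          zero_mem' := ⟨0, zero_mem _, fun i => Matrix.zero_mulVec _, Matrix.zero_mulVec _⟩
          smul_mem' := by
            rintro c x ⟨a, ha, ha0, rfl⟩
            exact ⟨c • a, Submodule.smul_mem _ _ ha, fun i => by rw [Matrix.smul_mulVec, ha0, smul_zero],
              Matrix.smul_mulVec c a w⟩ }
      by_cases hI : ∃ x ∈ Iw, x ≠ 0
      · obtain ⟨_, ⟨a, ha, ha0, rfl⟩, hx0⟩ := hI
        have hall : ∀ y, y ∈ Iw := by
          have htop : Iw = ⊤ := (hirr Iw fun g y hy => by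
            obtain ⟨b, hb, hb0, rfl⟩ := hy
            exact ⟨σ g * b, hmul g b hb, fun i => by rw [← Matrix.mulVec_mulVec, hb0, Matrix.mulVec_zero],
              by rw [← Matrix.mulVec_mulVec]⟩).resolve_left fun e => hx0 (by
              have : a.mulVec w ∈ Iw := ⟨a, ha, ha0, rfl⟩
              rwa [e, Submodule.mem_bot] at this)
          exact fun y => htop ▸ trivial
        obtain ⟨b, hb, hbv⟩ := ih v' hli fun i => t i.castSucc
        obtain ⟨c, hc, hc0, hcw⟩ := hall (t (Fin.last k) - b.mulVec w)
        refine ⟨b + c, add_mem hb hc, fun i => ?_⟩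
        induction i using Fin.lastCases with
        | last => rw [Matrix.add_mulVec, hcw, ← hw]; abel
        | cast i => rw [Matrix.add_mulVec, show v i.castSucc = v' i from rfl, hc0, hbv, add_zero]
      · exfalso
        push Not at hI
        choose a ha hav using fun (p : Fin k) (x : Fin n → K) => ih v' hli (Pi.single p x)
        -- killing the first vectors kills the last one
        have hwell : ∀ b c : Matrix (Fin n) (Fin n) K, b ∈ A → c ∈ A →
            (∀ i, b.mulVec (v' i) = c.mulVec (v' i)) → b.mulVec w = c.mulVec w := by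
          intro b c hb hc h
          have := hI _ ⟨b - c, sub_mem hb hc, fun i => by rw [Matrix.sub_mulVec, h, sub_self], rfl⟩
          rwa [Matrix.sub_mulVec, sub_eq_zero] at this
        have hf : ∀ p : Fin k, ∃ c : K, ∀ x, (a p x).mulVec w = c • x := by
          intro p
          let f : (Fin n → K) →ₗ[K] (Fin n → K) :=
            { toFun := fun x => (a p x).mulVec w
              map_add' := fun x y => by
                rw [← Matrix.add_mulVec]
                exact hwell _ _ (ha p _) (add_mem (ha p x) (ha p y)) fun i => by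
                  rw [Matrix.add_mulVec, hav, hav, hav, Pi.single_add, Pi.add_apply]
              map_smul' := fun c x => by
                rw [RingHom.id_apply, ← Matrix.smul_mulVec]
                exact hwell _ _ (ha p _) (Submodule.smul_mem _ _ (ha p x)) fun i => by
                  rw [Matrix.smul_mulVec, hav, hav, Pi.single_smul, Pi.smul_apply] }
          obtain ⟨c, hc⟩ := hcomm f fun g x => by
            show (a p _).mulVec w = (σ g).mulVec ((a p x).mulVec w)
            rw [Matrix.mulVec_mulVec]
            refine hwell _ _ (ha p _) (hmul g _ (ha p x)) fun i => ?_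
            rw [hav, ← Matrix.mulVec_mulVec, hav]
            by_cases hi : i = p
            · subst hi; simp
            · simp [hi]
          exact ⟨c, hc⟩
        choose c hc using hf
        have hexp : w = ∑ p, c p • v' p := by
          calc w = (1 : Matrix (Fin n) (Fin n) K).mulVec w := (Matrix.one_mulVec w).symm
            _ = (∑ p, a p (v' p)).mulVec w := by
              refine hwell _ _ hone (Submodule.sum_mem _ fun p _ => ha p _) fun i => ?_
              rw [Matrix.one_mulVec, Matrix.sum_mulVec]
              simp [hav, Finset.sum_pi_single]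
            _ = ∑ p, c p • v' p := by
              rw [Matrix.sum_mulVec]
              exact Finset.sum_congr rfl fun p _ => hc p _
        refine hv.notMem_span_image (s := Set.range Fin.castSucc) (x := Fin.last k) ?_ ?_
        · rintro ⟨i, hi⟩
          exact Fin.castSucc_ne_last i hi
        · rw [show v (Fin.last k) = w from rfl, hexp]
          exact Submodule.sum_mem _ fun p _ => Submodule.smul_mem _ _
            (Submodule.subset_span ⟨p.castSucc, ⟨p, rfl⟩, rfl⟩)
  rw [eq_top_iff]
  intro B _
  obtain ⟨a, ha, hab⟩ := key n _ (Pi.basisFun K (Fin n)).linearIndependent fun i => B.mulVec (Pi.single i 1)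
  have : a = B := by
    refine Matrix.toLin'.injective ((Pi.basisFun K (Fin n)).ext fun i => ?_)
    simp only [Matrix.toLin'_apply]
    rw [hab i, Pi.basisFun_apply]
  exact this ▸ ha


variable {F : Type*} [Field F]

/-- Two representations with spanning images and equal traces are equivalent. -/
theorem intertwiner_of_traces {D : Type*} [Monoid D] (φ ψ : D →* Matrix (Fin 3) (Fin 3) F)
    (hφ : Submodule.span F (Set.range φ) = ⊤) (hψ : Submodule.span F (Set.range ψ) = ⊤)
    (htr : ∀ g, (φ g).trace = (ψ g).trace) :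
    ∃ C : Matrix (Fin 3) (Fin 3) F, IsUnit C ∧ ∀ g, C * φ g = ψ g * C := by
  classical
  set Lφ := Finsupp.linearCombination F (fun g : D => φ g) with hLφ
  set Lψ := Finsupp.linearCombination F (fun g : D => ψ g) with hLψ
  have hker : ∀ c, Lφ c = 0 → Lψ c = 0 := by
    intro c hc
    have h1 : ∀ B : Matrix (Fin 3) (Fin 3) F, (Lψ c * B).trace = 0 := by
      intro B
      have hB : B ∈ Submodule.span F (Set.range ψ) := by rw [hψ]; trivial
      induction hB using Submodule.span_induction with
      | mem x hx =>
        obtain ⟨k, rfl⟩ := hx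
        have e := congrArg Matrix.trace (congrArg (· * φ k) hc)
        rw [Matrix.zero_mul, Matrix.trace_zero] at e
        simp only [hLφ, hLψ, Finsupp.linearCombination_apply, Finsupp.sum, Finset.sum_mul, Matrix.trace_sum,
          Matrix.smul_mul, Matrix.trace_smul, ← map_mul] at e ⊢
        rw [← e]
        exact Finset.sum_congr rfl fun g _ => by rw [htr]
      | zero => rw [Matrix.mul_zero, Matrix.trace_zero]
      | add x y _ _ hx hy => rw [Matrix.mul_add, Matrix.trace_add, hx, hy, add_zero]
      | smul a x _ hx => rw [Matrix.mul_smul, Matrix.trace_smul, hx, smul_zero]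
    refine Matrix.ext fun i j => ?_
    have h2 := h1 (Matrix.single j i 1)
    simpa [Matrix.trace_mul_single] using h2
  have hsurj : LinearMap.range Lφ = ⊤ := by rw [hLφ, Finsupp.range_linearCombination, hφ]
  obtain ⟨s, hs⟩ := Lφ.exists_rightInverse_of_surjective hsurj
  set T := Lψ.comp s with hT
  have hTφ : ∀ g, T (φ g) = ψ g := by
    intro g
    have e1 : Lφ (s (φ g) - Finsupp.single g 1) = 0 := by
      rw [map_sub, show Lφ (s (φ g)) = φ g from LinearMap.congr_fun hs (φ g), hLφ,
        Finsupp.linearCombination_single, one_smul, sub_self]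
    have e2 := hker _ e1
    rw [map_sub, hLψ, Finsupp.linearCombination_single, one_smul, sub_eq_zero] at e2
    exact e2
  have hmul : ∀ A B, T (A * B) = T A * T B := by
    intro A B
    have hA : A ∈ Submodule.span F (Set.range φ) := by rw [hφ]; trivial
    induction hA using Submodule.span_induction with
    | mem x hx =>
      obtain ⟨g, rfl⟩ := hx
      have hB : B ∈ Submodule.span F (Set.range φ) := by rw [hφ]; trivial
      induction hB using Submodule.span_induction with
      | mem y hy =>
        obtain ⟨k, rfl⟩ := hy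
        rw [← map_mul, hTφ, hTφ, hTφ, map_mul]
      | zero => rw [Matrix.mul_zero, map_zero, Matrix.mul_zero]
      | add x y _ _ hx hy => rw [Matrix.mul_add, map_add, hx, hy, map_add, Matrix.mul_add]
      | smul a x _ hx => rw [Matrix.mul_smul, map_smul, hx, map_smul, Matrix.mul_smul]
    | zero => rw [Matrix.zero_mul, map_zero, Matrix.zero_mul]
    | add x y _ _ hx hy => rw [Matrix.add_mul, map_add, hx, hy, map_add, Matrix.add_mul]
    | smul a x _ hx => rw [Matrix.smul_mul, map_smul, hx, map_smul, Matrix.smul_mul]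
  have hone : T 1 = 1 := by rw [← map_one φ, hTφ, map_one, map_one]
  obtain ⟨u, hu⟩ : ∃ u : Fin 3 → F, T (Matrix.single 0 0 1) *ᵥ u ≠ 0 := by
    by_contra hno
    push Not at hno
    have h0 : T (Matrix.single (0 : Fin 3) 0 1) = 0 :=
      Matrix.ext_of_mulVec_single fun k => by rw [hno, Matrix.zero_mulVec]
    have h1 : ∀ i : Fin 3, T (Matrix.single i i 1) = 0 := fun i => by
      rw [show (Matrix.single i i (1 : F)) = Matrix.single i 0 1 * Matrix.single 0 0 1 * Matrix.single 0 i 1 by
        simp, hmul, hmul, h0, Matrix.mul_zero, Matrix.zero_mul]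
    refine one_ne_zero (α := Matrix (Fin 3) (Fin 3) F) ?_
    rw [← hone, show (1 : Matrix (Fin 3) (Fin 3) F) = ∑ i, Matrix.single i i 1 by
      ext a b; fin_cases a <;> fin_cases b <;> simp [Fin.sum_univ_three], map_sum]
    exact Finset.sum_eq_zero fun i _ => h1 i
  let C : Matrix (Fin 3) (Fin 3) F := Matrix.of fun r i => (T (Matrix.single i 0 1) *ᵥ u) r
  have hC : ∀ g, C * φ g = ψ g * C := by
    intro g
    ext r i
    have e : φ g * Matrix.single i (0 : Fin 3) 1 = ∑ k, φ g k i • Matrix.single k (0 : Fin 3) 1 := by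
      ext a b
      fin_cases i <;> fin_cases a <;> fin_cases b <;> simp [Fin.sum_univ_three, Matrix.mul_apply]
    have e1 := congrArg (fun A : Matrix (Fin 3) (Fin 3) F => (T A *ᵥ u) r) e
    simp only [hmul, hTφ, map_sum, map_smul, Matrix.sum_mulVec, Matrix.smul_mulVec, Finset.sum_apply,
      Pi.smul_apply, smul_eq_mul, ← Matrix.mulVec_mulVec] at e1
    have e2 : (ψ g * C) r i = (ψ g *ᵥ (T (Matrix.single i 0 1) *ᵥ u)) r := rfl
    rw [e2, e1, Matrix.mul_apply]
    exact Finset.sum_congr rfl fun k _ => mul_comm _ _
  have hC0 : C ≠ 0 := fun e => hu (funext fun r => congrFun (congrFun e r) 0)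
  refine ⟨C, Matrix.mulVec_injective_iff_isUnit.1 fun a b hab => sub_eq_zero.1 ?_, hC⟩
  by_contra hv
  refine hC0 (Matrix.ext_of_mulVec_single fun k => ?_)
  rw [Matrix.zero_mulVec]
  have hkill : ∀ A : Matrix (Fin 3) (Fin 3) F, C *ᵥ (A *ᵥ (a - b)) = 0 := by
    intro A
    have hA : A ∈ Submodule.span F (Set.range φ) := by rw [hφ]; trivial
    induction hA using Submodule.span_induction with
    | mem x hx =>
      obtain ⟨g, rfl⟩ := hx
      rw [Matrix.mulVec_mulVec, hC, ← Matrix.mulVec_mulVec, Matrix.mulVec_sub, hab, sub_self, Matrix.mulVec_zero]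
    | zero => rw [Matrix.zero_mulVec, Matrix.mulVec_zero]
    | add x y _ _ hx hy => rw [Matrix.add_mulVec, Matrix.mulVec_add, hx, hy, add_zero]
    | smul c x _ hx => rw [Matrix.smul_mulVec, Matrix.mulVec_smul, hx, smul_zero]
  obtain ⟨l, hl⟩ := Function.ne_iff.1 hv
  have h3 := hkill (Matrix.single k l ((a - b) l)⁻¹)
  rwa [Matrix.single_mulVec, show Function.update (0 : Fin 3 → F) k (((a - b) l)⁻¹ * (a - b) l) = Pi.single k 1 by
    rw [inv_mul_cancel₀ hl]; rfl] at h3

variable {P : Subgroup (GL (Fin 3) F)}

theorem map_trace' (τ : F ≃+* F) (A : Matrix (Fin 3) (Fin 3) F) : (A.map τ).trace = τ A.trace := by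
  simp [Matrix.trace, map_sum]

/-- The inclusion as a representation. -/
def incl (P : Subgroup (GL (Fin 3) F)) : P →* Matrix (Fin 3) (Fin 3) F :=
  (Units.coeHom _).comp P.subtype

theorem incl_apply (x : P) : incl P x = ((x : GL (Fin 3) F) : Matrix (Fin 3) (Fin 3) F) := rfl

theorem Ctx.span_eq_top (h : Ctx P) : Submodule.span F (Set.range (incl P)) = ⊤ := by
  refine span_eq_top_of_irreducible (incl P) (fun W hW => h.absIrred.1 W ?_) fun f hf => ?_
  · rintro _ ⟨x, hx, rfl⟩ _ ⟨y, hy, rfl⟩
    rw [Matrix.toLin'_apply]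
    exact hW ⟨x, hx⟩ y hy
  · obtain ⟨c, hc⟩ := h.absIrred.2 (LinearMap.toMatrix' f) (by
      rintro _ ⟨x, hx, rfl⟩
      refine Matrix.ext_of_mulVec_single fun k => ?_
      rw [← Matrix.mulVec_mulVec, ← Matrix.mulVec_mulVec, LinearMap.toMatrix'_mulVec, LinearMap.toMatrix'_mulVec]
      exact hf ⟨x, hx⟩ _)
    refine ⟨c, fun a => ?_⟩
    rw [← LinearMap.toMatrix'_mulVec f a, hc, Matrix.smul_mulVec, Matrix.one_mulVec]

theorem Ctx.span_map (h : Ctx P) (τ : F ≃+* F) :
    Submodule.span F (Set.range ((RingHom.mapMatrix (τ : F →+* F)).toMonoidHom.comp (incl P))) = ⊤ := by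
  rw [eq_top_iff]
  intro A _
  have key : ∀ B ∈ Submodule.span F (Set.range (incl P)),
      B.map τ ∈ Submodule.span F (Set.range ((RingHom.mapMatrix (τ : F →+* F)).toMonoidHom.comp (incl P))) := by
    intro B hB
    induction hB using Submodule.span_induction with
    | mem x hx =>
      obtain ⟨g, rfl⟩ := hx
      exact Submodule.subset_span ⟨g, rfl⟩
    | zero => rw [Matrix.map_zero _ (map_zero τ)]; exact zero_mem _
    | add x y _ _ hx hy => rw [Matrix.map_add _ (map_add τ)]; exact add_mem hx hy
    | smul c x _ hx =>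
      rw [show (c • x).map τ = τ c • x.map τ by ext; simp]
      exact Submodule.smul_mem _ _ hx
  have e := key (A.map τ.symm) (by rw [h.span_eq_top]; trivial)
  rwa [show (A.map τ.symm).map τ = A by ext; simp] at e

theorem twist_of_traces (h : Ctx P) (τ : F ≃+* F)
    (htr : ∀ x ∈ P, τ (x : Matrix (Fin 3) (Fin 3) F).trace = (x : Matrix (Fin 3) (Fin 3) F).trace) :
    Twist P τ := by
  obtain ⟨C, hC, hx⟩ := intertwiner_of_traces ((RingHom.mapMatrix (τ : F →+* F)).toMonoidHom.comp (incl P))
    (incl P) (h.span_map τ) h.span_eq_top fun g =>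
      (map_trace' τ _).trans (htr g g.2)
  exact ⟨C, hC, fun x hxP => hx ⟨x, hxP⟩⟩

/-- The contragredient representation. -/
def dualRep (P : Subgroup (GL (Fin 3) F)) : P →* Matrix (Fin 3) (Fin 3) F where
  toFun x := (((x⁻¹ : P) : GL (Fin 3) F) : Matrix (Fin 3) (Fin 3) F)ᵀ
  map_one' := by simp
  map_mul' x y := by simp [Matrix.transpose_mul, _root_.mul_inv_rev]

theorem Ctx.span_dual (h : Ctx P) : Submodule.span F (Set.range (dualRep P)) = ⊤ := by
  rw [eq_top_iff]
  intro A _
  have key : ∀ B ∈ Submodule.span F (Set.range (incl P)), Bᵀ ∈ Submodule.span F (Set.range (dualRep P)) := by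
    intro B hB
    induction hB using Submodule.span_induction with
    | mem x hx =>
      obtain ⟨g, rfl⟩ := hx
      exact Submodule.subset_span ⟨g⁻¹, by simp [dualRep, incl_apply]⟩
    | zero => rw [Matrix.transpose_zero]; exact zero_mem _
    | add x y _ _ hx hy => rw [Matrix.transpose_add]; exact add_mem hx hy
    | smul c x _ hx => rw [Matrix.transpose_smul]; exact Submodule.smul_mem _ _ hx
  have e := key Aᵀ (by rw [h.span_eq_top]; trivial)
  rwa [Matrix.transpose_transpose] at e

theorem form_of_traces (h : Ctx P) (τ : F ≃+* F)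
    (htr : ∀ x ∈ P, τ (x : Matrix (Fin 3) (Fin 3) F).trace =
      ((x⁻¹ : GL (Fin 3) F) : Matrix (Fin 3) (Fin 3) F).trace) :
    Form P τ := by
  obtain ⟨C, hC, hx⟩ := intertwiner_of_traces ((RingHom.mapMatrix (τ : F →+* F)).toMonoidHom.comp (incl P))
    (dualRep P) (h.span_map τ) h.span_dual fun g =>
      ((map_trace' τ _).trans (htr g g.2)).trans (Matrix.trace_transpose _).symm
  refine ⟨C, hC.ne_zero, fun x hxP => ?_⟩
  have e := hx ⟨x, hxP⟩
  simp only [MonoidHom.coe_comp, Function.comp_apply, dualRep, MonoidHom.coe_mk, OneHom.coe_mk, Subgroup.coe_inv,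
    incl_apply, RingHom.toMonoidHom_eq_coe, MonoidHom.coe_coe, RingHom.mapMatrix_apply, RingEquiv.coe_toRingHom] at e
  rw [Matrix.mul_assoc, e, ← Matrix.mul_assoc, ← Matrix.transpose_mul, Units.inv_mul, Matrix.transpose_one,
    Matrix.one_mul]

section CharP

variable (p : ℕ) [Fact p.Prime] [CharP F p]

theorem charpoly_pow_char {n : Type*} [Fintype n] [DecidableEq n] (M : Matrix n n F) :
    (M ^ p).charpoly = M.charpoly.map (frobenius F p) := by
  cases (isEmpty_or_nonempty n).symm
  · refine Polynomial.expand_injective (Fact.out : p.Prime).pos ?_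
    rw [← Polynomial.map_expand, Polynomial.map_frobenius_expand]
    unfold Matrix.charpoly
    rw [AlgHom.map_det, ← Matrix.coe_detMonoidHom, ← (Matrix.detMonoidHom : Matrix n n (Polynomial F) →* Polynomial F).map_pow]
    apply congrArg Matrix.det
    refine matPolyEquiv.injective ?_
    rw [map_pow, matPolyEquiv_charmatrix, sub_pow_char_of_commute, ← Polynomial.C_pow]
    · exact (matPolyEquiv_eq_X_pow_sub_C p M)
    · exact (Polynomial.C M).commute_X
  · simp [Matrix.charpoly]

theorem trace_pow_char_pow {n : Type*} [Fintype n] [DecidableEq n] (M : Matrix n n F) (k : ℕ) :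
    (M ^ p ^ k).trace = M.trace ^ p ^ k := by
  induction k with
  | zero => simp
  | succ k ih =>
    rw [pow_succ, pow_mul, pow_mul, ← ih]
    set N := M ^ p ^ k
    rw [Matrix.trace_eq_neg_charpoly_nextCoeff, Matrix.trace_eq_neg_charpoly_nextCoeff N,
      charpoly_pow_char p, Polynomial.nextCoeff_map (frobenius F p).injective, ← frobenius_def, map_neg]

end CharP

end Cfsg.Agent.PThree
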