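import Cfsg.Agent.Lib.Classical.PThree.Basic
import Cfsg.Agent.Lib.Classical.PThree.Span

/-!
# Elements of order five in unitary groups of degree three

A group fixing a unitary form over the field with `p ^ 2` elements, `p ≡ ± 2` modulo `5`, has no
element of order five: the trace of such an element would lie in the prime field.
-/

set_option autoImplicit false
set_option linter.unusedSectionVars false
set_option linter.style.haveILetI false

namespace Cfsg.Agent.PThree

open Matrix Cfsg Cfsg.Geo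
open scoped MatrixGroups

variable {F : Type*} [Field F] [Fintype F] {P : Subgroup (GL (Fin 3) F)}

/-- An invariant form inverts the traces. -/
theorem trace_of_form (h : Ctx P) {σ : F ≃+* F} (hf : Form P σ) {x : GL (Fin 3) F} (hx : x ∈ P) :
    σ (x : Matrix (Fin 3) (Fin 3) F).trace = ((x⁻¹ : GL (Fin 3) F) : Matrix (Fin 3) (Fin 3) F).trace := by
  obtain ⟨M, hM, hfix⟩ := hf
  obtain ⟨u, hu⟩ := h.form_isUnit hM hfix
  have e := hfix x hx
  rw [← hu] at e
  set X := (x : Matrix (Fin 3) (Fin 3) F)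
  set Xi := ((x⁻¹ : GL (Fin 3) F) : Matrix (Fin 3) (Fin 3) F)
  set U := (u : Matrix (Fin 3) (Fin 3) F)
  set Ui := ((u⁻¹ : (Matrix (Fin 3) (Fin 3) F)ˣ) : Matrix (Fin 3) (Fin 3) F)
  have h1 : X.map σ = Ui * Xiᵀ * U := by
    conv_rhs => rw [← e]
    rw [Matrix.mul_assoc Ui Xiᵀ, ← Matrix.mul_assoc Xiᵀ, ← Matrix.mul_assoc Xiᵀ, ← Matrix.transpose_mul,
      show X * Xi = 1 from x.mul_inv, Matrix.transpose_one, Matrix.one_mul, ← Matrix.mul_assoc,
      show Ui * U = 1 from u.inv_mul, Matrix.one_mul]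
  rw [← map_trace', h1, Matrix.trace_mul_comm, ← Matrix.mul_assoc,
    show U * Ui = 1 from u.mul_inv, Matrix.one_mul, Matrix.trace_transpose]

/-- Cayley–Hamilton in dimension three. -/
theorem cayley_three (A : Matrix (Fin 3) (Fin 3) F) :
    A * A * A = A.trace • (A * A) - (Matrix.adjugate A).trace • A + A.det • (1 : Matrix (Fin 3) (Fin 3) F) := by
  ext i j
  fin_cases i <;> fin_cases j <;>
    simp [Matrix.adjugate_fin_three, Matrix.det_fin_three, Matrix.trace_fin_three, Matrix.mul_apply,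
      Fin.sum_univ_three] <;> ring

theorem two_nonsquare : ∀ r : ZMod 5, r * r ≠ 2 := by decide

theorem three_nonsquare : ∀ r : ZMod 5, r * r ≠ 3 := by decide

theorem no_root_of_five {p : ℕ} [Fact p.Prime] [CharP F p] (hp : p % 5 = 2 ∨ p % 5 = 3) {u : F}
    (hu : u ^ p = u) : -u ^ 2 + u + 1 ≠ 0 := by
  intro h0
  rcases eq_or_ne p 2 with rfl | hp2
  · rw [hu, neg_add_cancel, zero_add] at h0
    exact one_ne_zero h0
  obtain ⟨n, hn⟩ := (mem_bot_iff_intCast p F).1 ((Subfield.mem_bot_iff_pow_eq_self F p).2 hu)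
  obtain ⟨z, rfl⟩ : ∃ z : ZMod p, ZMod.castHom dvd_rfl F z = u := ⟨(n : ZMod p), by rw [map_intCast, hn]⟩
  have hz : -z ^ 2 + z + 1 = 0 := (ZMod.castHom dvd_rfl F).injective (by simpa using h0)
  haveI : Fact (Nat.Prime 5) := ⟨by norm_num⟩
  have hsq : IsSquare ((5 : ℕ) : ZMod p) := ⟨2 * z - 1, by push_cast; linear_combination 4 * hz⟩
  rw [← ZMod.exists_sq_eq_prime_iff_of_mod_four_eq_one (p := 5) (q := p) (by norm_num) hp2] at hsq
  rw [← ZMod.natCast_mod p 5] at hsq
  rcases hp with e | e <;> rw [e] at hsq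
  exacts [hsq.elim fun r hr => two_nonsquare r (by simpa using hr.symm), hsq.elim fun r hr => three_nonsquare r (by simpa using hr.symm)]

/-- No element of order five. -/
theorem no_five_unitary (h : Ctx P) {p : ℕ} [Fact p.Prime] [CharP F p] (hp : p % 5 = 2 ∨ p % 5 = 3)
    {σ : F ≃+* F} (hσ : ∀ a, σ a = a ^ p) (hf : Form P σ) {y : GL (Fin 3) F} (hy : y ∈ P)
    (hy5 : y ^ 5 = 1) : y = 1 := by
  have hpow : ∀ i : ℕ, ((y ^ i : GL (Fin 3) F) : Matrix (Fin 3) (Fin 3) F).trace ^ p =
      ((y ^ (4 * i) : GL (Fin 3) F) : Matrix (Fin 3) (Fin 3) F).trace := by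
    intro i
    rw [← hσ, trace_of_form h hf (pow_mem hy i)]
    congr 2
    refine inv_eq_of_mul_eq_one_right ?_
    rw [← pow_add, show i + 4 * i = 5 * i by ring, pow_mul, hy5, one_pow]
  have hchar : ∀ i : ℕ, ((y ^ i : GL (Fin 3) F) : Matrix (Fin 3) (Fin 3) F).trace ^ p =
      ((y ^ (i * p % 5) : GL (Fin 3) F) : Matrix (Fin 3) (Fin 3) F).trace := by
    intro i
    rw [← pow_eq_pow_mod _ hy5, pow_mul]
    have := trace_pow_char_pow p ((y ^ i : GL (Fin 3) F) : Matrix (Fin 3) (Fin 3) F) 1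
    rw [pow_one] at this
    rw [← this, Units.val_pow_eq_pow_val (y ^ i)]
  set T : ℕ → F := fun i => ((y ^ i : GL (Fin 3) F) : Matrix (Fin 3) (Fin 3) F).trace with hT
  have hrel : ∀ i, T (i * p % 5) = T (4 * i % 5) := fun i => by
    show Matrix.trace _ = Matrix.trace _
    rw [← hchar, hpow, ← pow_eq_pow_mod (4 * i) hy5]
  have h14 : T 4 = T 1 := by
    have a1 := hrel 1
    have a2 := hrel 2
    have a3 := hrel 3
    rcases hp with e | e
    · rw [show 1 * p % 5 = 2 by omega] at a1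
      rw [show 3 * p % 5 = 1 by omega] at a3
      exact a1.symm.trans a3.symm
    · rw [show 1 * p % 5 = 3 by omega] at a1
      rw [show 2 * p % 5 = 1 by omega] at a2
      exact a1.symm.trans a2.symm
  set Y := (y : Matrix (Fin 3) (Fin 3) F) with hY
  set t := Y.trace
  have ht4 : ((y⁻¹ : GL (Fin 3) F) : Matrix (Fin 3) (Fin 3) F).trace = t := by
    rw [show y⁻¹ = y ^ 4 from inv_eq_of_mul_eq_one_right (by rw [← pow_succ', hy5])]
    simpa [hT, t, hY] using h14
  have htp : t ^ p = t := by rw [← hσ, trace_of_form h hf hy, ht4]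
  have hdet : Y.det = 1 := congrArg Units.val
    (show Matrix.GeneralLinearGroup.det y = 1 from h.le_sl hy)
  have hadj : Matrix.adjugate Y = ((y⁻¹ : GL (Fin 3) F) : Matrix (Fin 3) (Fin 3) F) := by
    refine y.isUnit.mul_left_cancel ?_
    rw [Matrix.mul_adjugate, hdet, one_smul, Units.mul_inv]
  have hch := cayley_three Y
  rw [hadj, ht4, hdet, one_smul] at hch
  set u := 1 - t with hudef
  have hu : u ^ p = u := by rw [hudef, sub_pow_char, one_pow, htp]
  have hc := no_root_of_five hp hu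
  set D := Y - 1 with hD
  set G := Y * Y + u • Y + 1 with hG
  have hDG : D * G = 0 := by
    rw [hD, hG, hudef]
    have : (Y - 1) * (Y * Y + (1 - t) • Y + 1) = Y * Y * Y - (t • (Y * Y) - t • Y + 1) := by
      simp only [Matrix.sub_mul, Matrix.mul_add, Matrix.one_mul, Matrix.mul_smul, Matrix.mul_one,
        ← Matrix.mul_assoc]
      module
    rw [this, hch, sub_self]
  have hY5 : Y ^ 5 = 1 := by rw [hY, ← Units.val_pow_eq_pow_val, hy5, Units.val_one]
  have hlin : D * ((-u ^ 2 + u + 1) • (u • Y + 1)) = 0 := by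
    have e : D * (1 + Y + Y * Y + Y * Y * Y + Y * Y * Y * Y) = 0 := by
      rw [show D * (1 + Y + Y * Y + Y * Y * Y + Y * Y * Y * Y) = Y ^ 5 - 1 by
        rw [hD]
        simp only [Matrix.sub_mul, Matrix.mul_add, Matrix.one_mul, Matrix.mul_one, pow_succ, pow_zero,
          ← Matrix.mul_assoc]
        abel, hY5, sub_self]
    have e' : (-u ^ 2 + u + 1) • (u • Y + 1) = (1 + Y + Y * Y + Y * Y * Y + Y * Y * Y * Y) -
        (G * (Y * Y) + (1 - u) • (G * Y) + (u ^ 2 - u) • G) := by
      rw [hG]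
      simp only [Matrix.add_mul, Matrix.one_mul, Matrix.smul_mul, ← Matrix.mul_assoc]
      match_scalars <;> ring
    rw [e', Matrix.mul_sub, e, Matrix.mul_add, Matrix.mul_add, ← Matrix.mul_assoc, hDG, Matrix.zero_mul,
      Matrix.mul_smul, ← Matrix.mul_assoc, hDG, Matrix.zero_mul, smul_zero, Matrix.mul_smul, hDG, smul_zero]
    simp
  rw [Matrix.mul_smul, smul_eq_zero] at hlin
  have h1 : D * (u • Y + 1) = 0 := hlin.resolve_left hc
  have e2 : (1 : Matrix (Fin 3) (Fin 3) F) = u • (u • G - Y * (u • Y + 1)) - (u ^ 2 - 1) • (u • Y + 1) := by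
    rw [hG]
    simp only [Matrix.mul_add, Matrix.mul_one, Matrix.mul_smul]
    match_scalars <;> ring
  have hD0 : D = 0 := by
    have e3 : D * Y = Y * D := by rw [hD, Matrix.sub_mul, Matrix.mul_sub, Matrix.one_mul, Matrix.mul_one]
    have e4 : D * (Y * (u • Y + 1)) = 0 := by
      rw [← Matrix.mul_assoc, e3, Matrix.mul_assoc, h1, Matrix.mul_zero]
    calc D = D * 1 := (Matrix.mul_one D).symm
      _ = 0 := by
        rw [e2, Matrix.mul_sub, Matrix.mul_smul, Matrix.mul_sub, Matrix.mul_smul, hDG, e4, Matrix.mul_smul,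
          h1]
        simp
  exact Units.ext (sub_eq_zero.1 hD0)

end Cfsg.Agent.PThree
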