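import Cfsg.Agent.Lib.Classical.SUThreeSmall.Checks

/-!
# Certificates for the subgroups of order 168 of the special unitary group over twenty-five elements

An involution generating such a group with the standard element of order seven stabilises one of
three conjugates, by elements centralising the latter, of a set of 105 points.
-/

set_option autoImplicit false
set_option maxRecDepth 100000
set_option synthInstance.maxSize 4000

namespace Cfsg.Agent.PThree.LTwoSeven

open Cfsg.Agent.Classical.SUThree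

/-- The adjoint. -/
def adjM (p : ℕ) (X : M3) : M3 :=
  ((cj p X.1.1, cj p X.2.1.1, cj p X.2.2.1), (cj p X.1.2.1, cj p X.2.1.2.1, cj p X.2.2.2.1),
    (cj p X.1.2.2, cj p X.2.1.2.2, cj p X.2.2.2.2))

/-- The involution fixing the vector, `d` being the inverse of its norm. -/
def reflM (v : V3) (d : ℕ) : M3 :=
  (vad 5 (sc 5 (ml 5 2 (ml 5 d (cj 5 v.1))) v) (4, 0, 0),
    vad 5 (sc 5 (ml 5 2 (ml 5 d (cj 5 v.2.1))) v) (0, 4, 0),
    vad 5 (sc 5 (ml 5 2 (ml 5 d (cj 5 v.2.2))) v) (0, 0, 4))

/-- The orders three, four and seven. -/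
def okOrd (X : M3) : Prop := pw 5 X 3 = I3 ∨ pw 5 X 4 = I3 ∨ pw 5 X 7 = I3

instance decidableOkOrd (X : M3) : Decidable (okOrd X) := by unfold okOrd; infer_instance

/-- Elements centralising the standard element of order seven. -/
def centFive : List M3 :=
  [I3, ((20, 17, 22), (17, 15, 5), (23, 11, 1)), ((14, 17, 15), (17, 23, 19), (8, 16, 12))]

theorem cent_spec : ∀ C ∈ centFive, okM 5 C ∧ isU 5 C ∧ mm 5 C yFive = mm 5 yFive C ∧ mm 5 (adjM 5 C) C = I3 := by
  decide +kernel

theorem invol_check : ∀ v ∈ cands 25 [1], ∀ d < 25, ml 5 d (dt 5 v v) = 1 →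
    (∀ Y ∈ powsFive, okOrd (mm 5 (reflM v d) Y)) →
      ∃ C ∈ centFive, maps 5 maskFldFive orbFldFive (mm 5 (mm 5 (adjM 5 C) (reflM v d)) C) := by
  decide +kernel

theorem extra_check : mm 5 (adjM 5 eFldFive) eFldFive = I3 ∧
    ∃ Y ∈ powsFive, ¬ okOrd (mm 5 Y (mm 5 (mm 5 eFldFive yFive) (adjM 5 eFldFive))) := by
  decide +kernel

end Cfsg.Agent.PThree.LTwoSeven
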