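import Cfsg.Agent.Lib.Classical.PThree.Fields
import Cfsg.Agent.Lib.Classical.PThree.LTwoSevenChecks
import Cfsg.Agent.Lib.Classical.SUThreeSmall.Seven

/-!
# Subgroups of order 168 are not maximal in the special unitary group over twenty-five elements

Such a group is generated by an element of order seven and an involution, which stabilise a set of
105 points; so do the elements normalising it.
-/

set_option autoImplicit false
set_option linter.unusedSectionVars false
set_option linter.style.haveILetI false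
set_option maxHeartbeats 400000

namespace Cfsg.Agent.PThree.LTwoSeven

open Matrix Cfsg Cfsg.Geo Cfsg.Agent.Classical Cfsg.Agent.Classical.SUThree
open scoped MatrixGroups

variable {K : Type*} [Field K] [Fintype K] {σ : K ≃+* K} {r : K}

/-! ### Involutions -/

omit [Fintype K] in
/-- The cofactor matrix of `1 + T`. -/
theorem adjugate_one_add (T : Matrix (Fin 3) (Fin 3) K) :
    (1 + T).adjugate = T.adjugate - T + (T.trace + 1) • 1 := by
  ext i j
  simp only [Matrix.adjugate_fin_three, Matrix.trace_fin_three]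
  fin_cases i <;> fin_cases j <;> simp <;> ring

omit [Fintype K] in
theorem involution_trace (h5 : (5 : K) = 0) {T : Matrix (Fin 3) (Fin 3) K} (hT : T * T = 1) (hd : T.det = 1) :
    T.adjugate = T ∧ (T.trace = 3 ∨ T.trace = -1) := by
  have ha : T.adjugate = T := by
    have h := T.mul_adjugate
    rw [hd, one_smul] at h
    calc T.adjugate = T * T * T.adjugate := by rw [hT, Matrix.one_mul]
      _ = T := by rw [Matrix.mul_assoc, h, Matrix.mul_one]
  refine ⟨ha, ?_⟩
  have h2 : (T * T).trace = 3 := by rw [hT, Matrix.trace_one, Fintype.card_fin]; norm_num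
  have h3 := congrArg Matrix.trace ha
  simp only [Matrix.adjugate_fin_three, Matrix.trace_fin_three, Matrix.mul_apply, Fin.sum_univ_three,
    Matrix.of_apply, Matrix.cons_val', Matrix.cons_val_zero, Matrix.cons_val_one, Matrix.cons_val,
    Matrix.cons_val_fin_one] at h2 h3 ⊢
  have h4 : (T 0 0 + T 1 1 + T 2 2 - 3) * (T 0 0 + T 1 1 + T 2 2 + 1) = 0 := by
    linear_combination h2 + 2 * h3
  rcases mul_eq_zero.1 h4 with h | h
  · exact Or.inl (sub_eq_zero.1 h)
  · exact Or.inr (eq_neg_of_add_eq_zero_left h)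

omit [Fintype K] in
/-- The minors of a matrix with zero cofactors vanish. -/
theorem minor_of_adjugate {B : Matrix (Fin 3) (Fin 3) K} (h : B.adjugate = 0) (i j k : Fin 3) :
    B i j * B k k = B i k * B k j := by
  have e := fun a b => congrFun (congrFun h a) b
  simp only [Matrix.adjugate_fin_three, Matrix.zero_apply] at e
  have e00 := e 0 0; have e01 := e 0 1; have e02 := e 0 2
  have e10 := e 1 0; have e11 := e 1 1; have e12 := e 1 2
  have e20 := e 2 0; have e21 := e 2 1; have e22 := e 2 2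
  simp at e00 e01 e02 e10 e11 e12 e20 e21 e22
  fin_cases i <;> fin_cases j <;> fin_cases k <;> simp only [Fin.mk_zero, Fin.mk_one, Fin.isValue, Fin.reduceFinMk] <;>
    first
      | ring1
      | linear_combination e00
      | linear_combination e01
      | linear_combination e02
      | linear_combination e10
      | linear_combination e11
      | linear_combination e12
      | linear_combination e20
      | linear_combination e21
      | linear_combination e22
      | linear_combination -e00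
      | linear_combination -e01
      | linear_combination -e02
      | linear_combination -e10
      | linear_combination -e11
      | linear_combination -e12
      | linear_combination -e20
      | linear_combination -e21
      | linear_combination -e22

/-- An involution of the special unitary group is the reflection in a vector of nonzero norm. -/
theorem exists_refl (hσ : IsUSigma 5 σ) (hr : r * r = 2) {t : GL (Fin 3) K} (ht : t ∈ suGL 3 K 5)
    (ht2 : t * t = 1) (ht1 : t ≠ 1) :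
    ∃ v ∈ cands 25 [1], ∃ d < 25, ml 5 d (dt 5 v v) = 1 ∧
      mK 5 r (reflM v d) = (t : Matrix (Fin 3) (Fin 3) K) := by
  classical
  have hp : Small 5 := Or.inr rfl
  have h5 : (5 : K) = 0 := by exact_mod_cast p_zero hp hσ
  set T := (t : Matrix (Fin 3) (Fin 3) K) with hTdef
  have hT : T * T = 1 := by rw [hTdef, ← Units.val_mul, ht2, Units.val_one]
  obtain ⟨ha, htr⟩ := involution_trace h5 hT (det_of_mem ht)
  -- the matrix is hermitian
  have hherm : ∀ i j, T i j = σ (T j i) := by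
    intro j i
    have hiso := mem_GU_iff.mp ht.1
    have e := hiso (Pi.single j 1) (T *ᵥ Pi.single i 1)
    rw [← hTdef, Matrix.mulVec_mulVec, hT, Matrix.one_mulVec, hσ.hermForm_single, one_mul,
      hσ.isUnitaryForm.herm, hσ.hermForm_single, one_mul, Matrix.mulVec_single_one, Matrix.mulVec_single_one] at e
    have e' := congrArg σ e
    simp only [hσ.involutive, Matrix.transpose_apply, Matrix.col_apply] at e'
    exact e'.symm
  set B := 1 + T with hB
  have hBh : ∀ i j, B i j = σ (B j i) := fun i j => by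
    rw [hB, Matrix.add_apply, Matrix.add_apply, map_add, ← hherm, Matrix.one_apply, Matrix.one_apply]
    by_cases h : i = j
    · rw [if_pos h, if_pos h.symm, map_one]
    · rw [if_neg h, if_neg (Ne.symm h), map_zero]
  have hBB : B * B = 2 • B := by
    rw [hB, Matrix.add_mul, Matrix.mul_add, Matrix.mul_add, Matrix.one_mul, Matrix.one_mul, Matrix.mul_one, hT, two_smul]
    abel
  have hcol : ∀ k l, ∑ i, B k i * B i l = 2 * B k l := fun k l => by
    have e := congrFun (congrFun hBB k) l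
    rw [Matrix.mul_apply, Matrix.smul_apply, two_smul, ← two_mul] at e
    exact e
  rcases htr with htr | htr
  · -- trace three would make the matrix scalar
    exfalso
    refine ht1 (Units.ext ?_)
    rw [Units.val_one, ← hTdef]
    have hadj : B.adjugate = (4 : K) • 1 := by
      rw [hB, adjugate_one_add, ha, htr, sub_self, zero_add]; norm_num
    have h1 : B.det • (1 : Matrix (Fin 3) (Fin 3) K) = (4 : K) • B := by
      rw [← B.mul_adjugate, hadj, Matrix.mul_smul, Matrix.mul_one]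
    have hBs : B = (-B.det) • (1 : Matrix (Fin 3) (Fin 3) K) := by
      rw [neg_smul, h1, ← neg_smul, show (-4 : K) = 1 by linear_combination -h5, one_smul]
    have hoff : ∀ i j, i ≠ j → B i j = 0 := fun i j hij => by rw [hBs]; simp [hij]
    have hdiag : ∀ i j, B i i = B j j := fun i j => by rw [hBs]; simp
    have htr' : B.trace = 6 := by rw [hB, Matrix.trace_add, Matrix.trace_one, Fintype.card_fin, htr]; norm_num
    rw [Matrix.trace_fin_three, hdiag 1 0, hdiag 2 0] at htr'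
    have h00 : B 0 0 = 2 := by linear_combination 2 * htr' - (B 0 0 - 2) * h5
    ext i j
    have e : B i j = (2 : K) * (1 : Matrix (Fin 3) (Fin 3) K) i j := by
      by_cases hij : i = j
      · subst hij; rw [hdiag i 0, h00, Matrix.one_apply_eq, mul_one]
      · rw [hoff i j hij, Matrix.one_apply_ne hij, mul_zero]
    rw [hB, Matrix.add_apply] at e
    linear_combination e
  have hadj : B.adjugate = 0 := by rw [hB, adjugate_one_add, ha, htr, sub_self, zero_add, neg_add_cancel, zero_smul]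
  have hmin := minor_of_adjugate hadj
  obtain ⟨k, hk⟩ : ∃ k, B k k ≠ 0 := by
    by_contra hno
    push Not at hno
    have : B.trace = 0 := Finset.sum_eq_zero fun i _ => hno i
    rw [hB, Matrix.trace_add, Matrix.trace_one, Fintype.card_fin, htr] at this
    refine two_ne_zero' h5 ?_
    linear_combination this
  -- the column spanning the image, normalised
  obtain ⟨v₀, hv₀, hv₀e⟩ := exists_vK hp hσ hr (fun i => B i k)
  have hlead : lead v₀ ≠ 0 := by
    intro h0
    obtain ⟨a, b, c⟩ : v₀.1 = 0 ∧ v₀.2.1 = 0 ∧ v₀.2.2 = 0 := by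
      unfold lead at h0; split_ifs at h0 <;> exact ⟨by omega, by omega, by omega⟩
    refine hk ?_
    rw [← congrFun hv₀e k]
    fin_cases k <;> simp [vK, a, b, c, el_zero]
  have hlt : lead v₀ < 5 * 5 := by
    obtain ⟨h1, h2, h3⟩ := hv₀; unfold lead; split_ifs <;> assumption
  obtain ⟨hiv, hivlt⟩ := hp.iv_spec hlt hlead
  set l := iv 5 (lead v₀) with hl
  have hl0 : el 5 r l ≠ 0 := right_ne_zero_of_mul_eq_one (el_iv hp hσ hr hlt hlead)
  set v := sc 5 l v₀ with hv
  have hvK : vK 5 r v = fun i => el 5 r l * B i k := by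
    rw [hv, vK_sc hp hσ hr, hv₀e]; rfl
  have hvmem : v ∈ cands 25 [1] := by
    have h1 := ml_lt (p := 5) (by norm_num) l v₀.2.1
    have h2 := ml_lt (p := 5) (by norm_num) l v₀.2.2
    have hml0 : ml 5 l 0 = 0 := by simp [ml, force_eq]
    have hml : ml 5 l (lead v₀) = 1 := by
      refine el_inj hp hσ hr (ml_lt (by norm_num) _ _) (by norm_num) ?_
      rw [el_ml hp hσ hr, mul_comm, el_iv hp hσ hr hlt hlead, el_one hp hσ]
    rcases eq_or_ne v₀.1 0 with e1 | e1
    · rcases eq_or_ne v₀.2.1 0 with e2 | e2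
      · rw [show lead v₀ = v₀.2.2 by simp [lead, e1, e2]] at hml
        simp [cands, hv, sc, e1, e2, hml0, hml]
      · rw [show lead v₀ = v₀.2.1 by simp [lead, e1, e2]] at hml
        simp [cands, hv, sc, e1, hml0, hml, h2]
    · rw [show lead v₀ = v₀.1 by simp [lead, e1]] at hml
      simp [cands, hv, sc, hml, h1, h2]
  set N := el 5 r (dt 5 v v) with hN
  have hNe : N = el 5 r l * σ (el 5 r l) * (2 * B k k) := by
    rw [hN, ← herm_vK hp hσ hr, hσ.hermForm_eq, hvK, ← hcol k k, Finset.mul_sum]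
    refine Finset.sum_congr rfl fun i _ => ?_
    rw [map_mul, ← hBh k i]
    ring
  have h2 : (2 : K) ≠ 0 := two_ne_zero' h5
  have hN0 : N ≠ 0 := by
    rw [hNe]
    exact mul_ne_zero (mul_ne_zero hl0 ((map_ne_zero σ).mpr hl0)) (mul_ne_zero h2 hk)
  obtain ⟨d, hd, hde⟩ := el_surj hp hσ hr N⁻¹
  refine ⟨v, hvmem, d, hd, el_inj hp hσ hr (ml_lt (by norm_num) _ _) (by norm_num) ?_, ?_⟩
  · rw [el_ml hp hσ hr, hde, ← hN, inv_mul_cancel₀ hN0, el_one hp hσ]
  -- the entries
  have hentry : ∀ i j, T i j =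
      2 * (N⁻¹ * σ (el 5 r l * B j k)) * (el 5 r l * B i k) + (4 : K) * (1 : Matrix (Fin 3) (Fin 3) K) i j := by
    intro i j
    have e : B i j = 2 * (N⁻¹ * σ (el 5 r l * B j k)) * (el 5 r l * B i k) := by
      rw [map_mul, ← hBh k j]
      field_simp
      rw [hNe]
      linear_combination (2 * el 5 r l * σ (el 5 r l)) * hmin i j k
    rw [hB, Matrix.add_apply] at e
    linear_combination e - (1 : Matrix (Fin 3) (Fin 3) K) i j * h5
  ext i j
  rw [hentry]
  have hv1 : el 5 r v.1 = el 5 r l * B 0 k := congrFun hvK 0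
  have hv2 : el 5 r v.2.1 = el 5 r l * B 1 k := congrFun hvK 1
  have hv3 : el 5 r v.2.2 = el 5 r l * B 2 k := congrFun hvK 2
  have h2e : el 5 r 2 = 2 := by rw [el_small hp hσ (by norm_num)]; norm_num
  have h4e : el 5 r 4 = 4 := by rw [el_small hp hσ (by norm_num)]; norm_num
  fin_cases i <;> fin_cases j <;>
    simp [mK, vK, reflM, vad, sc, el_ad hp hσ, el_ml hp hσ hr, el_cj hp hσ hr, el_zero, h2e, h4e, hde, hv1, hv2,
      hv3]
where
  two_ne_zero' (h5 : (5 : K) = 0) : (2 : K) ≠ 0 := fun h => one_ne_zero (α := K) (by linear_combination h5 - 2 * h)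

/-! ### Elements normalising the standard cyclic group -/

/-- They stabilise the point set. -/
theorem normalizer_stab (hσ : IsUSigma 5 σ) (hr : r * r = 2) {g₀ t : GL (Fin 3) K}
    (hg₀e : (g₀ : Matrix (Fin 3) (Fin 3) K) = mK 5 r yFive) (ht : t ∈ suGL 3 K 5) {b : ℕ} (hb7 : b < 7)
    (hb : t * g₀ = g₀ ^ b * t) : t ∈ setStab (pointSet 5 r orbFldFive) := by
  classical
  have hp : Small 5 := Or.inr rfl
  obtain ⟨-, -, -, -, -, hpows, hbase, hbInv, -⟩ := seven_five
  have hb' := congrArg Units.val hb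
  rw [Units.val_mul, Units.val_mul, Units.val_pow_eq_pow_val, hg₀e, ← mK_pw hp hσ hr] at hb'
  obtain ⟨X₀, hX₀, hX₀e⟩ := exists_mK hp hσ hr (t : Matrix (Fin 3) (Fin 3) K)
  have hU₀ := isU_of_mem hp hσ hr ht.1 hX₀e
  have hlead : lead X₀.1 ≠ 0 := by
    intro h0
    have h1 := hU₀.1
    obtain ⟨a, b, c⟩ : X₀.1.1 = 0 ∧ X₀.1.2.1 = 0 ∧ X₀.1.2.2 = 0 := by
      unfold lead at h0; split_ifs at h0 <;> exact ⟨by omega, by omega, by omega⟩
    rw [show X₀.1 = (0, 0, 0) from Prod.ext a (Prod.ext b c)] at h1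
    exact absurd h1 (by decide)
  obtain ⟨c, hc, hcand⟩ := exists_cand hp rep_five hX₀.1 hlead
  obtain ⟨X, hX, hXU, hXd, hc0, hXe⟩ := exists_scaled hp hσ hr ht n1_five' cub_five hc
  have hY : pw 5 yFive b ∈ powsFive := hpows ▸ List.mem_map.mpr ⟨b, List.mem_range.mpr hb7, rfl⟩
  have hcomm : mK 5 r X * mK 5 r yFive = mK 5 r (pw 5 yFive b) * mK 5 r X := by
    rw [hXe, smul_mul_assoc, hb', mul_smul_comm]
  obtain ⟨e0, -, -⟩ := col_eq hp hσ hr (rfl : mK 5 r X = mK 5 r X)
  obtain ⟨e0', -, -⟩ := col_eq hp hσ hr hX₀e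
  have hv : X.1 = sc 5 c X₀.1 := vK_inj hp hσ hr hX.1 (sc_ok hp.pos _ _) (by
    rw [e0, vK_sc hp hσ hr, e0', hXe, smul_mulVec])
  have hone : vK 5 r ((1, 0, 0) : V3) = Pi.single 0 1 := by
    funext l; fin_cases l <;> simp [vK, el_one hp hσ, el_zero]
  have hXb : mm 5 X baseFive = (X.1, mv 5 (pw 5 yFive b) X.1, mv 5 (pw 5 yFive b) (mv 5 (pw 5 yFive b) X.1)) := by
    have k0 : mv 5 X (1, 0, 0) = X.1 := vK_inj hp hσ hr (mv_ok hp.pos _ _) hX.1 (by
      rw [← mK_mulVec hp hσ hr, hone, e0])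
    have k1 : mv 5 X (mv 5 yFive (1, 0, 0)) = mv 5 (pw 5 yFive b) X.1 :=
      vK_inj hp hσ hr (mv_ok hp.pos _ _) (mv_ok hp.pos _ _) (by
        rw [← mK_mulVec hp hσ hr, ← mK_mulVec hp hσ hr, mulVec_mulVec, hcomm, ← mulVec_mulVec,
          mK_mulVec hp hσ hr, k0, mK_mulVec hp hσ hr])
    have k2 : mv 5 X (mv 5 yFive (mv 5 yFive (1, 0, 0))) = mv 5 (pw 5 yFive b) (mv 5 (pw 5 yFive b) X.1) :=
      vK_inj hp hσ hr (mv_ok hp.pos _ _) (mv_ok hp.pos _ _) (by
        rw [← mK_mulVec hp hσ hr, ← mK_mulVec hp hσ hr, mulVec_mulVec, hcomm, ← mulVec_mulVec,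
          mK_mulVec hp hσ hr, k1, mK_mulVec hp hσ hr])
    simp only [mm, hbase, k0, k1, k2]
  have hXeq : X = mm 5 (mm 5 X baseFive) baseInvFive := mK_inj hp hσ hr hX (mm_ok hp.pos _ _) (by
    rw [mK_mul hp hσ hr, mK_mul hp hσ hr, mul_assoc, ← mK_mul hp hσ hr baseFive, hbInv, mK_one hp hσ hr, mul_one])
  rw [hXb, hv] at hXeq
  have hgram : ∀ u v, hermForm 3 K 5 (mK 5 r X *ᵥ u) (mK 5 r X *ᵥ v) = hermForm 3 K 5 u v := by
    obtain ⟨g', hg', he'⟩ := exists_GU hp hσ hr hXU
    rw [← he']; exact mem_GU_iff.mp hg'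
  obtain ⟨-, hOm, -⟩ := fld_case_five
  refine maps_pointSet hp hσ hr hOm ?_ hc0 hXe
  rw [hXeq] at hXU hXd ⊢
  refine fld_check_five _ hcand ?_ _ hY ?_ hXU hXd
  · refine el_inj hp hσ hr (ad_lt hp.pos _ _) (by norm_num) ?_
    rw [← herm_vK hp hσ hr, ← hv, e0, hgram, hσ.hermForm_single, one_mul, el_one hp hσ]
    simp
  · refine el_inj hp hσ hr (ad_lt hp.pos _ _) (ad_lt hp.pos _ _) ?_
    rw [← herm_vK hp hσ hr, ← herm_vK hp hσ hr, ← hv, ← hgram (vK 5 r (1, 0, 0)), mK_mulVec hp hσ hr,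
      mK_mulVec hp hσ hr]
    have h1 := congrArg (fun M : M3 => M.1) hXb
    have h2 := congrArg (fun M : M3 => M.2.1) hXb
    simp only [mm, hbase] at h1 h2
    rw [h1, h2]

theorem mK_adj (hσ : IsUSigma 5 σ) (hr : r * r = 2) {C : M3} {c : GL (Fin 3) K}
    (hc : (c : Matrix (Fin 3) (Fin 3) K) = mK 5 r C) (hC : mm 5 (adjM 5 C) C = I3) :
    ((c⁻¹ : GL (Fin 3) K) : Matrix (Fin 3) (Fin 3) K) = mK 5 r (adjM 5 C) := by
  have hp : Small 5 := Or.inr rfl
  have e : mK 5 r (adjM 5 C) * (c : Matrix (Fin 3) (Fin 3) K) = 1 := by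
    rw [hc, ← mK_mul hp hσ hr, hC, mK_one hp hσ hr]
  calc ((c⁻¹ : GL (Fin 3) K) : Matrix (Fin 3) (Fin 3) K)
      = mK 5 r (adjM 5 C) * (c : Matrix (Fin 3) (Fin 3) K) * ((c⁻¹ : GL (Fin 3) K) : Matrix (Fin 3) (Fin 3) K) := by
        rw [e, Matrix.one_mul]
    _ = _ := by rw [Matrix.mul_assoc, Units.mul_inv, Matrix.mul_one]

/-! ### Non-maximality -/

/-- The powers of an element of order seven together with an involution generate a simple group of order 168. -/
theorem closure_pair {G : Type*} [Group G] [Finite G] [IsSimpleGroup G] (hc : Nat.card G = 168) {y t : G}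
    (hy : orderOf y = 7) (ht : orderOf t = 2) : Subgroup.closure {y, t} = ⊤ := by
  by_contra hne
  set H := Subgroup.closure {y, t} with hH
  have hyH : y ∈ H := Subgroup.subset_closure (Or.inl rfl)
  have htH : t ∈ H := Subgroup.subset_closure (Or.inr rfl)
  have h7 : 7 ∣ Nat.card H := by
    have := orderOf_dvd_natCard (⟨y, hyH⟩ : H)
    rwa [Subgroup.orderOf_mk, hy] at this
  have h2 : 2 ∣ Nat.card H := by
    have := orderOf_dvd_natCard (⟨t, htH⟩ : H)
    rwa [Subgroup.orderOf_mk, ht] at this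
  have hle := Small.Order168.card_le hc H hne
  have hdvd : Nat.card H ∣ 168 := hc ▸ Subgroup.card_subgroup_dvd_card H
  have h14 : Nat.card H = 14 := by
    have : 14 ∣ Nat.card H := Nat.Coprime.mul_dvd_of_dvd_of_dvd (by norm_num) h2 h7
    have hpos := Nat.card_pos (α := H)
    obtain ⟨m, hm⟩ := this
    rcases m with _ | _ | m <;> omega
  haveI : Fact (Nat.Prime 7) := ⟨by norm_num⟩
  obtain ⟨S, hS⟩ := Small.Order168.exists_sylow_zpowers hy (Small.Order168.card_P7 hc)
  haveI : ((Subgroup.zpowers y).subgroupOf H).Normal := Subgroup.normal_of_index_eq_two (by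
    have e := ((Subgroup.zpowers y).subgroupOf H).card_mul_index
    rw [Nat.card_congr (Subgroup.subgroupOfEquivOfLe (Subgroup.zpowers_le.2 hyH)).toEquiv, Nat.card_zpowers, hy,
      h14] at e
    omega)
  have hN : H ≤ Subgroup.normalizer ((S : Subgroup G) : Set G) := by
    rw [hS]
    exact (Subgroup.normal_subgroupOf_iff_le_normalizer (Subgroup.zpowers_le.2 hyH)).1 inferInstance
  have := Subgroup.card_dvd_of_le hN
  rw [Small.Order168.card_N7 hc, h14] at this
  norm_num at this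

theorem pow_code_orders (hσ : IsUSigma 5 σ) (hr : r * r = 2) {P : Subgroup (GL (Fin 3) K)}
    (hord : ∀ x ∈ P, x ^ 3 = 1 ∨ x ^ 4 = 1 ∨ x ^ 7 = 1) {k x : GL (Fin 3) K} {X : M3} (hX : okM 5 X)
    (hxe : (x : Matrix (Fin 3) (Fin 3) K) = mK 5 r X) (hxP : k * x * k⁻¹ ∈ P) : okOrd X := by
  have hp : Small 5 := Or.inr rfl
  have hok : ∀ n, okM 5 (pw 5 X n) := fun n => by
    cases n with
    | zero => exact ⟨⟨by norm_num [pw, I3], by norm_num [pw, I3], by norm_num [pw, I3]⟩,
        ⟨by norm_num [pw, I3], by norm_num [pw, I3], by norm_num [pw, I3]⟩,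
        ⟨by norm_num [pw, I3], by norm_num [pw, I3], by norm_num [pw, I3]⟩⟩
    | succ n => exact mm_ok hp.pos _ _
  have key : ∀ n, (k * x * k⁻¹) ^ n = 1 → pw 5 X n = I3 := fun n hn => by
    rw [conj_pow, mul_inv_eq_one, mul_eq_left] at hn
    refine mK_inj hp hσ hr (hok n) (hok 0) ?_
    rw [mK_pw hp hσ hr, ← hxe, ← Units.val_pow_eq_pow_val, hn, Units.val_one]
    exact (mK_one hp hσ hr).symm
  rcases hord _ hxP with h | h | h
  exacts [Or.inl (key 3 h), Or.inr (Or.inl (key 4 h)), Or.inr (Or.inr (key 7 h))]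

theorem not_maximal_of_card (hσ : IsUSigma 5 σ) {H P : Subgroup (GL (Fin 3) K)}
    (hH : IsMaximalIn (suGL 3 K 5) H) (hP : IsResidualCore H P)
    (hc : Nat.card (P ⧸ (scalars (Fin 3) K).subgroupOf P) = 168) : False := by
  classical
  have hp : Small 5 := Or.inr rfl
  obtain ⟨r, hr⟩ := exists_root hp hσ
  have h := Ctx.of_core hP
  haveI := h.simple
  have hPG : P ≤ suGL 3 K 5 := hP.le.trans hH.1.le
  -- the group is simple of order 168
  have ht : ∀ z : P, z ∈ (scalars (Fin 3) K).subgroupOf P → z = 1 := fun z hz =>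
    sc_trivial h (by rw [hc]; norm_num) hz
  have hbij : Function.Bijective (QuotientGroup.mk' ((scalars (Fin 3) K).subgroupOf P)) :=
    ⟨(injective_iff_map_eq_one _).2 fun z hz => ht z ((QuotientGroup.eq_one_iff z).1 hz),
      QuotientGroup.mk'_surjective _⟩
  let π := MulEquiv.ofBijective _ hbij
  haveI : IsSimpleGroup P := π.isSimpleGroup
  have hcP : Nat.card P = 168 := (Nat.card_congr π.toEquiv).trans hc
  have hord : ∀ x ∈ P, x ^ 3 = 1 ∨ x ^ 4 = 1 ∨ x ^ 7 = 1 := by
    intro x hx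
    rcases classes_168 hcP (⟨x, hx⟩ : P) with ⟨e, -⟩ | ⟨e, -⟩ | ⟨e, -⟩
    exacts [Or.inl (congrArg Subtype.val e), Or.inr (Or.inl (congrArg Subtype.val e)),
      Or.inr (Or.inr (congrArg Subtype.val e))]
  haveI : Fact (Nat.Prime 7) := ⟨by norm_num⟩
  haveI : Fact (Nat.Prime 2) := ⟨Nat.prime_two⟩
  obtain ⟨y, hy⟩ := exists_prime_orderOf_dvd_card' (G := P) 7 (by rw [hcP]; norm_num)
  obtain ⟨t, ht2⟩ := exists_prime_orderOf_dvd_card' (G := P) 2 (by rw [hcP]; norm_num)
  have hgen := closure_pair hcP hy ht2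
  have hy' : orderOf (y : GL (Fin 3) K) = 7 := by rw [Subgroup.orderOf_coe, hy]
  have ht' : orderOf (t : GL (Fin 3) K) = 2 := by rw [Subgroup.orderOf_coe, ht2]
  -- the standard element of order seven
  obtain ⟨hy7, hyok, hyU, hyd, hyne, hpows, -, -, -⟩ := seven_five
  obtain ⟨g₀, hg₀, hg₀e⟩ := exists_suGL hp hσ hr hyU hyd
  have hg₀7 : g₀ ^ 7 = 1 := Units.ext (by
    rw [Units.val_pow_eq_pow_val, hg₀e, ← mK_pw hp hσ hr, hy7, mK_one hp hσ hr, Units.val_one])
  have hg₀ord : orderOf g₀ = 7 := orderOf_eq_prime hg₀7 fun h1 => hyne (mK_inj hp hσ hr hyok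
    (by decide) (by rw [← hg₀e, h1, Units.val_one, mK_one hp hσ hr]))
  have hG7 : ¬ 7 ^ (1 + 1) ∣ Nat.card (suGL 3 K 5) := by rw [card_suGL_five hσ]; norm_num
  obtain ⟨k, hk, hkiff⟩ := exists_conj_full (A := Subgroup.zpowers (y : GL (Fin 3) K)) (B := Subgroup.zpowers g₀)
    (Subgroup.zpowers_le.mpr (hPG y.2)) (Subgroup.zpowers_le.mpr hg₀) (ℓ := 7) (a := 1) (by norm_num)
    (by rw [Nat.card_zpowers, hy', pow_one]) (by rw [Nat.card_zpowers, hg₀ord, pow_one]) hG7
  have hpowP : ∀ i : ℕ, k * g₀ ^ i * k⁻¹ ∈ P := fun i => by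
    have : k * g₀ ^ i * k⁻¹ ∈ Subgroup.zpowers (y : GL (Fin 3) K) := (hkiff _).mpr (by
      rw [show k⁻¹ * (k * g₀ ^ i * k⁻¹) * k = g₀ ^ i by group]; exact Subgroup.npow_mem_zpowers g₀ i)
    exact Subgroup.zpowers_le.mpr y.2 this
  -- the involution
  set u : GL (Fin 3) K := k⁻¹ * t * k with hu
  have huG : u ∈ suGL 3 K 5 := conj_mem' hk.1 (hPG t.2)
  have hut : k * u * k⁻¹ = t := by rw [hu]; group
  obtain ⟨v, hv, d, hd, hdv, hX⟩ := exists_refl hσ hr huG
    (by
      have h2 : (t : GL (Fin 3) K) * t = 1 := by rw [← pow_two, ← ht', pow_orderOf_eq_one]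
      rw [hu, show k⁻¹ * (t : GL (Fin 3) K) * k * (k⁻¹ * t * k) = k⁻¹ * ((t : GL (Fin 3) K) * t) * k by group, h2]
      group)
    (fun e => by
      rw [e, mul_one, mul_inv_cancel] at hut
      rw [← hut, orderOf_one] at ht'
      norm_num at ht')
  have horders : ∀ Y ∈ powsFive, okOrd (mm 5 (reflM v d) Y) := by
    intro Y hY
    rw [hpows, List.mem_map] at hY
    obtain ⟨i, -, rfl⟩ := hY
    refine pow_code_orders hσ hr hord (k := k) (x := u * g₀ ^ i) (mm_ok hp.pos _ _) ?_ ?_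
    · rw [Units.val_mul, Units.val_pow_eq_pow_val, hg₀e, mK_mul hp hσ hr, mK_pw hp hσ hr, hX]
    · rw [show k * (u * g₀ ^ i) * k⁻¹ = (k * u * k⁻¹) * (k * g₀ ^ i * k⁻¹) by group, hut]
      exact mul_mem t.2 (hpowP i)
  obtain ⟨C, hC, hmaps⟩ := invol_check v hv d hd hdv horders
  obtain ⟨hCok, hCU, hCy, hCadj⟩ := cent_spec C hC
  obtain ⟨c, hcG, hce⟩ := exists_GU hp hσ hr hCU
  have hcy : c * g₀ = g₀ * c := Units.ext (by
    rw [Units.val_mul, Units.val_mul, hce, hg₀e, ← mK_mul hp hσ hr, ← mK_mul hp hσ hr, hCy])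
  obtain ⟨-, hOm, ⟨-, heU, hed, hemaps⟩, -, hzU, hzd, hzmoves⟩ := fld_case_five
  set k' := k * c with hk'
  have hk'G : k' ∈ GU 3 K 5 := mul_mem hk.1 hcG
  have hk'conj : ∀ i : ℕ, k' * g₀ ^ i * k'⁻¹ = k * g₀ ^ i * k⁻¹ := fun i => by
    rw [hk', show k * c * g₀ ^ i * (k * c)⁻¹ = k * (c * g₀ ^ i * c⁻¹) * k⁻¹ by group,
      (Commute.pow_right hcy i).eq, mul_inv_cancel_right]
  set M := (setStab (pointSet 5 r orbFldFive)).map (MulAut.conj k').toMonoidHom with hM
  have hmemM : ∀ x, k'⁻¹ * x * k' ∈ setStab (pointSet 5 r orbFldFive) → x ∈ M := fun x hx =>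
    ⟨_, hx, by simp [mul_assoc]⟩
  -- elements of the intersection normalising the cyclic group
  have hnorm : ∀ n, n ∈ suGL 3 K 5 → n * (y : GL (Fin 3) K) * n⁻¹ ∈ Subgroup.zpowers (y : GL (Fin 3) K) →
      n ∈ M := by
    intro n hn hny
    have hmem : k * g₀ * k⁻¹ ∈ Subgroup.zpowers (y : GL (Fin 3) K) := (hkiff _).mpr (by
      rw [show k⁻¹ * (k * g₀ * k⁻¹) * k = g₀ by group]; exact Subgroup.mem_zpowers g₀)
    obtain ⟨i, hi⟩ := mem_powers_iff_mem_zpowers.mpr hmem
    have hmem2 : n * (k * g₀ * k⁻¹) * n⁻¹ ∈ Subgroup.zpowers (y : GL (Fin 3) K) := by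
      rw [← hi, ← conj_pow]
      exact pow_mem hny i
    have h3 := (hkiff _).mp hmem2
    obtain ⟨b, hb⟩ := mem_powers_iff_mem_zpowers.mpr h3
    refine hmemM n (normalizer_stab hσ hr hg₀e (conj_mem' hk'G hn) (b := b % 7) (Nat.mod_lt _ (by norm_num)) ?_)
    rw [← hg₀ord, pow_mod_orderOf]
    change g₀ ^ b = _ at hb
    rw [hk', show (k * c)⁻¹ * n * (k * c) * g₀ = c⁻¹ * (k⁻¹ * n * k) * (c * g₀) by group, hcy,
      show c⁻¹ * (k⁻¹ * n * k) * (g₀ * c) = c⁻¹ * (k⁻¹ * (n * (k * g₀ * k⁻¹) * n⁻¹) * k) * (k⁻¹ * n * k) * c by group,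
      ← hb, show g₀ ^ b * ((k * c)⁻¹ * n * (k * c)) = g₀ ^ b * c⁻¹ * (k⁻¹ * n * k) * c by group,
      ((Commute.pow_right hcy b).inv_left).eq]
  have hyM : (y : GL (Fin 3) K) ∈ M := hnorm _ (hPG y.2) (by
    rw [mul_inv_cancel_right]; exact Subgroup.mem_zpowers _)
  have htM : (t : GL (Fin 3) K) ∈ M := by
    refine hmemM _ (maps_pointSet hp hσ hr hOm hmaps one_ne_zero ?_)
    rw [one_smul, hk', show (k * c)⁻¹ * (t : GL (Fin 3) K) * (k * c) = c⁻¹ * (k⁻¹ * t * k) * c by group, ← hu,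
      Units.val_mul, Units.val_mul, mK_adj hσ hr hce hCadj, hce, mK_mul hp hσ hr, mK_mul hp hσ hr, hX]
  have hPM : P ≤ M := by
    intro x hx
    have : (⟨x, hx⟩ : P) ∈ Subgroup.closure {y, t} := by rw [hgen]; trivial
    have hle : Subgroup.closure {y, t} ≤ M.subgroupOf P := by
      rw [Subgroup.closure_le]
      rintro _ (rfl | rfl)
      exacts [hyM, htM]
    exact hle this
  have hHM : H ≤ M := by
    intro g hg
    have hP7 : ¬ 7 ^ (1 + 1) ∣ Nat.card P := by rw [hcP]; norm_num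
    have hconj : g * (y : GL (Fin 3) K) * g⁻¹ ∈ P := hP.normal g hg _ y.2
    obtain ⟨x, hxP, hxiff⟩ := exists_conj_full (G := P) (A := Subgroup.zpowers (g * (y : GL (Fin 3) K) * g⁻¹))
      (B := Subgroup.zpowers (y : GL (Fin 3) K)) (Subgroup.zpowers_le.mpr hconj) (Subgroup.zpowers_le.mpr y.2)
      (ℓ := 7) (a := 1) (by norm_num)
      (by rw [Nat.card_zpowers, ← MulAut.conj_apply, MulEquiv.orderOf_eq, hy', pow_one])
      (by rw [Nat.card_zpowers, hy', pow_one]) hP7
    have h1 := (hxiff _).mp (Subgroup.mem_zpowers _)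
    have hn : x⁻¹ * g ∈ M := hnorm _ (mul_mem (inv_mem (hPG hxP)) (hH.1.le hg)) (by
      rwa [show x⁻¹ * g * (y : GL (Fin 3) K) * (x⁻¹ * g)⁻¹ = x⁻¹ * (g * (y : GL (Fin 3) K) * g⁻¹) * x by group])
    have := mul_mem (hPM hxP) hn
    rwa [mul_inv_cancel_left] at this
  -- the stabiliser is proper
  obtain ⟨g', hg', hgz⟩ := exists_suGL hp hσ hr hzU hzd
  have hMne : ¬ suGL 3 K 5 ≤ M := fun hle => by
    obtain ⟨x, hx, hxe⟩ := hle (conj_mem hk'G hg')
    obtain rfl : x = g' := (MulAut.conj k').injective hxe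
    exact not_mem_of_moves hp hσ hr hzmoves hgz hx
  -- and contains an element not normalising the group
  obtain ⟨e, he, hee⟩ := exists_suGL hp hσ hr heU hed
  have heH : k' * e * k'⁻¹ ∈ H := by
    rw [eq_inf_of_maximal' hH hHM hMne]
    exact ⟨⟨e, maps_pointSet hp hσ hr hOm hemaps one_ne_zero (by rw [one_smul, hee]), rfl⟩, conj_mem hk'G he⟩
  obtain ⟨headj, Y, hY, hYbad⟩ := extra_check
  rw [hpows, List.mem_map] at hY
  obtain ⟨i, -, rfl⟩ := hY
  refine hYbad (pow_code_orders hσ hr hord (k := k') (x := g₀ ^ i * (e * g₀ * e⁻¹)) (mm_ok hp.pos _ _) ?_ ?_)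
  · rw [Units.val_mul, Units.val_mul, Units.val_mul, Units.val_pow_eq_pow_val, hg₀e, mK_adj hσ hr hee headj, hee]
    simp only [mK_mul hp hσ hr, mK_pw hp hσ hr]
  · rw [show k' * (g₀ ^ i * (e * g₀ * e⁻¹)) * k'⁻¹ =
      k' * g₀ ^ i * k'⁻¹ * ((k' * e * k'⁻¹) * (k' * g₀ ^ 1 * k'⁻¹) * (k' * e * k'⁻¹)⁻¹) by
        rw [pow_one]; group, hk'conj, hk'conj]
    exact mul_mem (hpowP i) (hP.normal _ heH _ (hpowP 1))

end Cfsg.Agent.PThree.LTwoSeven

namespace Cfsg.Agent.PThree

open Cfsg Cfsg.Geo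

variable {F : Type*} [Field F] [Fintype F]

/-- A group of type `L₂(7)` is not the core of a maximal subgroup of the special unitary group over 25 elements. -/
theorem l27_five_not_maximal (hF : Fintype.card F = 25) {H P : Subgroup (Matrix.GeneralLinearGroup (Fin 3) F)}
    (hH : IsMaximalIn (Cfsg.GU 3 F 5 ⊓ specialLinear (Fin 3) F) H) (hP : IsResidualCore H P)
    (e : Nonempty ((P ⧸ (scalars (Fin 3) F).subgroupOf P) ≃*
      Matrix.ProjectiveSpecialLinearGroup (Fin 2) (ZMod 7))) : False := by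
  haveI : Fact (Nat.Prime 7) := ⟨by norm_num⟩
  obtain ⟨e⟩ := e
  obtain ⟨p, n, σ, hp, -, h5, -, hσ⟩ := Cfsg.Agent.Classical.exists_usigma (q := 5) (F := F) (by rw [hF]; norm_num)
  exact LTwoSeven.not_maximal_of_card hσ hH hP ((Nat.card_congr e.toEquiv).trans
    (Small.PSLThreeTwo.psl_two_seven (ZMod.card 7)).2)

end Cfsg.Agent.PThree
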