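import Cfsg.Agent.Lib.Classical.PThree.Wild
import Cfsg.Agent.Lib.Classical.PThree.Fields
import Cfsg.Agent.Lib.Classical.PThree.Coprime
import Cfsg.Agent.Lib.Classical.PThree.FormTrace
import Cfsg.Agent.Lib.Classical.UnitaryForm
import Cfsg.Agent.S0255

/-!
# The residual subgroups of the special linear and unitary groups of degree three

The case division: transvections, characteristic dividing the order, order prime to the
characteristic.  The theorems on transvection groups and on the unitary group over the field of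
twenty-five elements enter as hypotheses.
-/

set_option autoImplicit false
set_option linter.unusedSectionVars false
set_option linter.style.haveILetI false

namespace Cfsg.Agent.PThree

open Matrix Cfsg Cfsg.Geo
open Cfsg.Agent.Classical (IsUSigma gram_comp semiForm_of_unitary semiForm_apply det_gram_ne_zero)
open scoped MatrixGroups

/-- `P` is the whole special unitary group of some form. -/
def IsSUOf {F : Type*} [Field F] (P : Subgroup (GL (Fin 3) F)) : Prop :=
  ∃ (s : F ≃+* F) (f : (Fin 3 → F) → (Fin 3 → F) → F), IsUnitaryForm s f ∧ FixesForm (matrixSet P) f ∧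
    ∀ g ∈ specialLinear (Fin 3) F, FixesForm {(g : Matrix (Fin 3) (Fin 3) F)} f → g ∈ P

variable (F : Type*) [Field F] [Fintype F]

/-- The theorem on transvections in odd characteristic. -/
def TransOddStmt : Prop :=
  ∀ (P : Subgroup (GL (Fin 3) F)), Ctx P → (2 : F) ≠ 0 → ∀ x ∈ P, IsTransvection x →
    P = specialLinear (Fin 3) F ∨ (∃ τ : F ≃+* F, τ ≠ RingEquiv.refl F ∧ Twist P τ) ∨ IsSUOf P

/-- The theorem on transvections in characteristic two. -/
def TransEvenStmt : Prop :=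
  ∀ (P : Subgroup (GL (Fin 3) F)), Ctx P → (2 : F) = 0 → ∀ x ∈ P, IsTransvection x →
    P = specialLinear (Fin 3) F ∨ (∃ τ : F ≃+* F, τ ≠ RingEquiv.refl F ∧ Twist P τ) ∨ IsSUOf P ∨
    (Nonempty ((P ⧸ (scalars (Fin 3) F).subgroupOf P) ≃* alternatingGroup (Fin 6)) ∧ Fintype.card F = 4)

/-- The theorem on the unitary group over the field with twenty-five elements. -/
def UThreeFiveStmt : Prop :=
  ∀ (P : Subgroup (GL (Fin 3) F)), Ctx P → Fintype.card F = 25 →
    5 ∣ Nat.card (P ⧸ (scalars (Fin 3) F).subgroupOf P) → (∀ x ∈ P, ¬ IsTransvection x) →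
    ∀ s : F ≃+* F, s ≠ RingEquiv.refl F → (∀ a, s (s a) = a) → Form P s →
    Nonempty ((P ⧸ (scalars (Fin 3) F).subgroupOf P) ≃* alternatingGroup (Fin 5)) ∨
    Nonempty ((P ⧸ (scalars (Fin 3) F).subgroupOf P) ≃* alternatingGroup (Fin 6)) ∨
    Nonempty ((P ⧸ (scalars (Fin 3) F).subgroupOf P) ≃* alternatingGroup (Fin 7))

/-- `PSL(2,7)` is not maximal in the unitary group over the field with twenty-five elements. -/
def SevenFiveStmt : Prop :=
  ∀ (H P : Subgroup (GL (Fin 3) F)), Fintype.card F = 5 ^ 2 →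
    IsMaximalIn (GU 3 F 5 ⊓ specialLinear (Fin 3) F) H → IsResidualCore H P →
    Nonempty ((P ⧸ (scalars (Fin 3) F).subgroupOf P) ≃* Matrix.ProjectiveSpecialLinearGroup (Fin 2) (ZMod 7)) →
    False

variable {F}

theorem wildFive : WildFive := by
  intro K _ _ _ P h h5 hnt
  haveI : Fact (Nat.Prime 5) := ⟨by norm_num⟩
  rcases wild h (two_ne_zero_of_odd (p := 5) (by norm_num) Fact.out) 5 h5 hnt with h1 | h1 | ⟨h1, -⟩ | ⟨-, h1⟩
  · exact Or.inl h1
  · exact Or.inr (Or.inl h1)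
  · norm_num at h1
  · exact Or.inr (Or.inr h1)

theorem psl_three_two {Q : Type*} [Group Q]
    (e : Nonempty (Q ≃* Matrix.ProjectiveSpecialLinearGroup (Fin 2) (ZMod 7))) :
    Nonempty (Q ≃* Matrix.ProjectiveSpecialLinearGroup (Fin 3) (ZMod 2)) := by
  haveI : Fact (Nat.Prime 7) := ⟨by norm_num⟩
  haveI : Fact (Nat.Prime 2) := ⟨Nat.prime_two⟩
  obtain ⟨e⟩ := e
  obtain ⟨e'⟩ := Cfsg.Agent.S0255.result (F := ZMod 7) (K := ZMod 2) (ZMod.card 7) (ZMod.card 2)
  exact ⟨e.trans e'⟩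

variable {P : Subgroup (GL (Fin 3) F)}

/-- The outcome of the division into cases. -/
theorem division (hA : TransOddStmt F) (hB : TransEvenStmt F) (hU : UnitaryFive) (h : Ctx P)
    (p : ℕ) [Fact p.Prime] [CharP F p] (hnotwist : ∀ τ : F ≃+* F, Twist P τ → τ = RingEquiv.refl F)
    (hnoform : ¬ Form P (RingEquiv.refl F)) :
    P = specialLinear (Fin 3) F ∨ IsSUOf P ∨
    (Nonempty ((P ⧸ (scalars (Fin 3) F).subgroupOf P) ≃* alternatingGroup (Fin 6)) ∧
      (Fintype.card F = 4 ∨ p ≠ 2)) ∨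
    (Nonempty ((P ⧸ (scalars (Fin 3) F).subgroupOf P) ≃* Matrix.ProjectiveSpecialLinearGroup (Fin 2) (ZMod 7)) ∧
      p ≠ 2) ∨
    (p = 5 ∧ Fintype.card F = 25 ∧ 5 ∣ Nat.card (P ⧸ (scalars (Fin 3) F).subgroupOf P) ∧
      (∀ x ∈ P, ¬ IsTransvection x) ∧ ∃ σ : F ≃+* F, σ ≠ RingEquiv.refl F ∧ (∀ a, σ (σ a) = a) ∧ Form P σ) := by
  classical
  have hp : p.Prime := Fact.out
  have htw : ∀ {C : Prop}, (∃ τ : F ≃+* F, τ ≠ RingEquiv.refl F ∧ Twist P τ) → C := fun ⟨τ, hne, hτ⟩ =>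
    absurd (hnotwist τ hτ) hne
  by_cases htr : ∃ x ∈ P, IsTransvection x
  · obtain ⟨x, hx, hxt⟩ := htr
    by_cases h2 : (2 : F) = 0
    · rcases hB P h h2 x hx hxt with e | e | e | ⟨e, e4⟩
      · exact Or.inl e
      · exact htw e
      · exact Or.inr (Or.inl e)
      · exact Or.inr (Or.inr (Or.inl ⟨e, Or.inl e4⟩))
    · rcases hA P h h2 x hx hxt with e | e | e
      · exact Or.inl e
      · exact htw e
      · exact Or.inr (Or.inl e)
  push Not at htr
  by_cases hdvd : p ∣ Nat.card (P ⧸ (scalars (Fin 3) F).subgroupOf P)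
  · have hp2 : p ≠ 2 := by
      rintro rfl
      obtain ⟨x, hx⟩ := exists_prime_orderOf_dvd_card' 2 (hdvd.trans (Subgroup.card_quotient_dvd_card _))
      have hx1 : (x : GL (Fin 3) F) ≠ 1 := fun e => by
        rw [show x = 1 from Subtype.ext e, orderOf_one] at hx
        norm_num at hx
      refine htr x x.2 (transvection_of_sq hx1 ?_)
      have h22 : ((x : GL (Fin 3) F) : Matrix (Fin 3) (Fin 3) F) * ((x : GL (Fin 3) F) : Matrix (Fin 3) (Fin 3) F) = 1 := by
        rw [← Units.val_mul, ← Subgroup.coe_mul, ← pow_two x, ← hx, pow_orderOf_eq_one]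
        rfl
      rw [Matrix.sub_mul, Matrix.mul_sub, Matrix.mul_one, Matrix.one_mul, h22]
      have h2 : (2 : F) = 0 := by exact_mod_cast CharP.cast_eq_zero F 2
      ext i j
      simp only [Matrix.sub_apply, Matrix.zero_apply]
      linear_combination ((1 : Matrix (Fin 3) (Fin 3) F) i j -
        ((x : GL (Fin 3) F) : Matrix (Fin 3) (Fin 3) F) i j) * h2
    rcases wild h (two_ne_zero_of_odd hp2 hp) p hdvd htr with e | e | ⟨-, e | e⟩ | ⟨e5, e25, e⟩
    · exact htw e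
    · exact absurd e hnoform
    · exact absurd (form_of_a5 h e) hnoform
    · exact Or.inr (Or.inr (Or.inr (Or.inl ⟨e, hp2⟩)))
    · exact Or.inr (Or.inr (Or.inr (Or.inr ⟨e5, e25, e5 ▸ hdvd, htr, e⟩)))
  · have heven : ∀ {G : Type} [Group G] {n : ℕ}, Nat.card G = 2 * n →
        Nonempty ((P ⧸ (scalars (Fin 3) F).subgroupOf P) ≃* G) → p ≠ 2 := by
      rintro G _ n hG ⟨e⟩ rfl
      exact hdvd (by rw [Nat.card_congr e.toEquiv, hG]; exact dvd_mul_right 2 n)
    rcases coprime_cases_of wildFive hU h p hdvd with e | e | e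
    · exact absurd (form_of_a5 h e) hnoform
    · refine Or.inr (Or.inr (Or.inl ⟨e, Or.inr (heven (n := 180) ?_ e)⟩))
      rw [nat_card_alternatingGroup, Nat.card_fin]
      norm_num [Nat.factorial]
    · haveI : Fact (Nat.Prime 7) := ⟨by norm_num⟩
      exact Or.inr (Or.inr (Or.inr (Or.inl
        ⟨e, heven (n := 84) (Small.PSLThreeTwo.psl_two_seven (ZMod.card 7)).2 e⟩)))

theorem core_notwist {H : Subgroup (GL (Fin 3) F)} (hc : IsResidualCore H P) (τ : F ≃+* F)
    (ht : Twist P τ) : τ = RingEquiv.refl F := by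
  by_contra hne
  obtain ⟨F₀, hF₀, hr⟩ := (Ctx.of_core hc).realisable_of_twist hne ht
  exact hc.no_subfield F₀ hF₀ hr

/-- The linear case. -/
theorem linear_cases (hA : TransOddStmt F) (hB : TransEvenStmt F) (hU : UnitaryFive)
    (H : Subgroup (GL (Fin 3) F)) (hH : IsMaximalIn (specialLinear (Fin 3) F) H)
    (hS : InLinearResidualClass H) :
    ∃ (P : Subgroup (GL (Fin 3) F)) (p : ℕ), IsResidualCore H P ∧ p.Prime ∧ CharP F p ∧
    ((Nonempty ((P ⧸ (scalars (Fin 3) F).subgroupOf P) ≃* Matrix.ProjectiveSpecialLinearGroup (Fin 3) (ZMod 2)) ∧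
        Fintype.card F = p ∧ p ≠ 2 ∧ (p % 7 = 1 ∨ p % 7 = 2 ∨ p % 7 = 4)) ∨
     (Nonempty ((P ⧸ (scalars (Fin 3) F).subgroupOf P) ≃* alternatingGroup (Fin 6)) ∧
        ((Fintype.card F = p ∧ (p % 15 = 1 ∨ p % 15 = 4)) ∨
          (Fintype.card F = p ^ 2 ∧ p ≠ 3 ∧ (p % 5 = 2 ∨ p % 5 = 3))))) := by
  obtain ⟨P, hc, hq, -, hu⟩ := hS
  obtain ⟨p, hchar⟩ := CharP.exists F
  obtain ⟨n, hp, hn⟩ := FiniteField.card F p
  haveI : Fact p.Prime := ⟨hp⟩
  have h := Ctx.of_core hc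
  have hnoform : ¬ Form P (RingEquiv.refl F) := fun hf => hq (h.quadratic_of_form hf).2
  have hnou : ∀ {C : Prop} (σ : F ≃+* F), (∀ a, σ (σ a) = a) → σ ≠ RingEquiv.refl F → Form P σ → C :=
    fun σ h1 h2 h3 => absurd ((h.unitary_of_form h1 h2 h3).elim fun f hf => ⟨σ, f, hf⟩) hu
  refine ⟨P, p, hc, hp, hchar, ?_⟩
  rcases division hA hB hU h p (core_notwist hc) hnoform with
    e | ⟨s, f, hf, hfix, -⟩ | ⟨e, hp2⟩ | ⟨e, hp2⟩ | ⟨-, -, -, -, σ, h1, h2, h3⟩
  · exact absurd (hH.1.le.antisymm (e ▸ hc.le)) hH.1.ne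
  · exact absurd ⟨s, f, hf, hfix⟩ hu
  · rcases fields_a6 h e p with ⟨τ, hne, ht⟩ | hf | hr | hr | ⟨-, -, σ, h1, h2, h3⟩
    · exact absurd (core_notwist hc τ ht) hne
    · exact absurd hf hnoform
    · exact Or.inr ⟨e, Or.inl hr⟩
    · exact Or.inr ⟨e, Or.inr hr⟩
    · exact hnou σ h1 h2 h3
  · rcases fields_l27 h e p with ⟨τ, hne, ht⟩ | hf | ⟨hr, hm⟩ | ⟨-, -, σ, h1, h2, h3⟩
    · exact absurd (core_notwist hc τ ht) hne
    · exact absurd hf hnoform
    · exact Or.inl ⟨psl_three_two e, hr, hp2, hm⟩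
    · exact hnou σ h1 h2 h3
  · exact hnou σ h2 h1 h3

/-- An involutive automorphism of a finite field is unique. -/
theorem usigma_unique {q : ℕ} {σ : F ≃+* F} (hσ : IsUSigma q σ) {s : F ≃+* F} (hne : s ≠ RingEquiv.refl F)
    (hinv : ∀ a, s (s a) = a) : s = σ := by
  classical
  obtain ⟨p, hchar⟩ := CharP.exists F
  obtain ⟨n, hp, hn⟩ := FiniteField.card F p
  haveI : Fact p.Prime := ⟨hp⟩
  letI : Algebra (ZMod p) F := ZMod.algebra F p
  let toA : (F ≃+* F) → (F ≃ₐ[ZMod p] F) := fun e => AlgEquiv.ofRingEquiv (f := e) fun x => by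
    rw [← ZMod.natCast_zmod_val x, map_natCast, map_natCast]
  obtain ⟨g, hg⟩ := IsCyclic.exists_generator (α := (F ≃ₐ[ZMod p] F))
  have hsq : ∀ e : F ≃+* F, (∀ a, e (e a) = a) → toA e * toA e = 1 := fun e he => AlgEquiv.ext he
  have hne1 : ∀ e : F ≃+* F, e ≠ RingEquiv.refl F → toA e ≠ 1 := fun e he h1 =>
    he (RingEquiv.ext fun a => AlgEquiv.congr_fun h1 a)
  have key : toA s = toA σ := by
    by_contra hd
    have hsub : ({1, toA s, toA σ} : Finset (F ≃ₐ[ZMod p] F)) ⊆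
        Finset.univ.filter fun x => x ^ 2 = 1 := by
      intro x hx
      simp only [Finset.mem_insert, Finset.mem_singleton] at hx
      refine Finset.mem_filter.2 ⟨Finset.mem_univ _, ?_⟩
      rcases hx with rfl | rfl | rfl
      · exact one_pow 2
      · rw [pow_two, hsq s hinv]
      · rw [pow_two, hsq σ hσ.involutive]
    have h3 := Finset.card_le_card hsub
    rw [Finset.card_insert_of_notMem (by simp [(hne1 s hne).symm, (hne1 σ hσ.ne_refl).symm]),
      Finset.card_pair hd] at h3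
    have := IsCyclic.card_pow_eq_one_le (α := (F ≃ₐ[ZMod p] F)) (n := 2) (by norm_num)
    omega
  exact RingEquiv.ext fun a => AlgEquiv.congr_fun key a

/-- The unitary case. -/
theorem unitary_cases (hA : TransOddStmt F) (hB : TransEvenStmt F) (hU : UnitaryFive)
    (hU' : UThreeFiveStmt F) (hS5 : SevenFiveStmt F) (q : ℕ) (hF : Fintype.card F = q ^ 2) (hq3 : 3 ≤ q)
    (H : Subgroup (GL (Fin 3) F)) (hH : IsMaximalIn (GU 3 F q ⊓ specialLinear (Fin 3) F) H)
    (hS : InUnitaryResidualClass H) :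
    ∃ P : Subgroup (GL (Fin 3) F), IsResidualCore H P ∧ q.Prime ∧
    ((Nonempty ((P ⧸ (scalars (Fin 3) F).subgroupOf P) ≃* Matrix.ProjectiveSpecialLinearGroup (Fin 3) (ZMod 2)) ∧
        q ≠ 5 ∧ (q % 7 = 3 ∨ q % 7 = 5 ∨ q % 7 = 6)) ∨
     (Nonempty ((P ⧸ (scalars (Fin 3) F).subgroupOf P) ≃* alternatingGroup (Fin 6)) ∧
        (q % 15 = 11 ∨ q % 15 = 14 ∨ q = 5)) ∨
     (Nonempty ((P ⧸ (scalars (Fin 3) F).subgroupOf P) ≃* alternatingGroup (Fin 7)) ∧ q = 5)) := by
  obtain ⟨P, hc, hq, -⟩ := hS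
  obtain ⟨p, m, σ, hp, hchar, hqp, hm, hσ⟩ := Cfsg.Agent.Classical.exists_usigma hF
  haveI : Fact p.Prime := ⟨hp⟩
  have h := Ctx.of_core hc
  have hnoform : ¬ Form P (RingEquiv.refl F) := fun hf => hq (h.quadratic_of_form hf).2
  have hherm := hσ.isUnitaryForm (n := 3)
  have hPU : P ≤ GU 3 F q := hc.le.trans (hH.1.le.trans inf_le_left)
  have hfixm : ∀ {f : (Fin 3 → F) → (Fin 3 → F) → F}, IsUnitaryForm σ f → FixesForm (matrixSet P) f →
      ∀ x ∈ P, (x : Matrix (Fin 3) (Fin 3) F)ᵀ * gramMatrix f * (x : Matrix (Fin 3) (Fin 3) F).map σ =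
        gramMatrix f := by
    intro f hf hfix x hx
    rw [← gram_comp σ (semiForm_of_unitary hf)]
    exact congrArg gramMatrix (funext fun u => funext fun v => hfix _ ⟨x, hx, rfl⟩ u v)
  have hne0 : gramMatrix (hermForm 3 F q) ≠ 0 := fun e => by
    have hd := det_gram_ne_zero σ (semiForm_of_unitary hherm) hherm.nondegenerate
    rw [e, Matrix.det_zero] at hd
    exact hd rfl
  have hform : Form P σ := ⟨_, hne0, hfixm hherm (Cfsg.Agent.Classical.GU_fixes hPU)⟩
  have hprime : ∀ {n : ℕ}, Fintype.card F = n → n = p ^ 2 → q = p := by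
    intro n e1 e2
    exact Nat.pow_left_injective two_ne_zero (show q ^ 2 = p ^ 2 by rw [← hF, e1, e2])
  refine ⟨P, hc, ?_⟩
  rcases division hA hB hU h p (core_notwist hc) hnoform with
    e | ⟨s, f, hf, hfix, hbig⟩ | ⟨e, hp2⟩ | ⟨e, hp2⟩ | ⟨e5, e25, e5d, hnt, s, hs1, hs2, hs3⟩
  · exact absurd (hH.1.le.antisymm (inf_le_right.trans (e.symm.le.trans hc.le))) hH.1.ne
  · exfalso
    obtain rfl := usigma_unique hσ hf.ne_refl hf.involutive
    obtain ⟨c, hc'⟩ := h.form_unique hne0 (hfixm hherm (Cfsg.Agent.Classical.GU_fixes hPU)) (hfixm hf hfix)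
    refine hH.1.ne (hH.1.le.antisymm fun g hg => hc.le (hbig g hg.2 ?_))
    rintro _ rfl u v
    have hg1 : hermForm 3 F q ((g : Matrix (Fin 3) (Fin 3) F) *ᵥ u) ((g : Matrix (Fin 3) (Fin 3) F) *ᵥ v) =
        hermForm 3 F q u v := hg.1 u v
    rw [semiForm_apply _ (semiForm_of_unitary hherm), semiForm_apply _ (semiForm_of_unitary hherm)] at hg1
    rw [semiForm_apply _ (semiForm_of_unitary hf), semiForm_apply _ (semiForm_of_unitary hf), hc']
    simp only [Matrix.smul_mulVec, dotProduct_smul]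
    rw [hg1]
  · rcases fields_a6 h e p with ⟨τ, hne, ht⟩ | hf | ⟨hr, -⟩ | ⟨hr, -, hm5⟩ | ⟨hr, hm', -⟩
    · exact absurd (core_notwist hc τ ht) hne
    · exact absurd hf hnoform
    · exfalso
      have hd : q ^ 2 = p := hF ▸ hr
      rw [← hd] at hp
      exact Nat.Prime.not_prime_pow le_rfl hp
    · exfalso
      have hqp' := hprime hr rfl
      obtain ⟨y, hy⟩ := exists_prime_orderOf_dvd_card' 5 (hp := ⟨by norm_num⟩)
        (show 5 ∣ Nat.card P by
          refine Dvd.dvd.trans ?_ (Subgroup.card_quotient_dvd_card ((scalars (Fin 3) F).subgroupOf P))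
          rw [Nat.card_congr (Classical.choice e).toEquiv, nat_card_alternatingGroup, Nat.card_fin]
          norm_num [Nat.factorial])
      have h1 := no_five_unitary h hm5 (fun a => by rw [hσ.apply_eq, hqp']) hform y.2 (by
        rw [← Subgroup.coe_pow, ← hy, pow_orderOf_eq_one, Subgroup.coe_one])
      rw [show y = 1 from Subtype.ext h1, orderOf_one] at hy
      norm_num at hy
    · have hqp' := hprime hr rfl
      exact ⟨hqp' ▸ hp, Or.inr (Or.inl ⟨e, by rw [hqp']; exact hm'⟩)⟩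
  · rcases fields_l27 h e p with ⟨τ, hne, ht⟩ | hf | ⟨hr, -⟩ | ⟨hr, hm', -⟩
    · exact absurd (core_notwist hc τ ht) hne
    · exact absurd hf hnoform
    · exfalso
      have hd : q ^ 2 = p := hF ▸ hr
      rw [← hd] at hp
      exact Nat.Prime.not_prime_pow le_rfl hp
    · have hqp' := hprime hr rfl
      refine ⟨hqp' ▸ hp, Or.inl ⟨psl_three_two e, fun e5 => ?_, by rw [hqp']; exact hm'⟩⟩
      subst e5
      exact hS5 H P hF hH hc e
  · subst e5
    have hqp' := hprime e25 (by norm_num)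
    refine ⟨hqp' ▸ hp, ?_⟩
    rcases hU' P h e25 e5d hnt s hs1 hs2 hs3 with e | e | e
    · exact absurd (form_of_a5 h e) hnoform
    · exact Or.inr (Or.inl ⟨e, Or.inr (Or.inr hqp')⟩)
    · exact Or.inr (Or.inr ⟨e, hqp'⟩)

end Cfsg.Agent.PThree
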