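import Cfsg.Agent.Lib.Classical.PThree.TEven.BigTwo
import Cfsg.Agent.Lib.Classical.PThree.TEven.Unital
import Cfsg.Agent.Lib.Classical.PThree.TEven.Count
import Cfsg.Agent.Lib.Classical.PThree.TEven.Dih
import Cfsg.Agent.Lib.Classical.PThree.TEven.DihData

/-!
# Irreducible groups with transvections in characteristic two

Such a group is the special linear group, is realised over a proper subfield, is a special
unitary group, or is `Alt 6` modulo scalars over four elements.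
-/

set_option autoImplicit false
set_option linter.unusedSectionVars false

namespace Cfsg.Agent.PThree

open Matrix Cfsg Cfsg.Geo
open scoped MatrixGroups

variable {F : Type*} [Field F] [Fintype F]

theorem trans_even {P : Subgroup (GL (Fin 3) F)} (h : Ctx P) (h2 : (2 : F) = 0) {x : GL (Fin 3) F} (hx : x ∈ P)
    (ht : IsTransvection x) :
    P = specialLinear (Fin 3) F ∨ (∃ τ : F ≃+* F, τ ≠ RingEquiv.refl F ∧ Twist P τ) ∨
    (∃ (s : F ≃+* F) (f : (Fin 3 → F) → (Fin 3 → F) → F), IsUnitaryForm s f ∧ FixesForm (matrixSet P) f ∧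
      ∀ g ∈ specialLinear (Fin 3) F, FixesForm {(g : Matrix (Fin 3) (Fin 3) F)} f → g ∈ P) ∨
    (Nonempty ((P ⧸ (scalars (Fin 3) F).subgroupOf P) ≃* alternatingGroup (Fin 6)) ∧ Fintype.card F = 4) := by
  classical
  have hG := TEven.gen_of_ctx h h2 hx ht
  by_cases hA : TEven.BigA P
  · exact (TEven.sl_or_twist_of_bigA hG hA).imp id Or.inl
  by_cases hA' : TEven.BigA (TEven.dual P)
  · exact (TEven.sl_or_twist_of_bigA_dual hG hA').imp id Or.inl
  by_cases hB : ∃ v φ, TEven.Big P v φ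
  · obtain ⟨K, hU⟩ := TEven.exists_uni hG hA hA' hB
    rcases TEven.su_or_twist_of_uni hG hU with h' | h'
    exacts [Or.inr (Or.inl h'), Or.inr (Or.inr (Or.inl h'))]
  push Not at hB
  have hT : TEven.Thin P := hB
  by_cases hboth : ∃ g, TEven.SC P g ∧ TEven.SA P g
  · obtain ⟨g, hc, ha⟩ := hboth
    obtain ⟨v, φ, s, t, hTv, ex, hs, ht', hs2, ht2, hst, hC⟩ := TEven.dih_data hG hT hc ha
    rcases TEven.dih_case h h2 hTv ex hs ht' hs2 ht2 hst hC with h' | h' | h'
    exacts [Or.inl h', Or.inr (Or.inl h'), Or.inr (Or.inr (Or.inr h'))]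
  exfalso
  have hno : ∀ g, TEven.SC P g → TEven.SA P g → False := fun g a b => hboth ⟨g, a, b⟩
  by_cases hSA : ∀ g ∈ P, ¬ TEven.SA P g
  · -- one centre on every axis
    have hO := TEven.oneCentre_of_no_SA hSA
    obtain ⟨w, ψ, hTw, -⟩ := hG.moves (Pi.single 0 1) (by simp)
    obtain ⟨y, hy, ey⟩ := hTw.2.2
    obtain ⟨g, hg, hne, hcomm⟩ := TEven.exists_comm h hG hTw hy ey
    have hy2 := TEven.sq_one_of_tv h2 ey (hTw.2.2.orth hG.le_sl)
    obtain ⟨w', ψ', hTw', ey'⟩ := TEven.exists_tv hG (mul_mem (mul_mem hg hy) (inv_mem hg))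
      (by calc g * y * g⁻¹ * (g * y * g⁻¹) = g * (y * y) * g⁻¹ := by group
            _ = 1 := by rw [hy2]; group)
      (fun e => hTw.ne_one ey (conj_eq_one_iff.1 e))
    rcases TEven.comm_share hG ey ey' hTw hTw' hcomm hne.symm with ⟨hc, -⟩ | ⟨ha, -⟩
    · exact TEven.oneCentre_false hG hT hO hc
    · exact hSA y hy ha
  · -- one axis at every centre
    push Not at hSA
    obtain ⟨y, hy, hSy⟩ := hSA
    have hSC : ∀ g ∈ P, ¬ TEven.SC P g := fun g hg hc => TEven.no_mixed hG hno hg hy hc hSy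
    have hOd : TEven.OneCentre (TEven.dual P) := fun u w ψ hu hw => by
      by_contra hne
      obtain ⟨g, hg, e⟩ := (hG.tv_dual.1 hw).2.2
      exact hSC g hg ⟨ψ, w, u, e, hG.tv_dual.1 hw, hG.tv_dual.1 hu, hne⟩
    have hTd : TEven.Thin (TEven.dual P) := fun v φ ⟨hv, s, hs0, hs1, hs⟩ =>
      hT φ v ⟨hG.tv_dual.1 hv, s, hs0, hs1,
        TEven.mem_smul_iff.1 (hG.mem_dual.1 hs)⟩
    obtain ⟨v, φ, v', -, h1, h3, hne⟩ := hSy
    obtain ⟨z, -, ez⟩ := (hG.tv_dual.2 h1).2.2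
    exact TEven.oneCentre_false hG.dual' hTd hOd (x := z) ⟨φ, v, v', ez, hG.tv_dual.2 h1, hG.tv_dual.2 h3, hne⟩

end Cfsg.Agent.PThree
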