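import Cfsg.Agent.Lib.Classical.PThree.TransOdd.CaseTwoAxes
import Cfsg.Agent.Lib.Classical.PThree.TransOdd.CaseUnital

/-!
# Perfect subgroups with transvections in odd characteristic
-/

set_option autoImplicit false
set_option linter.unusedSectionVars false

namespace Cfsg.Agent.PThree

open Matrix Cfsg Cfsg.Geo
open scoped MatrixGroups

variable {F : Type*} [Field F] [Fintype F] {P : Subgroup (GL (Fin 3) F)}

/-- An irreducible perfect group with a transvection is linear, unitary, or twisted. -/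
theorem trans_odd (h : Ctx P) (h2 : (2 : F) ≠ 0) {x : GL (Fin 3) F} (hx : x ∈ P) (ht : IsTransvection x) :
    P = specialLinear (Fin 3) F ∨ (∃ τ : F ≃+* F, τ ≠ RingEquiv.refl F ∧ Twist P τ) ∨
      ∃ (σ : F ≃+* F) (f : (Fin 3 → F) → (Fin 3 → F) → F), IsUnitaryForm σ f ∧
        FixesForm (matrixSet P) f ∧
        ∀ g ∈ specialLinear (Fin 3) F, FixesForm {(g : Matrix (Fin 3) (Fin 3) F)} f → g ∈ P := by
  obtain ⟨v, φ, hv, hφ, r⟩ := exists_root hx ht
  by_cases H : Paired P
  · exact Or.inr (case_unital h h2 H hv hφ r)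
  · obtain ⟨v', φ₁, φ₂, hv', hφ₁, r1, r2, hind⟩ := two_axes_of_not_paired H
    exact (case_two_axes h h2 hv' hφ₁ r1 r2 hind).imp_right Or.inl

end Cfsg.Agent.PThree
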