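import Cfsg.Agent.Lib.Classical.PThree.UThreeFive
import Cfsg.Agent.Lib.Classical.PThree.Coprime

/-!
# The statement on the unitary groups over twenty-five elements used in the coprime case
-/

set_option autoImplicit false

namespace Cfsg.Agent.PThree

theorem unitaryFive : UnitaryFive := fun _ _ _ _ _ h hF h5 hnt _ hne hinv hf =>
  u35_cases h hF h5 hnt hne hinv hf

end Cfsg.Agent.PThree
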