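import Cfsg.Agent.Lib.Classical.PThree.Residual
import Cfsg.Agent.Lib.Classical.PThree.TransOdd
import Cfsg.Agent.Lib.Classical.PThree.TransEven
import Cfsg.Agent.Lib.Classical.PThree.UThreeFiveStmt
import Cfsg.Agent.Lib.Classical.PThree.LTwoSevenFive

/-!
# The residual subgroups in dimension three
-/

set_option autoImplicit false

namespace Cfsg.Agent.PThree

open Cfsg Cfsg.Geo
open scoped MatrixGroups

variable {F : Type*} [Field F] [Fintype F]

theorem transOddStmt : TransOddStmt F := fun _ h h2 _ hx ht => trans_odd h h2 hx ht

theorem transEvenStmt : TransEvenStmt F := fun _ h h2 _ hx ht => trans_even h h2 hx ht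

theorem uThreeFiveStmt : UThreeFiveStmt F := fun _ h hF h5 hnt _ hne hinv hf =>
  u35_cases h hF h5 hnt hne hinv hf

theorem sevenFiveStmt : SevenFiveStmt F := fun _ _ hF hH hP e =>
  l27_five_not_maximal (hF.trans (by norm_num)) hH hP e

/-- The linear case, from the theorem on transvections in characteristic two. -/
theorem linear_of_even (hB : TransEvenStmt F) (H : Subgroup (GL (Fin 3) F))
    (hH : IsMaximalIn (specialLinear (Fin 3) F) H) (hS : InLinearResidualClass H) :
    type_of% (linear_cases transOddStmt hB unitaryFive H hH hS) :=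
  linear_cases transOddStmt hB unitaryFive H hH hS

/-- The unitary case, from the theorem on transvections in characteristic two. -/
theorem unitary_of_even (hB : TransEvenStmt F) (q : ℕ) (hF : Fintype.card F = q ^ 2) (hq : 3 ≤ q)
    (H : Subgroup (GL (Fin 3) F)) (hH : IsMaximalIn (GU 3 F q ⊓ specialLinear (Fin 3) F) H)
    (hS : InUnitaryResidualClass H) :
    type_of% (unitary_cases transOddStmt hB unitaryFive uThreeFiveStmt sevenFiveStmt q hF hq H hH hS) :=
  unitary_cases transOddStmt hB unitaryFive uThreeFiveStmt sevenFiveStmt q hF hq H hH hS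

end Cfsg.Agent.PThree
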