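import Cfsg.Agent.Lib.Classical.PThree.WildSylow
import Cfsg.Agent.Lib.Classical.SUThreeSmall.Seven
import Cfsg.Agent.Lib.Classical.Elusive.HermBasic
import Cfsg.Agent.Lib.Small.OrderSieve
import Cfsg.Agent.Lib.Small.OrderFiftyForty
import Cfsg.Agent.S0494
import Cfsg.Agent.S0497
import Cfsg.Agent.S0984

/-!
# The unitary groups over twenty-five elements with five in the order

An element of order five without transvections around is regular unipotent; an invariant hermitian
form cuts its centraliser down to its powers and scalars, so five divides the order of the simple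
quotient once. That order then divides `5040`, and the simple groups left are `A₅`, `A₆`, `A₇`.
-/

set_option autoImplicit false
set_option linter.unusedSectionVars false
set_option linter.style.haveILetI false
set_option maxHeartbeats 400000

namespace Cfsg.Agent.PThree

open Matrix Cfsg Cfsg.Geo Cfsg.Agent.Classical
open scoped MatrixGroups

namespace UFive

variable {F : Type*} [Field F] [Fintype F]

/-- An involutive automorphism of a field with twenty-five elements is the fifth power map. -/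
theorem isUSigma_of_involutive (hF : Fintype.card F = 25) {s : F ≃+* F}
    (hne : s ≠ RingEquiv.refl F) (hinv : ∀ a, s (s a) = a) :
    IsUSigma 5 s ∧ CharP F 5 := by
  obtain ⟨p, e, -, hp, hchar, hq, he, -⟩ := exists_usigma (q := 5) (F := F) (by rw [hF]; norm_num)
  obtain rfl : p = 5 :=
    (Nat.prime_dvd_prime_iff_eq hp (by norm_num)).1 (hq ▸ dvd_pow_self p (by omega))
  haveI : Fact (Nat.Prime 5) := ⟨hp⟩
  letI : Algebra (ZMod 5) F := ZMod.algebra F 5
  have hrank : Module.finrank (ZMod 5) F = 2 := by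
    have h := Module.card_eq_pow_finrank (K := ZMod 5) (V := F)
    rw [hF, ZMod.card] at h
    exact Nat.pow_right_injective (by norm_num) (h.symm.trans (by norm_num : (25 : ℕ) = 5 ^ 2))
  let S : F ≃ₐ[ZMod 5] F := AlgEquiv.ofRingEquiv (f := s) (fun x => by
    exact congrArg (fun f : ZMod 5 →+* F => f x)
      (Subsingleton.elim (s.toRingHom.comp (algebraMap (ZMod 5) F)) (algebraMap (ZMod 5) F)))
  obtain ⟨⟨n, hn⟩, hnS⟩ := (FiniteField.bijective_frobeniusAlgEquivOfAlgebraic_pow (ZMod 5) F).2 S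
  have hn2 : n < 2 := hrank ▸ hn
  have hs : ∀ x, s x = (FiniteField.frobeniusAlgEquivOfAlgebraic (ZMod 5) F ^ n) x := fun x => by
    have := congrArg (fun f : F ≃ₐ[ZMod 5] F => f x) hnS
    exact this.symm
  interval_cases n
  · exact absurd (RingEquiv.ext fun x => by rw [hs x, pow_zero]; rfl) hne
  · refine ⟨⟨by rw [hF]; norm_num, fun x => ?_, hinv, hne⟩, hchar⟩
    rw [hs x, pow_one, FiniteField.coe_frobeniusAlgEquivOfAlgebraic, ZMod.card]

/-- A matrix commuting with a regular nilpotent one is a polynomial in it. -/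
theorem eq_poly_of_commute {N A : Matrix (Fin 3) (Fin 3) F} (h3 : N ^ 3 = 0) (h2 : N * N ≠ 0)
    (hA : A * N = N * A) : ∃ a b c : F, A = a • 1 + b • N + c • (N * N) := by
  obtain ⟨B, hB⟩ := exists_shift h3 h2
  set Bi := ((B⁻¹ : GL (Fin 3) F) : Matrix (Fin 3) (Fin 3) F)
  set Bm := (B : Matrix (Fin 3) (Fin 3) F)
  set J : Matrix (Fin 3) (Fin 3) F := !![0, 1, 0; 0, 0, 1; 0, 0, 0]
  have h1 : Bm * Bi = 1 := B.mul_inv
  have h1' : Bi * Bm = 1 := B.inv_mul
  have hT := toeplitz_of_commute (A := Bi * A * Bm) (by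
    show Bi * A * Bm * J = J * (Bi * A * Bm)
    rw [← hB]
    calc _ = Bi * A * (Bm * Bi) * N * Bm := by simp only [Matrix.mul_assoc]
      _ = Bi * (A * N) * Bm := by rw [h1, Matrix.mul_one]; simp only [Matrix.mul_assoc]
      _ = Bi * (N * (Bm * Bi) * A) * Bm := by rw [hA, h1, Matrix.mul_one]
      _ = _ := by simp only [Matrix.mul_assoc])
  refine ⟨(Bi * A * Bm) 0 0, (Bi * A * Bm) 0 1, (Bi * A * Bm) 0 2, ?_⟩
  have hN : N = Bm * J * Bi := by
    rw [← hB]
    calc N = Bm * Bi * N * (Bm * Bi) := by rw [h1, Matrix.one_mul, Matrix.mul_one]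
      _ = _ := by simp only [Matrix.mul_assoc]
  set a := (Bi * A * Bm) 0 0
  set b := (Bi * A * Bm) 0 1
  set c := (Bi * A * Bm) 0 2
  have hTJ : Bi * A * Bm = a • 1 + b • J + c • (J * J) := by
    rw [hT]
    ext i j
    fin_cases i <;> fin_cases j <;> simp [J, Matrix.mul_apply, Fin.sum_univ_three]
  calc A = Bm * Bi * A * (Bm * Bi) := by rw [h1, Matrix.one_mul, Matrix.mul_one]
    _ = Bm * (Bi * A * Bm) * Bi := by simp only [Matrix.mul_assoc]
    _ = a • 1 + b • (Bm * J * Bi) + c • (Bm * J * (Bi * Bm) * J * Bi) := by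
        rw [hTJ, h1', Matrix.mul_one]
        simp only [Matrix.mul_add, Matrix.add_mul, Matrix.mul_smul, Matrix.smul_mul, Matrix.mul_one,
          h1, Matrix.mul_assoc]
    _ = a • 1 + b • N + c • (N * N) := by rw [hN]; simp only [Matrix.mul_assoc]

/-- `1, N, N²` are independent. -/
theorem coeff_zero {N : Matrix (Fin 3) (Fin 3) F} (h3 : N ^ 3 = 0) (h2 : N * N ≠ 0) {a b c : F}
    (h : a • (1 : Matrix (Fin 3) (Fin 3) F) + b • N + c • (N * N) = 0) : a = 0 ∧ b = 0 ∧ c = 0 := by
  have h3' : N * (N * N) = 0 := by rw [← h3, pow_succ', pow_two]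
  have h4 : N * N * (N * N) = 0 := by rw [Matrix.mul_assoc, h3', Matrix.mul_zero]
  have e1 := congrArg (fun M => N * N * M) h
  simp only [Matrix.mul_add, Matrix.mul_smul, Matrix.mul_one, Matrix.mul_zero, h4, smul_zero,
    add_zero, Matrix.mul_assoc, h3', smul_eq_zero] at e1
  have ha : a = 0 := e1.resolve_right h2
  rw [ha, zero_smul, zero_add] at h
  have e2 := congrArg (fun M => N * M) h
  simp only [Matrix.mul_add, Matrix.mul_smul, Matrix.mul_zero, h3', smul_zero, add_zero,
    smul_eq_zero] at e2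
  have hb : b = 0 := e2.resolve_right h2
  rw [hb, zero_smul, zero_add, smul_eq_zero] at h
  exact ⟨ha, hb, h.resolve_right h2⟩

/-- The centraliser of an element of order five consists of its powers and scalars. -/
theorem centralizer_five {P : Subgroup (GL (Fin 3) F)} (h : Ctx P)
    (hnt : ∀ x ∈ P, ¬ IsTransvection x) {s : F ≃+* F} (hs : IsUSigma 5 s) [CharP F 5]
    (hf : Form P s) {x y : GL (Fin 3) F} (hx : x ∈ P) (hx5 : x ^ 5 = 1) (hx1 : x ≠ 1) (hy : y ∈ P)
    (hxy : y * x = x * y) : ∃ m : ℕ, ∃ z ∈ scalars (Fin 3) F, y = x ^ m * z := by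
  classical
  haveI : Fact (Nat.Prime 5) := ⟨by norm_num⟩
  have h5 : (5 : F) = 0 := by exact_mod_cast CharP.cast_eq_zero F 5
  set N := (x : Matrix (Fin 3) (Fin 3) F) - 1 with hNdef
  have hN3 : N ^ 3 = 0 := sub_one_cube (p := 5) (n := 1) (by rw [pow_one, hx5])
  have hN2 : N * N ≠ 0 := fun e => hnt x hx (transvection_of_sq hx1 e)
  have hN3' : N * (N * N) = 0 := by rw [← hN3, pow_succ', pow_two]
  have hN4 : N * N * (N * N) = 0 := by rw [Matrix.mul_assoc, hN3', Matrix.mul_zero]
  have hxe : (x : Matrix (Fin 3) (Fin 3) F) = 1 + N := by rw [hNdef]; abel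
  obtain ⟨a, b, c, hye⟩ := eq_poly_of_commute hN3 hN2 (A := (y : Matrix (Fin 3) (Fin 3) F)) (by
    rw [hNdef, Matrix.mul_sub, Matrix.sub_mul, Matrix.mul_one, Matrix.one_mul, ← Units.val_mul,
      hxy, Units.val_mul])
  -- the form turns `N` into the conjugate of `N² - N`
  obtain ⟨M, hM, hfix⟩ := hf
  set N' := N * N - N with hN'
  have hinv : (x : Matrix (Fin 3) (Fin 3) F) * (1 + N') = 1 := by
    rw [hxe, hN']
    simp only [Matrix.add_mul, Matrix.mul_add, Matrix.mul_sub, Matrix.one_mul, Matrix.mul_one, hN3']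
    abel
  have hN'2 : N' * N' = N * N := by
    rw [hN']
    simp only [Matrix.mul_sub, Matrix.sub_mul, Matrix.mul_assoc, hN3', Matrix.mul_zero, sub_zero,
      zero_sub, neg_neg, sub_neg_eq_add, zero_add]
  have hmap1 : (1 : Matrix (Fin 3) (Fin 3) F).map s = 1 :=
    Matrix.map_one _ (map_zero s) (map_one s)
  have hmadd : ∀ A B : Matrix (Fin 3) (Fin 3) F, (A + B).map s = A.map s + B.map s := fun A B => by
    ext; simp
  have hxM : (x : Matrix (Fin 3) (Fin 3) F)ᵀ * M = M * (1 + N').map s := by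
    calc (x : Matrix (Fin 3) (Fin 3) F)ᵀ * M
        = (x : Matrix (Fin 3) (Fin 3) F)ᵀ * M *
            ((x : Matrix (Fin 3) (Fin 3) F) * (1 + N')).map s := by
          rw [hinv, hmap1, Matrix.mul_one]
      _ = _ := by rw [Matrix.map_mul, ← Matrix.mul_assoc, hfix x hx]
  have hNM : Nᵀ * M = M * N'.map s := by
    rw [hxe, Matrix.transpose_add, Matrix.transpose_one, Matrix.add_mul, Matrix.one_mul, hmadd,
      hmap1, Matrix.mul_add, Matrix.mul_one] at hxM
    exact add_left_cancel hxM
  have hNNM : (N * N)ᵀ * M = M * (N * N).map s := by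
    rw [Matrix.transpose_mul, Matrix.mul_assoc, hNM, ← Matrix.mul_assoc, hNM, Matrix.mul_assoc,
      ← Matrix.map_mul, hN'2]
  have hyM : (y : Matrix (Fin 3) (Fin 3) F)ᵀ * M =
      M * (s a • 1 + s b • N' + s c • (N * N)).map s := by
    have hms : ∀ (k : F) (A : Matrix (Fin 3) (Fin 3) F), (s k • A).map s = k • A.map s :=
      fun k A => by ext; simp [hs.involutive]
    rw [hye, hmadd, hmadd, hms, hms, hms, hmap1]
    simp only [Matrix.transpose_add, Matrix.transpose_smul, Matrix.transpose_one, Matrix.add_mul,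
      Matrix.smul_mul, Matrix.one_mul, hNM, hNNM, Matrix.mul_add, Matrix.mul_smul, Matrix.mul_one]
  have hprod : (s a • 1 + s b • N' + s c • (N * N)) * (y : Matrix (Fin 3) (Fin 3) F) = 1 := by
    have h1 := hfix y hy
    rw [hyM, Matrix.mul_assoc, ← Matrix.map_mul] at h1
    have h2 := (h.form_isUnit hM hfix).mul_left_cancel (h1.trans (Matrix.mul_one M).symm)
    exact Matrix.map_injective s.injective (h2.trans hmap1.symm)
  have hexp : (s a • 1 + s b • N' + s c • (N * N)) * (y : Matrix (Fin 3) (Fin 3) F) - 1 =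
      (s a * a - 1) • 1 + (s a * b - s b * a) • N +
        (s a * c + s b * a - s b * b + s c * a) • (N * N) := by
    rw [hye, hN']
    simp only [Matrix.add_mul, Matrix.mul_add, Matrix.sub_mul, Matrix.smul_mul, Matrix.mul_smul,
      Matrix.one_mul, Matrix.mul_one, Matrix.mul_assoc, hN3', Matrix.mul_zero, smul_zero, sub_zero,
      add_zero, smul_sub]
    module
  obtain ⟨e0, e1, -⟩ := coeff_zero hN3 hN2 (hexp ▸ sub_eq_zero.2 hprod)
  have ha : a ≠ 0 := fun e => by rw [e, mul_zero, zero_sub, neg_eq_zero] at e0; exact one_ne_zero e0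
  -- the ratio lies in the prime field
  have hr : s (b / a) = b / a := by
    rw [map_div₀, div_eq_div_iff ((map_ne_zero s).2 ha) ha]
    linear_combination -e1
  obtain ⟨m, hm⟩ : ∃ m : ℕ, (m : F) = b / a := by
    have h1 : b / a ∈ (ZMod.castHom (m := 5) dvd_rfl F).fieldRange := by
      rw [ZMod.fieldRange_castHom_eq_bot, Subfield.mem_bot_iff_pow_eq_self]
      rw [← hs.apply_eq]; exact hr
    obtain ⟨t, ht⟩ := h1
    exact ⟨t.val, by rw [← ht, ZMod.castHom_apply, ZMod.natCast_val]⟩
  refine ⟨m, (x ^ m)⁻¹ * y, ?_, by group⟩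
  set z := (x ^ m)⁻¹ * y with hz
  have hzP : z ∈ P := mul_mem (inv_mem (pow_mem hx m)) hy
  -- the quotient has no linear part
  have hpw : ∀ n : ℕ, ∃ d : F, ((x ^ n : GL (Fin 3) F) : Matrix (Fin 3) (Fin 3) F) =
      1 + (n : F) • N + d • (N * N) := by
    intro n
    induction n with
    | zero => exact ⟨0, by simp⟩
    | succ n ih =>
      obtain ⟨d, hd⟩ := ih
      refine ⟨d + n, ?_⟩
      rw [pow_succ, Units.val_mul, hd, hxe]
      simp only [Matrix.add_mul, Matrix.mul_add, Matrix.smul_mul, Matrix.one_mul, Matrix.mul_one,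
        Matrix.mul_assoc, hN3', smul_zero]
      push_cast
      module
  obtain ⟨d, hd⟩ := hpw m
  obtain ⟨a', b', c', hze⟩ := eq_poly_of_commute hN3 hN2 (A := (z : Matrix (Fin 3) (Fin 3) F)) (by
    rw [hNdef, Matrix.mul_sub, Matrix.sub_mul, Matrix.mul_one, Matrix.one_mul, ← Units.val_mul,
      ← Units.val_mul]
    congr 1
    congr 1
    rw [hz, mul_assoc, hxy, ← mul_assoc, ← mul_assoc,
      ((Commute.refl x).pow_right m).inv_right.eq])
  have hyz : (y : Matrix (Fin 3) (Fin 3) F) =
      ((x ^ m : GL (Fin 3) F) : Matrix (Fin 3) (Fin 3) F) * z := by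
    rw [← Units.val_mul, hz, mul_inv_cancel_left]
  rw [hd, hze, hye, ← sub_eq_zero] at hyz
  have hexp2 : a • 1 + b • N + c • (N * N) -
      (1 + (m : F) • N + d • (N * N)) * (a' • 1 + b' • N + c' • (N * N)) =
      (a - a') • 1 + (b - b' - (m : F) * a') • N +
        (c - c' - (m : F) * b' - d * a') • (N * N) := by
    simp only [Matrix.add_mul, Matrix.mul_add, Matrix.smul_mul, Matrix.mul_smul, Matrix.one_mul,
      Matrix.mul_one, Matrix.mul_assoc, hN3', Matrix.mul_zero, smul_zero, add_zero]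
    module
  rw [hexp2] at hyz
  obtain ⟨f0, f1, -⟩ := coeff_zero hN3 hN2 hyz
  have hb' : b' = 0 := by
    have : (m : F) * a = b := by rw [hm, div_mul_cancel₀ _ ha]
    rw [← sub_eq_zero.1 f0, this] at f1
    linear_combination -f1
  rw [hb', zero_smul, add_zero] at hze
  -- the cube is a transvection unless it is scalar
  have ha' : a' ^ 3 = 1 := by
    have hd1 : (z : Matrix (Fin 3) (Fin 3) F).det = 1 := by
      have := congrArg Units.val (show Matrix.GeneralLinearGroup.det z = 1 from h.le_sl hzP)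
      simpa using this
    obtain ⟨B, hB⟩ := exists_shift hN3 hN2
    have hJ : ((B⁻¹ : GL (Fin 3) F) : Matrix (Fin 3) (Fin 3) F) * (z : Matrix (Fin 3) (Fin 3) F) *
        (B : Matrix (Fin 3) (Fin 3) F) = !![a', 0, c'; 0, a', 0; 0, 0, a'] := by
      have hNN : ((B⁻¹ : GL (Fin 3) F) : Matrix (Fin 3) (Fin 3) F) * (N * N) *
          (B : Matrix (Fin 3) (Fin 3) F) = !![0, 0, 1; 0, 0, 0; 0, 0, 0] := by
        calc _ = (((B⁻¹ : GL (Fin 3) F) : Matrix (Fin 3) (Fin 3) F) * N *
              (B : Matrix (Fin 3) (Fin 3) F)) * (((B⁻¹ : GL (Fin 3) F) : Matrix (Fin 3) (Fin 3) F) *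
              N * (B : Matrix (Fin 3) (Fin 3) F)) := by
              simp [Matrix.mul_assoc, Units.mul_inv_cancel_left]
          _ = _ := by
              rw [hB]; ext i j
              fin_cases i <;> fin_cases j <;> simp [Matrix.mul_apply, Fin.sum_univ_three]
      rw [hze]
      simp only [Matrix.mul_add, Matrix.add_mul, Matrix.mul_smul, Matrix.smul_mul, Matrix.mul_one,
        Units.inv_mul, hNN]
      ext i j
      fin_cases i <;> fin_cases j <;> simp
    have := congrArg Matrix.det hJ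
    rw [Matrix.det_units_conj', hd1, Matrix.det_fin_three] at this
    simp at this
    linear_combination -this
  have hc' : c' = 0 := by
    have hz3 : ((z ^ 3 : GL (Fin 3) F) : Matrix (Fin 3) (Fin 3) F) - 1 =
        (3 * a' ^ 2 * c') • (N * N) := by
      rw [pow_succ, pow_two, Units.val_mul, Units.val_mul, hze]
      simp only [Matrix.add_mul, Matrix.mul_add, Matrix.smul_mul, Matrix.mul_smul, Matrix.one_mul,
        Matrix.mul_one, hN4, smul_zero, add_zero, zero_add]
      match_scalars <;> first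
        | ring1
        | linear_combination ha'
        | linear_combination -ha'
    by_contra hc'
    refine hnt _ (pow_mem hzP 3) (transvection_of_sq (fun e => ?_) ?_)
    · rw [e, Units.val_one, sub_self, eq_comm, smul_eq_zero] at hz3
      rcases hz3.resolve_right hN2 |> mul_eq_zero.1 with h3 | h3
      · rcases mul_eq_zero.1 h3 with h3 | h3
        · exact one_ne_zero (α := F) (by linear_combination 2 * h3 - h5)
        · rw [pow_eq_zero_iff two_ne_zero] at h3
          rw [h3, zero_pow (by norm_num)] at ha'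
          exact zero_ne_one ha'
      · exact hc' h3
    · rw [hz3, Matrix.smul_mul, Matrix.mul_smul, hN4, smul_zero, smul_zero]
  rw [hc', zero_smul, add_zero] at hze
  exact mem_scalars_of_eq hze

section Transport

variable {σ : F ≃+* F} (hσ : IsUSigma 5 σ)
include hσ

/-- A group preserving a unitary form is conjugate into the standard unitary group. -/
theorem card_quot_dvd {P : Subgroup (GL (Fin 3) F)} (h : Ctx P)
    {f : (Fin 3 → F) → (Fin 3 → F) → F} (hf : IsUnitaryForm σ f)
    (hfix : FixesForm (matrixSet P) f) :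
    Nat.card (P ⧸ (scalars (Fin 3) F).subgroupOf P) ∣ 126000 := by
  classical
  have hH : UCount.IsHermND σ f := by
    refine ⟨hf.add_left, hf.smul_left, fun x y => (hf.herm y x).symm, fun v hv => ?_⟩
    by_contra hne
    obtain ⟨⟨w, hw⟩, -⟩ := hf.nondegenerate v hne
    exact hw (by rw [hf.herm w v, hv w, map_zero])
  obtain ⟨φ, hφ⟩ := Elusive.HermEl.exists_isometry hσ hH (n := 3) (Module.finrank_fin_fun F)
  let A : GL (Fin 3) F :=
    ⟨LinearMap.toMatrix' φ.toLinearMap, LinearMap.toMatrix' φ.symm.toLinearMap,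
      by rw [← LinearMap.toMatrix'_comp]; simp,
      by rw [← LinearMap.toMatrix'_comp]; simp⟩
  have hA : ∀ u, (A : Matrix (Fin 3) (Fin 3) F) *ᵥ u = φ u := fun u =>
    LinearMap.toMatrix'_mulVec _ _
  have hmem : ∀ g ∈ P, A * g * A⁻¹ ∈ suGL 3 F 5 := by
    intro g hg
    refine ⟨mem_GU_iff.mpr fun u v => ?_, ?_⟩
    · obtain ⟨u', rfl⟩ := φ.surjective u
      obtain ⟨v', rfl⟩ := φ.surjective v
      have he : ∀ w, ((A * g * A⁻¹ : GL (Fin 3) F) : Matrix (Fin 3) (Fin 3) F) *ᵥ φ w =
          φ ((g : Matrix (Fin 3) (Fin 3) F) *ᵥ w) := fun w => by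
        rw [← hA, Matrix.mulVec_mulVec, ← Units.val_mul, inv_mul_cancel_right, Units.val_mul,
          ← Matrix.mulVec_mulVec, hA]
      rw [he, he, hφ, hφ]
      exact hfix _ ⟨g, hg, rfl⟩ _ _
    · show Matrix.GeneralLinearGroup.det (A * g * A⁻¹) = 1
      rw [map_mul, map_mul, show Matrix.GeneralLinearGroup.det g = 1 from h.le_sl hg, mul_one,
        map_inv, mul_inv_cancel]
  let ψ : P →* suGL 3 F 5 :=
    ((MulAut.conj A).toMonoidHom.comp P.subtype).codRestrict _ fun g => hmem g g.2
  set Zs := (scalars (Fin 3) F).subgroupOf (suGL 3 F 5) with hZs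
  have hker : ((QuotientGroup.mk' Zs).comp ψ).ker = (scalars (Fin 3) F).subgroupOf P := by
    ext g
    rw [MonoidHom.mem_ker, MonoidHom.comp_apply, QuotientGroup.mk'_apply, QuotientGroup.eq_one_iff,
      Subgroup.mem_subgroupOf, Subgroup.mem_subgroupOf]
    show A * (g : GL (Fin 3) F) * A⁻¹ ∈ scalars (Fin 3) F ↔ _
    constructor
    · intro hg
      have := (inferInstance : (scalars (Fin 3) F).Normal).conj_mem _ hg A⁻¹
      simpa [mul_assoc] using this
    · exact fun hg => (inferInstance : (scalars (Fin 3) F).Normal).conj_mem _ hg A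
  have hdvd : Nat.card (P ⧸ (scalars (Fin 3) F).subgroupOf P) ∣
      Nat.card (suGL 3 F 5 ⧸ Zs) := by
    rw [← Nat.card_congr (QuotientGroup.quotientMulEquivOfEq hker).toEquiv]
    exact Subgroup.card_dvd_of_injective _ (QuotientGroup.kerLift_injective _)
  refine hdvd.trans ?_
  -- the scalars have order divisible by three
  obtain ⟨u, hu⟩ := IsCyclic.exists_generator (α := Fˣ)
  have hu24 : orderOf u = 24 := by
    rw [orderOf_eq_card_of_forall_mem_zpowers hu, Nat.card_units, Nat.card_eq_fintype_card,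
      hσ.card]
    norm_num
  set ω := u ^ 8 with hω
  have hω3 : ω ^ 3 = 1 := by
    rw [hω, ← pow_mul, show 8 * 3 = orderOf u by rw [hu24], pow_orderOf_eq_one]
  have hω1 : ω ≠ 1 := fun e => by
    rw [hω, ← orderOf_dvd_iff_pow_eq_one, hu24] at e; norm_num at e
  set z : GL (Fin 3) F := Units.map (Matrix.scalar (Fin 3) : F →+* _).toMonoidHom ω with hz
  have hzv : (z : Matrix (Fin 3) (Fin 3) F) = (ω : F) • 1 := by
    simp [hz, Matrix.smul_one_eq_diagonal]
  have hzG : z ∈ suGL 3 F 5 := by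
    refine ⟨mem_GU_iff.mpr fun a b => ?_, ?_⟩
    · rw [hzv, Matrix.smul_mulVec, Matrix.smul_mulVec, Matrix.one_mulVec, Matrix.one_mulVec,
        hσ.hermForm_eq, hσ.hermForm_eq]
      refine Finset.sum_congr rfl fun i _ => ?_
      have hn : (ω : F) * σ (ω : F) = 1 := by
        rw [hσ.apply_eq, ← pow_succ', ← Units.val_pow_eq_pow_val, show 5 + 1 = 3 * 2 from rfl,
          pow_mul, hω3, one_pow, Units.val_one]
      simp only [Pi.smul_apply, smul_eq_mul, map_mul]
      linear_combination (a i * σ (b i)) * hn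
    · show Matrix.GeneralLinearGroup.det z = 1
      refine Units.ext ?_
      rw [Matrix.GeneralLinearGroup.val_det_apply, hzv, Matrix.det_smul, Matrix.det_one, mul_one,
        Fintype.card_fin, ← Units.val_pow_eq_pow_val, hω3]
  have h3 : 3 ∣ Nat.card Zs := by
    have hord : orderOf (⟨⟨z, hzG⟩, ⟨ω, rfl⟩⟩ : Zs) = 3 := by
      haveI : Fact (Nat.Prime 3) := ⟨by norm_num⟩
      refine orderOf_eq_prime (Subtype.ext (Subtype.ext ?_)) fun e => hω1 ?_
      · show z ^ 3 = 1
        rw [hz, ← map_pow, hω3, map_one]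
      · have := congrArg (fun w : Zs => (((w : suGL 3 F 5) : GL (Fin 3) F) :
            Matrix (Fin 3) (Fin 3) F) 0 0) e
        simp [hzv] at this
        exact this
    exact hord.symm.dvd.trans (orderOf_dvd_natCard _)
  have htot := Subgroup.card_eq_card_quotient_mul_card_subgroup Zs
  rw [SUThree.card_suGL_five hσ] at htot
  obtain ⟨k, hk⟩ := h3
  refine ⟨k, ?_⟩
  rw [hk] at htot
  linarith

end Transport

theorem sieve : ∀ d ∈ Nat.divisors 5040, 5 ∣ d → Small.OrderSieve.kill d = false →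
    d = 60 ∨ d = 360 ∨ d = 2520 ∨ d = 5040 := by decide +kernel

end UFive

universe u

variable {F : Type u} [Field F] [Fintype F] {P : Subgroup (GL (Fin 3) F)}

/-- With five in the order, no transvections and an invariant form over twenty-five elements, the
simple quotient is `A₅`, `A₆` or `A₇`. -/
theorem u35_cases (h : Ctx P) (hF : Fintype.card F = 25)
    (h5 : 5 ∣ Nat.card (P ⧸ (scalars (Fin 3) F).subgroupOf P))
    (hnt : ∀ x ∈ P, ¬ IsTransvection x) {s : F ≃+* F} (hne : s ≠ RingEquiv.refl F)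
    (hinv : ∀ a, s (s a) = a) (hf : Form P s) :
    Nonempty (P ⧸ (scalars (Fin 3) F).subgroupOf P ≃* alternatingGroup (Fin 5)) ∨
    Nonempty (P ⧸ (scalars (Fin 3) F).subgroupOf P ≃* alternatingGroup (Fin 6)) ∨
    Nonempty (P ⧸ (scalars (Fin 3) F).subgroupOf P ≃* alternatingGroup (Fin 7)) := by
  classical
  haveI := h.simple
  obtain ⟨hs, hchar⟩ := UFive.isUSigma_of_involutive hF hne hinv
  haveI := hchar
  haveI : Fact (Nat.Prime 5) := ⟨by norm_num⟩
  obtain ⟨f, hfu, hffix⟩ := h.unitary_of_form hinv hne hf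
  have hdvd := UFive.card_quot_dvd hs h hfu hffix
  set N := (scalars (Fin 3) F).subgroupOf P with hN
  have h25 : ¬ 5 ^ 2 ∣ Nat.card (P ⧸ N) := by
    intro h25
    obtain ⟨x, hx⟩ := exists_prime_orderOf_dvd_card' (G := P) 5
      (h5.trans (Subgroup.card_quotient_dvd_card N))
    have hx5 : (x : GL (Fin 3) F) ^ 5 = 1 := by
      rw [← Subgroup.coe_pow, ← hx, pow_orderOf_eq_one, Subgroup.coe_one]
    have hx1 : (x : GL (Fin 3) F) ≠ 1 := fun e => by
      have hx' : x = 1 := Subtype.ext e
      rw [hx', orderOf_one] at hx; norm_num at hx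
    set xb : P ⧸ N := QuotientGroup.mk x with hxb
    -- the centraliser in the quotient
    have hcent : ∀ w : P ⧸ N, Commute w xb → w ∈ Subgroup.zpowers xb := by
      intro w hw
      obtain ⟨y, rfl⟩ := QuotientGroup.mk_surjective w
      have hmem : x⁻¹ * (y * x * y⁻¹) ∈ N := by
        rw [← QuotientGroup.eq, QuotientGroup.mk_mul, QuotientGroup.mk_mul, QuotientGroup.mk_inv,
          hw.eq, mul_inv_cancel_right]
      obtain ⟨l, hl⟩ := (mem_scalars_iff _).1 (Subgroup.mem_subgroupOf.1 hmem)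
      set x' := (x : GL (Fin 3) F)
      set y' := (y : GL (Fin 3) F)
      have hyx : ((y' * x' * y'⁻¹ : GL (Fin 3) F) : Matrix (Fin 3) (Fin 3) F) =
          (l : F) • (x' : Matrix (Fin 3) (Fin 3) F) := by
        have e : y' * x' * y'⁻¹ = x' * ((x⁻¹ * (y * x * y⁻¹) : P) : GL (Fin 3) F) := by
          simp [x', y', mul_assoc]
        rw [e, Units.val_mul, hl, Matrix.mul_smul, Matrix.mul_one]
      have hl5 : (l : F) ^ 5 = 1 := by
        have e := congrArg (fun M : Matrix (Fin 3) (Fin 3) F => M ^ 5) hyx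
        simp only [← Units.val_pow_eq_pow_val, conj_pow, hx5, mul_one, mul_inv_cancel, smul_pow,
          Units.val_one] at e
        have e' := congrFun (congrFun e 0) 0
        simpa using e'.symm
      have hl1 : (l : F) = 1 := by
        have : ((l : F) - 1) ^ 5 = 0 := by rw [sub_pow_char, one_pow, hl5, sub_self]
        exact sub_eq_zero.1 (pow_eq_zero_iff (by norm_num) |>.1 this)
      rw [hl1, one_smul, Units.val_inj, mul_inv_eq_iff_eq_mul] at hyx
      obtain ⟨m, z, hz, hyz⟩ := UFive.centralizer_five h hnt hs hf x.2 hx5 hx1 y.2 hyx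
      refine ⟨m, ?_⟩
      show xb ^ (m : ℤ) = _
      rw [zpow_natCast, hxb, ← QuotientGroup.mk_pow, QuotientGroup.eq, Subgroup.mem_subgroupOf]
      rw [Subgroup.coe_mul, Subgroup.coe_inv, Subgroup.coe_pow]
      show ((x : GL (Fin 3) F) ^ m)⁻¹ * (y : GL (Fin 3) F) ∈ _
      rw [hyz, inv_mul_cancel_left]
      exact hz
    have hxb1 : xb ≠ 1 := fun e => by
      rw [hxb, QuotientGroup.eq_one_iff, Subgroup.mem_subgroupOf, mem_scalars_iff] at e
      obtain ⟨l, hl⟩ := e
      have e5 := congrArg (fun M : Matrix (Fin 3) (Fin 3) F => M ^ 5) hl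
      simp only [← Units.val_pow_eq_pow_val, hx5, smul_pow, one_pow, Units.val_one] at e5
      have e' := congrFun (congrFun e5 0) 0
      simp at e'
      have : ((l : F) - 1) ^ 5 = 0 := by rw [sub_pow_char, one_pow, ← e', sub_self]
      rw [sub_eq_zero.1 (pow_eq_zero_iff (by norm_num) |>.1 this), one_smul] at hl
      exact hx1 (Units.ext (by rw [hl, Units.val_one]))
    have hxord : orderOf xb = 5 := orderOf_eq_prime
      (by rw [hxb, ← QuotientGroup.mk_pow, ← hx, pow_orderOf_eq_one, QuotientGroup.mk_one]) hxb1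
    obtain ⟨S, hS⟩ := (IsPGroup.of_card (p := 5) (n := 1)
      (by rw [Nat.card_zpowers, hxord, pow_one] :
        Nat.card (Subgroup.zpowers xb) = 5 ^ 1)).exists_le_sylow
    have hScard : 5 ^ 2 ∣ Nat.card S := S.pow_dvd_card_of_pow_dvd_card h25
    haveI : Nontrivial (S : Subgroup (P ⧸ N)) := Finite.one_lt_card_iff_nontrivial.1 (by
      have := Nat.le_of_dvd Nat.card_pos hScard; omega)
    haveI := S.2.center_nontrivial
    obtain ⟨⟨c, hc⟩, hc1⟩ := exists_ne (1 : Subgroup.center (S : Subgroup (P ⧸ N)))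
    have hxS : xb ∈ (S : Subgroup (P ⧸ N)) := hS (Subgroup.mem_zpowers xb)
    have hcx : Commute (c : P ⧸ N) xb :=
      (congrArg Subtype.val (Subgroup.mem_center_iff.1 hc ⟨xb, hxS⟩)).symm
    have hcmem := hcent _ hcx
    have hceq : Subgroup.zpowers (c : P ⧸ N) = Subgroup.zpowers xb := by
      refine Subgroup.eq_of_le_of_card_ge (Subgroup.zpowers_le.2 hcmem) ?_
      rw [Nat.card_zpowers, Nat.card_zpowers, hxord]
      have h1 : orderOf (c : P ⧸ N) ∣ 5 := (orderOf_dvd_of_mem_zpowers hcmem).trans hxord.dvd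
      rcases (Nat.dvd_prime (by norm_num)).1 h1 with h1 | h1
      · exact absurd (orderOf_eq_one_iff.1 h1) fun e => hc1 (Subtype.ext (Subtype.ext e))
      · exact h1.ge
    have hSle : (S : Subgroup (P ⧸ N)) ≤ Subgroup.zpowers xb := fun w hw => by
      refine hcent w ?_
      have hxc : xb ∈ Subgroup.zpowers (c : P ⧸ N) := by rw [hceq]; exact Subgroup.mem_zpowers xb
      obtain ⟨i, hi⟩ := hxc
      have : Commute w (c : P ⧸ N) := congrArg Subtype.val (Subgroup.mem_center_iff.1 hc ⟨w, hw⟩)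
      rw [← hi]
      exact this.zpow_right i
    have := Subgroup.card_dvd_of_le hSle
    rw [Nat.card_zpowers, hxord] at this
    exact absurd (hScard.trans this) (by norm_num)
  have hd : Nat.card (P ⧸ N) ∣ 5040 := by
    obtain ⟨k, hk⟩ := h5
    rw [hk] at hdvd h25 ⊢
    have hk5 : ¬ 5 ∣ k := fun hd => h25 (by rw [pow_two]; exact Nat.mul_dvd_mul_left 5 hd)
    have hk' : k ∣ 5 * 5 * 1008 := Nat.dvd_of_mul_dvd_mul_left (by norm_num : 0 < 5) (by
      simpa using hdvd)
    have hco : Nat.Coprime k 5 := ((Nat.Prime.coprime_iff_not_dvd (by norm_num)).2 hk5).symm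
    exact Nat.mul_dvd_mul_left 5 ((hco.mul_right hco).dvd_of_dvd_mul_left hk')
  have hle : Nat.card (P ⧸ N) < 6400 := lt_of_le_of_lt (Nat.le_of_dvd (by norm_num) hd) (by norm_num)
  rcases UFive.sieve _ (Nat.mem_divisors.2 ⟨hd, by norm_num⟩) h5
      (Small.OrderSieve.kill_eq_false h.nonabelian hle) with e | e | e | e
  · exact Or.inl (S0494.result e)
  · exact Or.inr (Or.inl (S0497.result e))
  · exact Or.inr (Or.inr (S0984.result e))
  · exact absurd e Small.OrderFiftyForty.card_ne_5040

end Cfsg.Agent.PThree
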