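import Cfsg.Agent.Lib.Classical.PThree.WildForm
import Cfsg.Agent.S3331

/-!
# Perfect irreducible groups of odd characteristic dividing the order, without transvections

Such a group is realised over a proper subfield, fixes a bilinear form, is `Alt 5` or `PSL(2,7)` modulo
scalars in characteristic `3`, or fixes a unitary form over the field with `25` elements.
-/

set_option autoImplicit false
set_option linter.unusedSectionVars false
set_option linter.style.haveILetI false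

namespace Cfsg.Agent.PThree

open Matrix Cfsg Cfsg.Geo
open scoped MatrixGroups commutatorElement

variable {F : Type*} [Field F] [Fintype F] {P : Subgroup (GL (Fin 3) F)}

local notation:max "↥M" g:max => Units.val (Subtype.val g)

/-- A subgroup and its conjugate. -/
noncomputable def conjEquiv (B : GL (Fin 3) F) (P : Subgroup (GL (Fin 3) F)) : P ≃* conjP B P :=
  P.equivMapOfInjective _ (MulAut.conj B⁻¹).injective

theorem conjEquiv_val (B : GL (Fin 3) F) (g : P) :
    ((conjEquiv B P g : conjP B P) : GL (Fin 3) F) = B⁻¹ * g * B := by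
  show B⁻¹ * (g : GL (Fin 3) F) * B⁻¹⁻¹ = _
  rw [inv_inv]

theorem conjP_conjP (B g : GL (Fin 3) F) : conjP g (conjP B P) = conjP (B * g) P := by
  ext x
  simp only [mem_conjP, _root_.mul_inv_rev, mul_assoc]

theorem perfect_conjP (B : GL (Fin 3) F) (h : ⁅P, P⁆ = P) : ⁅conjP B P, conjP B P⁆ = conjP B P := by
  rw [conjP, ← Subgroup.map_commutator, h]

theorem sl_conjP (B : GL (Fin 3) F) (h : P ≤ specialLinear (Fin 3) F) :
    conjP B P ≤ specialLinear (Fin 3) F := by
  rintro _ ⟨x, hx, rfl⟩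
  show Matrix.GeneralLinearGroup.det (B⁻¹ * x * B⁻¹⁻¹) = 1
  rw [map_mul, map_mul, show Matrix.GeneralLinearGroup.det x = 1 from h hx, mul_one, ← map_mul,
    mul_inv_cancel, map_one]

theorem irred_conjP (B : GL (Fin 3) F) (h : ActsIrreducibly (matrixSet P))
    (W : Submodule F (Fin 3 → F)) (hW : ∀ g : conjP B P, ∀ w ∈ W, ↥M g *ᵥ w ∈ W) :
    W = ⊥ ∨ W = ⊤ := by
  let W₀ := W.comap (Matrix.toLin' ((B⁻¹ : GL (Fin 3) F) : Matrix (Fin 3) (Fin 3) F))
  have hW₀ : W₀ = ⊥ ∨ W₀ = ⊤ := by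
    refine h W₀ ?_
    rintro _ ⟨x, hx, rfl⟩ _ ⟨w, hw, rfl⟩
    simp only [W₀, SetLike.mem_coe, Submodule.mem_comap, Matrix.toLin'_apply] at hw ⊢
    have h1 := hW (conjEquiv B P ⟨x, hx⟩) _ hw
    rw [conjEquiv_val, Units.val_mul, Units.val_mul, Matrix.mulVec_mulVec, Matrix.mul_assoc,
      Units.mul_inv, Matrix.mul_one, ← Matrix.mulVec_mulVec] at h1
    exact h1
  have hs : Function.Surjective (Matrix.toLin' ((B⁻¹ : GL (Fin 3) F) : Matrix (Fin 3) (Fin 3) F)) :=
    fun w => ⟨(B : Matrix (Fin 3) (Fin 3) F) *ᵥ w, by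
      rw [Matrix.toLin'_apply, Matrix.mulVec_mulVec, Units.inv_mul, Matrix.one_mulVec]⟩
  rcases hW₀ with e | e
  · refine Or.inl ((Submodule.eq_bot_iff _).2 fun w hw => ?_)
    obtain ⟨v, rfl⟩ := hs w
    have hv : v ∈ W₀ := hw
    rw [e, Submodule.mem_bot] at hv
    rw [hv, map_zero]
  · refine Or.inr (eq_top_iff.2 fun w _ => ?_)
    obtain ⟨v, rfl⟩ := hs w
    exact (show v ∈ W₀ from e ▸ trivial)

theorem form_of_conj (B : GL (Fin 3) F) {σ : F ≃+* F} (h : Form (conjP B P) σ) : Form P σ := by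
  obtain ⟨M, hM, hfix⟩ := h
  set Bi := ((B⁻¹ : GL (Fin 3) F) : Matrix (Fin 3) (Fin 3) F) with hBi
  set Bm := (B : Matrix (Fin 3) (Fin 3) F) with hBm
  have h1 : Bm * Bi = 1 := B.mul_inv
  have h2 : Bi * Bm = 1 := B.inv_mul
  have h1σ : Bm.map σ * Bi.map σ = 1 := by rw [← Matrix.map_mul, h1]; simp
  have h2σ : Bi.map σ * Bm.map σ = 1 := by rw [← Matrix.map_mul, h2]; simp
  refine ⟨Biᵀ * M * Bi.map σ, fun e => hM ?_, fun x hx => ?_⟩
  · have e' : Bmᵀ * (Biᵀ * M * Bi.map σ) * Bm.map σ = 0 := by rw [e, Matrix.mul_zero, Matrix.zero_mul]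
    rw [Matrix.mul_assoc Biᵀ, ← Matrix.mul_assoc Bmᵀ, ← Matrix.transpose_mul, h2, Matrix.transpose_one,
      Matrix.one_mul, Matrix.mul_assoc, h2σ, Matrix.mul_one] at e'
    exact e'
  · have hf := hfix _ (conjEquiv B P ⟨x, hx⟩).2
    rw [conjEquiv_val, Units.val_mul, Units.val_mul] at hf
    simp only [← hBi, ← hBm, Matrix.map_mul, Matrix.transpose_mul] at hf
    calc (x : Matrix (Fin 3) (Fin 3) F)ᵀ * (Biᵀ * M * Bi.map σ) * (x : Matrix (Fin 3) (Fin 3) F).map σ
        = (Biᵀ * Bmᵀ) * ((x : Matrix (Fin 3) (Fin 3) F)ᵀ * (Biᵀ * M * Bi.map σ) *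
            (x : Matrix (Fin 3) (Fin 3) F).map σ) * (Bm.map σ * Bi.map σ) := by
          rw [← Matrix.transpose_mul, h1, h1σ, Matrix.transpose_one, Matrix.one_mul, Matrix.mul_one]
      _ = Biᵀ * M * Bi.map σ := by
          conv_rhs => rw [← hf]
          simp only [Matrix.mul_assoc]

variable {p k : ℕ} [Fact p.Prime] [CharP F p]

/-- A triangular change of basis. -/
theorem Shape.conj_upper (sh : Shape p P k) (g : GL (Fin 3) F)
    (hg : IsUpper (g : Matrix (Fin 3) (Fin 3) F)) (e' b' : (Fin k → ZMod p) →+ F)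
    (inj : Function.Injective e')
    (hconj : ∀ x, expU (sh.e x) (sh.b x) * (g : Matrix (Fin 3) (Fin 3) F) =
      (g : Matrix (Fin 3) (Fin 3) F) * expU (e' x) (b' x)) :
    ∃ sh' : Shape p (conjP g P) k, sh'.e = e' ∧ sh'.b = b' := by
  obtain ⟨hgi, hd⟩ := upper_inv hg
  have hval : ∀ x, ((g⁻¹ : GL (Fin 3) F) : Matrix (Fin 3) (Fin 3) F) * expU (sh.e x) (sh.b x) *
      (g : Matrix (Fin 3) (Fin 3) F) = expU (e' x) (b' x) := fun x => by
    rw [Matrix.mul_assoc, hconj, ← Matrix.mul_assoc, Units.inv_mul, Matrix.one_mul]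
  have huni : ∀ x : P, conjEquiv g P x ∈ uniU (conjP g P) ↔ x ∈ uniU P := by
    intro x
    show IsUnitri _ ↔ IsUnitri _
    rw [conjEquiv_val, Units.val_mul, Units.val_mul]
    constructor <;> intro hx
    · obtain ⟨h1, d1⟩ := isUpper_mul hg hx.1
      obtain ⟨h2, d2⟩ := isUpper_mul h1 hgi
      rw [show (g : Matrix (Fin 3) (Fin 3) F) *
        (((g⁻¹ : GL (Fin 3) F) : Matrix (Fin 3) (Fin 3) F) * ((x : GL (Fin 3) F) : Matrix (Fin 3) (Fin 3) F) *
          (g : Matrix (Fin 3) (Fin 3) F)) * ((g⁻¹ : GL (Fin 3) F) : Matrix (Fin 3) (Fin 3) F) =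
          ((x : GL (Fin 3) F) : Matrix (Fin 3) (Fin 3) F) by
        rw [← Matrix.mul_assoc, ← Matrix.mul_assoc, Units.mul_inv, Matrix.one_mul, Matrix.mul_assoc,
          Units.mul_inv, Matrix.mul_one]] at h2 d2
      exact ⟨h2, by rw [d2, d1, hx.2.1, mul_one, mul_comm, hd],
        by rw [d2, d1, hx.2.2.1, mul_one, mul_comm, hd],
        by rw [d2, d1, hx.2.2.2, mul_one, mul_comm, hd]⟩
    · obtain ⟨h1, d1⟩ := isUpper_mul hgi hx.1
      obtain ⟨h2, d2⟩ := isUpper_mul h1 hg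
      exact ⟨h2, by rw [d2, d1, hx.2.1, mul_one, hd], by rw [d2, d1, hx.2.2.1, mul_one, hd],
        by rw [d2, d1, hx.2.2.2, mul_one, hd]⟩
  refine ⟨⟨e', b', inj, fun x => ?_, fun y hy hu => ?_, ?_, sh.pos⟩, rfl, rfl⟩
  · obtain ⟨z, hz, he⟩ := sh.mem x
    refine ⟨_, (conjEquiv g P ⟨z, hz⟩).2, ?_⟩
    rw [conjEquiv_val, Units.val_mul, Units.val_mul, he, hval]
  · obtain ⟨z, hz⟩ := (conjEquiv g P).surjective ⟨y, hy⟩
    have hzu : z ∈ uniU P := (huni z).1 (by rw [hz]; exact hu)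
    obtain ⟨x, hx⟩ := sh.onto z z.2 hzu
    refine ⟨x, ?_⟩
    rw [← show ((conjEquiv g P z : conjP g P) : GL (Fin 3) F) = y from congrArg Subtype.val hz,
      conjEquiv_val, Units.val_mul, Units.val_mul, hx, hval]
  · rw [← Subgroup.index_comap_of_surjective (uniU (conjP g P)) (f := (conjEquiv g P).toMonoidHom)
      (conjEquiv g P).surjective]
    rw [show (uniU (conjP g P)).comap (conjEquiv g P).toMonoidHom = uniU P from Subgroup.ext huni]
    exact sh.index

/-- The normalised shape. -/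
theorem exists_normal_shape (h : Ctx P) (hp2 : p ≠ 2) (hdvd : p ∣ Nat.card P)
    (hnt : ∀ x ∈ P, ¬ IsTransvection x) :
    ∃ (B : GL (Fin 3) F) (k : ℕ) (sh : Shape p (conjP B P) k),
      (∀ x, sh.b x = 0) ∧ (k = 1 → ∀ x, sh.e x ^ p = sh.e x) := by
  obtain ⟨B, k, ⟨sh⟩⟩ := exists_shape P hp2 hdvd hnt
  obtain ⟨δ, hδ⟩ := sh.prop_of_irred hp2 (sl_conjP B h.le_sl) (irred_conjP B h.absIrred.1)
  obtain ⟨c, hc0, hc⟩ : ∃ c : F, c ≠ 0 ∧ (k = 1 → ∀ x, (c * sh.e x) ^ p = c * sh.e x) := by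
    by_cases hk : k = 1
    · subst hk
      have hne : sh.e (fun _ : Fin 1 => (1 : ZMod p)) ≠ 0 := fun e =>
        one_ne_zero (congrFun (sh.inj (e.trans (map_zero sh.e).symm)) 0)
      refine ⟨(sh.e fun _ => 1)⁻¹, inv_ne_zero hne, fun _ x => ?_⟩
      have hx : x = (x 0).val • (fun _ => (1 : ZMod p)) := by
        funext i
        rw [Subsingleton.elim i 0]
        simp
      rw [hx, map_nsmul, nsmul_eq_mul, mul_comm ((x 0).val : F), ← mul_assoc, inv_mul_cancel₀ hne,
        one_mul, ← frobenius_def, map_natCast]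
    · exact ⟨1, one_ne_zero, fun e => absurd e hk⟩
  let G : GL (Fin 3) F := Matrix.GeneralLinearGroup.mkOfDetNeZero !![1, δ * c, 0; 0, c, 0; 0, 0, c * c] (by
    simp [Matrix.det_fin_three, hc0])
  have hG : (G : Matrix (Fin 3) (Fin 3) F) = !![1, δ * c, 0; 0, c, 0; 0, 0, c * c] := rfl
  have h2 : (2 : F) ≠ 0 := two_ne_zero_of_odd hp2 Fact.out
  obtain ⟨sh', he, hb⟩ := sh.conj_upper G (by rw [hG]; simp [IsUpper]) ((AddMonoidHom.mulLeft c).comp sh.e) 0
    (fun x y hxy => sh.inj (mul_left_cancel₀ hc0 hxy)) fun x => by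
      rw [hG, hδ]
      ext i j
      fin_cases i <;> fin_cases j <;> simp [expU, Matrix.mul_apply, Fin.sum_univ_three] <;>
        field_simp <;> ring
  refine ⟨B * G, k, ?_⟩
  rw [← conjP_conjP]
  exact ⟨sh', fun x => by rw [hb]; rfl, fun hk x => by rw [he]; exact hc hk x⟩

/-- Homomorphisms of a perfect group to abelian groups are trivial. -/
theorem perfect_hom_trivial {A : Type*} [CommGroup A] (hperf : ⁅P, P⁆ = P) (φ : P →* A) (g : P) :
    φ g = 1 := by
  have hle : P ≤ φ.ker.map P.subtype := by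
    conv_lhs => rw [← hperf]
    refine Subgroup.commutator_le.2 fun a ha b hb => ⟨⁅(⟨a, ha⟩ : P), (⟨b, hb⟩ : P)⁆, ?_, rfl⟩
    show φ _ = 1
    rw [map_commutatorElement, commutatorElement_eq_one_iff_mul_comm, mul_comm]
  obtain ⟨g', hg', e⟩ := hle g.2
  rw [← Subtype.ext (show (g' : GL (Fin 3) F) = g from e)]
  exact hg'

/-- Groups with a self-centralising Sylow subgroup of order three. -/
theorem Shape.concl_three [CharP F 3] (sh : Shape 3 P 1) (hperf : ⁅P, P⁆ = P)
    (hsl : P ≤ specialLinear (Fin 3) F) [IsSimpleGroup P] (hb : ∀ x, sh.b x = 0) :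
    Nonempty (P ≃* alternatingGroup (Fin 5)) ∨
      Nonempty (P ≃* Matrix.ProjectiveSpecialLinearGroup (Fin 2) (ZMod 7)) := by
  classical
  haveI : Fact (Nat.Prime 3) := ⟨Nat.prime_three⟩
  have hX : Nat.card (uniU P) = 3 := by rw [sh.card_uniU, pow_one]
  have hC : Subgroup.centralizer ((uniU P : Subgroup P) : Set P) = uniU P := by
    refine le_antisymm (fun g hg => ?_) ?_
    · obtain ⟨x, hx⟩ := sh.exists_nonzero
      have ha : sh.e x ≠ 0 := fun e => hx (sh.inj (e.trans (map_zero _).symm))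
      have hk := congrArg (fun z : P => ↥M z) (Subgroup.mem_centralizer_iff.1 hg _ (sh.el_mem x))
      simp only [Subgroup.coe_mul, Units.val_mul, Shape.el_val] at hk
      obtain ⟨hu, e1, e2⟩ := upper_of_conj ha ha hk.symm
      have d1 := mul_right_cancel₀ ha e1
      have d2 := mul_right_cancel₀ ha e2
      have hdet := Shape.det_upper hsl (r := g) hu
      rw [d1, d2] at hdet
      have hz : (↥M g 2 2 - 1) ^ 3 = 0 := by
        rw [sub_pow_char, one_pow, sub_eq_zero]
        linear_combination hdet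
      have hd : ↥M g 2 2 = 1 := sub_eq_zero.1 (pow_eq_zero_iff three_ne_zero |>.1 hz)
      exact ⟨hu, by rw [d1, d2, hd], by rw [d2, hd], hd⟩
    · intro u hu
      rw [Subgroup.mem_centralizer_iff]
      intro v hv
      obtain ⟨x, rfl⟩ := sh.exists_el hu
      obtain ⟨y, rfl⟩ := sh.exists_el hv
      have h2 : (2 : F) ≠ 0 := two_ne_zero_of_odd (p := 3) (by norm_num) Nat.prime_three
      refine Subtype.ext (Units.ext ?_)
      simp only [Subgroup.coe_mul, Units.val_mul, Shape.el_val, expU_mul h2]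
      rw [add_comm (sh.e x), add_comm (sh.b x)]
  rcases Cfsg.Agent.S3331.result (uniU P) hX hC with ⟨N, hN, -, -, hq⟩ | ⟨N, hN, -, -, ⟨eq⟩⟩ | hq
  · exfalso
    rcases hq with h3 | ⟨⟨eS⟩⟩
    · haveI := hN
      haveI : IsCyclic (P ⧸ N) := isCyclic_of_prime_card h3
      letI : CommGroup (P ⧸ N) := IsCyclic.commGroup
      haveI : Subsingleton (P ⧸ N) := ⟨fun x y => by
        obtain ⟨a, rfl⟩ := QuotientGroup.mk'_surjective N x
        obtain ⟨b, rfl⟩ := QuotientGroup.mk'_surjective N y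
        rw [perfect_hom_trivial hperf (QuotientGroup.mk' N) a,
          perfect_hom_trivial hperf (QuotientGroup.mk' N) b]⟩
      rw [Nat.card_unique] at h3
      omega
    · let φ : P →* ℤˣ := Equiv.Perm.sign.comp (eS.toMonoidHom.comp (QuotientGroup.mk' N))
      obtain ⟨z, hz⟩ := QuotientGroup.mk'_surjective N (eS.symm (Equiv.swap 0 1))
      have h := perfect_hom_trivial hperf φ z
      simp only [φ, MonoidHom.comp_apply, hz, MulEquiv.coe_toMonoidHom, MulEquiv.apply_symm_apply,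
        Equiv.Perm.sign_swap (show (0 : Fin 3) ≠ 1 by decide)] at h
      exact absurd h (by decide)
  · refine Or.inl ⟨?_⟩
    have hbot : N = ⊥ := by
      rcases hN.eq_bot_or_eq_top with h | h
      · exact h
      · exfalso
        subst h
        haveI := QuotientGroup.subsingleton_quotient_top (G := P)
        have h60 := Nat.card_congr eq.toEquiv
        rw [Nat.card_unique] at h60
        have := Nat.card_eq_fintype_card (α := alternatingGroup (Fin 5))
        have h60' : Fintype.card (alternatingGroup (Fin 5)) = 60 := by decide +kernel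
        omega
    exact (QuotientGroup.quotientBot.symm.trans (QuotientGroup.quotientMulEquivOfEq hbot.symm)).trans eq
  · exact Or.inr hq

/-- The wild case. -/
theorem wild (h : Ctx P) (h2 : (2 : F) ≠ 0) (p : ℕ) [Fact p.Prime] [CharP F p]
    (hdvd : p ∣ Nat.card (P ⧸ (scalars (Fin 3) F).subgroupOf P))
    (hnt : ∀ x ∈ P, ¬ IsTransvection x) :
    (∃ τ : F ≃+* F, τ ≠ RingEquiv.refl F ∧ Twist P τ) ∨ Form P (RingEquiv.refl F) ∨
    (p = 3 ∧ (Nonempty ((P ⧸ (scalars (Fin 3) F).subgroupOf P) ≃* alternatingGroup (Fin 5)) ∨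
      Nonempty ((P ⧸ (scalars (Fin 3) F).subgroupOf P) ≃*
        Matrix.ProjectiveSpecialLinearGroup (Fin 2) (ZMod 7)))) ∨
    (p = 5 ∧ Fintype.card F = 25 ∧
      ∃ σ : F ≃+* F, σ ≠ RingEquiv.refl F ∧ (∀ a, σ (σ a) = a) ∧ Form P σ) := by
  classical
  have hp : p.Prime := Fact.out
  have hp2 : p ≠ 2 := by
    rintro rfl
    exact h2 (by exact_mod_cast CharP.cast_eq_zero F 2)
  obtain ⟨B, k, sh, hb, hk1⟩ := exists_normal_shape h hp2
    (hdvd.trans (Subgroup.card_quotient_dvd_card _)) hnt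
  have hperf' := perfect_conjP B h.perfect
  have hsl' := sl_conjP B h.le_sl
  have hpos := sh.pos
  have hdiag : ∀ g : conjP B P, IsUpper (↥M g) → ∃ s, s ≠ 0 ∧ ↥M g 1 1 = s * ↥M g 2 2 ∧
      ↥M g 0 0 = s * s * ↥M g 2 2 ∧ ↥M g 1 1 ^ 3 = 1 ∧ (∀ x, ∃ x', sh.e x' = s * sh.e x) := by
    intro g hg
    obtain ⟨s, μ, hs, e1, e0, hr⟩ := sh.upper_rel h2 hg
    refine ⟨s, hs, e1, e0, ?_, fun x => ⟨_, (hr x).choose_spec.1⟩⟩
    have hd := Shape.det_upper hsl' hg
    rw [e0, e1] at hd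
    rw [e1]
    linear_combination hd
  by_cases h3 : p = 3
  · subst h3
    by_cases hk : k = 1
    · subst hk
      refine Or.inr (Or.inr (Or.inl ⟨rfl, ?_⟩))
      haveI := h.simple
      have hN : (scalars (Fin 3) F).subgroupOf P = ⊥ := by
        refine (Subgroup.eq_bot_iff_forall _).2 fun x hx => ?_
        obtain ⟨c, hc⟩ := (mem_scalars_iff _).1 (Subgroup.mem_subgroupOf.1 hx)
        have hd := congrArg Units.val
          (show Matrix.GeneralLinearGroup.det (x : GL (Fin 3) F) = 1 from h.le_sl x.2)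
        rw [Matrix.GeneralLinearGroup.val_det_apply, hc, Matrix.det_smul, Fintype.card_fin,
          Matrix.det_one, mul_one, Units.val_one] at hd
        have hz : ((c : F) - 1) ^ 3 = 0 := by rw [sub_pow_char, hd, one_pow, sub_self]
        refine Subtype.ext (Units.ext ?_)
        rw [hc, sub_eq_zero.1 (pow_eq_zero_iff three_ne_zero |>.1 hz), one_smul]
        rfl
      let eQ : (P ⧸ (scalars (Fin 3) F).subgroupOf P) ≃* conjP B P :=
        ((QuotientGroup.quotientMulEquivOfEq hN).trans QuotientGroup.quotientBot).trans (conjEquiv B P)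
      haveI : IsSimpleGroup (conjP B P) :=
        haveI : Nontrivial (conjP B P) := eQ.symm.toEquiv.nontrivial
        IsSimpleGroup.isSimpleGroup_of_surjective eQ.toMonoidHom eQ.surjective
      rcases sh.concl_three hperf' hsl' hb with ⟨⟨e⟩⟩ | ⟨⟨e⟩⟩
      · exact Or.inl ⟨eQ.trans e⟩
      · exact Or.inr ⟨eQ.trans e⟩
    · refine Or.inr (Or.inl (form_of_conj B (sh.form_small hp2 hb _ (fun _ => rfl) (by omega) ?_)))
      intro g hg
      obtain ⟨s, -, e1, e0, hc, -⟩ := hdiag g hg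
      have hz : (↥M g 1 1 - 1) ^ 3 = 0 := by rw [sub_pow_char, hc, one_pow, sub_self]
      have hc1 := sub_eq_zero.1 (pow_eq_zero_iff three_ne_zero |>.1 hz)
      rw [e1] at hc1
      show ↥M g 0 0 * ↥M g 2 2 = 1
      rw [e0]
      linear_combination (s * ↥M g 2 2 + 1) * hc1
  by_cases h51 : p = 5 ∧ k = 1
  · obtain ⟨rfl, rfl⟩ := h51
    set σ := frobeniusEquiv F 5
    have hσ : ∀ a, σ a = a ^ 5 := fun a => frobenius_def 5 a
    have hform : Form P σ := by
      refine form_of_conj B (sh.form_small hp2 hb σ (fun x => by rw [hσ]; exact hk1 rfl x) (by omega) ?_)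
      intro g hg
      obtain ⟨s, hs, e1, e0, hc, hx⟩ := hdiag g hg
      obtain ⟨x₀, hx₀⟩ := sh.exists_nonzero
      obtain ⟨x₁, hx₁⟩ := hx x₀
      have hs5 : s ^ 5 = s := by
        have h := hk1 rfl x₁
        rw [hx₁, mul_pow, hk1 rfl x₀] at h
        exact mul_right_cancel₀ (fun e => hx₀ (sh.inj (e.trans (map_zero _).symm))) h
      have hs4 : s ^ 4 = 1 := mul_right_cancel₀ hs (by rw [← pow_succ, one_mul, hs5])
      rw [hσ, e0]
      rw [e1] at hc
      calc s * s * ↥M g 2 2 * ↥M g 2 2 ^ 5 = s ^ 2 * ↥M g 2 2 ^ 6 * s ^ 4 := by rw [hs4]; ring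
        _ = ((s * ↥M g 2 2) ^ 3) ^ 2 := by ring
        _ = 1 := by rw [hc, one_pow]
    by_cases hσ1 : σ = RingEquiv.refl F
    · rw [hσ1] at hform
      exact Or.inr (Or.inl hform)
    by_cases hinv : ∀ a, σ (σ a) = a
    · refine Or.inr (Or.inr (Or.inr ⟨rfl, ?_, σ, hσ1, hinv, hform⟩))
      obtain ⟨n, -, hn⟩ := FiniteField.card F 5
      obtain ⟨a, ha⟩ := IsCyclic.exists_generator (α := Fˣ)
      have h24 : a ^ 24 = 1 := by
        have h := hinv (a : F)
        rw [hσ, hσ, ← pow_mul] at h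
        refine Units.ext (mul_right_cancel₀ a.ne_zero ?_)
        rw [Units.val_pow_eq_pow_val, Units.val_one, one_mul, ← pow_succ]
        exact h
      have hord := orderOf_le_of_pow_eq_one (by norm_num) h24
      rw [orderOf_eq_card_of_forall_mem_zpowers ha, Nat.card_eq_fintype_card, Fintype.card_units, hn] at hord
      have hn2 : (n : ℕ) ≤ 2 := by
        by_contra h'
        have := Nat.pow_le_pow_right (show 5 > 0 by norm_num) (show 3 ≤ (n : ℕ) by omega)
        omega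
      have hn1 : (n : ℕ) ≠ 1 := fun h' => hσ1 (RingEquiv.ext fun z => by
        have h := FiniteField.pow_card z
        rw [hn, h', pow_one] at h
        rw [hσ]
        exact h)
      have := n.pos
      rw [hn, show (n : ℕ) = 2 by omega]
      norm_num
    · refine Or.inl ⟨σ.trans σ, fun e => hinv fun a => RingEquiv.congr_fun e a, ?_⟩
      obtain ⟨M, hM, hfix⟩ := hform
      obtain ⟨u, hu⟩ := h.form_isUnit hM hfix
      set C := ((u⁻¹ : (Matrix (Fin 3) (Fin 3) F)ˣ) : Matrix (Fin 3) (Fin 3) F)ᵀ * M.map σ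
      have hMC : Mᵀ * C = M.map σ := by
        rw [← Matrix.mul_assoc, ← Matrix.transpose_mul, ← hu, Units.inv_mul, Matrix.transpose_one,
          Matrix.one_mul]
      have hMu : IsUnit Mᵀ := (Matrix.isUnit_iff_isUnit_det _).mpr (by
        rw [Matrix.det_transpose]; exact (Matrix.isUnit_iff_isUnit_det _).mp (hu ▸ u.isUnit))
      have hMσ : IsUnit (M.map σ) := (hu ▸ u.isUnit).map (RingHom.mapMatrix (σ : F →+* F))
      have hC : IsUnit C := by
        have hdet := congrArg Matrix.det hMC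
        rw [Matrix.det_mul] at hdet
        refine (Matrix.isUnit_iff_isUnit_det _).mpr (isUnit_iff_ne_zero.2 fun e => ?_)
        rw [e, mul_zero] at hdet
        exact ((Matrix.isUnit_iff_isUnit_det _).mp hMσ).ne_zero hdet.symm
      refine ⟨C, hC, fun x hx => ?_⟩
      set X := (x : Matrix (Fin 3) (Fin 3) F) with hXdef
      set X' := X.map σ
      have hY : IsUnit X'ᵀ := (Matrix.isUnit_iff_isUnit_det _).mpr (by
        rw [Matrix.det_transpose]
        exact (Matrix.isUnit_iff_isUnit_det _).mp (x.isUnit.map (RingHom.mapMatrix (σ : F →+* F))))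
      have e1 : X'ᵀ * Mᵀ * X = Mᵀ := by
        conv_rhs => rw [← hfix x hx]
        simp only [Matrix.transpose_mul, Matrix.transpose_transpose, Matrix.mul_assoc]
        rfl
      have e2 : X'ᵀ * M.map σ * X.map (σ.trans σ) = M.map σ := by
        conv_rhs => rw [← hfix x hx, Matrix.map_mul, Matrix.map_mul, Matrix.transpose_map]
        rw [Matrix.map_map]
        rfl
      refine hMu.mul_left_cancel (hY.mul_left_cancel ?_)
      show X'ᵀ * (Mᵀ * (C * X.map (σ.trans σ))) = X'ᵀ * (Mᵀ * (X * C))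
      rw [← Matrix.mul_assoc Mᵀ C, hMC, ← Matrix.mul_assoc, e2, ← Matrix.mul_assoc Mᵀ X C,
        ← Matrix.mul_assoc _ (Mᵀ * X) C, ← Matrix.mul_assoc X'ᵀ Mᵀ X, e1, hMC]
  refine Or.inr (Or.inl (form_of_conj B (sh.form_large hp2 h3 hperf' hb ?_)))
  have := hp.two_le
  have h4 : p ≠ 4 := fun e => by rw [e] at hp; norm_num at hp
  by_cases h5 : p = 5
  · subst h5
    have : k ≠ 1 := fun e => h51 ⟨rfl, e⟩
    omega
  · have h6 : p ≠ 6 := fun e => by rw [e] at hp; norm_num at hp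
    calc 5 ≤ 1 * 6 := by norm_num
      _ ≤ k * (p - 1) := Nat.mul_le_mul hpos (by omega)

end Cfsg.Agent.PThree
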