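import Cfsg.Agent.Lib.Classical.PThree.Basic

/-!
# The Sylow subgroup when there are no transvections

In odd characteristic `p`, if `p` divides the order and no element is a transvection, then after a
change of basis the upper unitriangular elements form a Sylow subgroup and are the matrices
`expU (e x) (b x)` for additive `e`, `b` on `(ZMod p)^k` with `e` injective.
-/

set_option autoImplicit false
set_option linter.unusedSectionVars false
set_option linter.style.haveILetI false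

namespace Cfsg.Agent.PThree

open Matrix Cfsg Cfsg.Geo
open scoped MatrixGroups commutatorElement

variable {F : Type*} [Field F]

/-- The exponential of `a X + b X²` for the regular nilpotent `X`. -/
def expU (a b : F) : Matrix (Fin 3) (Fin 3) F := !![1, a, a * a / 2 + b; 0, 1, a; 0, 0, 1]

/-- Upper triangular. -/
def IsUpper (M : Matrix (Fin 3) (Fin 3) F) : Prop := M 1 0 = 0 ∧ M 2 0 = 0 ∧ M 2 1 = 0

/-- Upper unitriangular. -/
def IsUnitri (M : Matrix (Fin 3) (Fin 3) F) : Prop :=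
  IsUpper M ∧ M 0 0 = 1 ∧ M 1 1 = 1 ∧ M 2 2 = 1

theorem expU_mul (h2 : (2 : F) ≠ 0) (a b a' b' : F) :
    expU a b * expU a' b' = expU (a + a') (b + b') := by
  ext i j
  fin_cases i <;> fin_cases j <;> simp [expU, Matrix.mul_apply, Fin.sum_univ_three]
  · ring
  · field_simp; ring
  · ring

theorem expU_zero : expU (0 : F) 0 = 1 := by
  ext i j
  fin_cases i <;> fin_cases j <;> simp [expU]

theorem isUnitri_expU (a b : F) : IsUnitri (expU a b) := by
  simp [IsUnitri, IsUpper, expU]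

theorem isUpper_mul {A B : Matrix (Fin 3) (Fin 3) F} (hA : IsUpper A) (hB : IsUpper B) :
    IsUpper (A * B) ∧ ∀ i, (A * B) i i = A i i * B i i := by
  obtain ⟨a10, a20, a21⟩ := hA
  obtain ⟨b10, b20, b21⟩ := hB
  refine ⟨⟨?_, ?_, ?_⟩, fun i => ?_⟩
  all_goals simp [Matrix.mul_apply, Fin.sum_univ_three, a10, a20, a21, b10, b20, b21]
  fin_cases i <;> simp [a10, a20, a21, b10, b20, b21]

theorem isUnitri_mul {A B : Matrix (Fin 3) (Fin 3) F} (hA : IsUnitri A) (hB : IsUnitri B) :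
    IsUnitri (A * B) := by
  obtain ⟨hu, hd⟩ := isUpper_mul hA.1 hB.1
  exact ⟨hu, by rw [hd, hA.2.1, hB.2.1, one_mul], by rw [hd, hA.2.2.1, hB.2.2.1, one_mul],
    by rw [hd, hA.2.2.2, hB.2.2.2, one_mul]⟩

theorem unitri_eq {A : Matrix (Fin 3) (Fin 3) F} (hA : IsUnitri A) :
    A = !![1, A 0 1, A 0 2; 0, 1, A 1 2; 0, 0, 1] := by
  obtain ⟨⟨h1, h2, h3⟩, d0, d1, d2⟩ := hA
  ext i j
  fin_cases i <;> fin_cases j <;> simp [h1, h2, h3, d0, d1, d2]

theorem unitri_sub_cube {A : Matrix (Fin 3) (Fin 3) F} (hA : IsUnitri A) : (A - 1) ^ 3 = 0 := by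
  rw [unitri_eq hA]
  ext i j
  fin_cases i <;> fin_cases j <;> simp [pow_succ, Matrix.mul_apply, Fin.sum_univ_three]

theorem upper_inv {g : GL (Fin 3) F} (hg : IsUpper (g : Matrix (Fin 3) (Fin 3) F)) :
    IsUpper ((g⁻¹ : GL (Fin 3) F) : Matrix (Fin 3) (Fin 3) F) ∧
      ∀ i, ((g⁻¹ : GL (Fin 3) F) : Matrix (Fin 3) (Fin 3) F) i i * (g : Matrix (Fin 3) (Fin 3) F) i i = 1 := by
  set A := (g : Matrix (Fin 3) (Fin 3) F)
  set B := ((g⁻¹ : GL (Fin 3) F) : Matrix (Fin 3) (Fin 3) F)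
  have hBA : ∀ i j, ∑ k, B i k * A k j = (1 : Matrix (Fin 3) (Fin 3) F) i j := fun i j => by
    rw [← Matrix.mul_apply, g.inv_mul]
  obtain ⟨a10, a20, a21⟩ := hg
  have hd : A 0 0 * A 1 1 * A 2 2 ≠ 0 := by
    have h := (Matrix.isUnit_iff_isUnit_det A).1 g.isUnit
    rw [Matrix.det_fin_three, a10, a20, a21] at h
    simpa using h.ne_zero
  simp only [mul_ne_zero_iff] at hd
  have b00 := hBA 0 0
  have b10 := hBA 1 0
  have b20 := hBA 2 0
  have b21 := hBA 2 1
  have b11 := hBA 1 1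
  have b22 := hBA 2 2
  simp [Fin.sum_univ_three, a10, a20, a21] at b00 b10 b20 b21 b11 b22
  have e10 : B 1 0 = 0 := b10.resolve_right hd.1.1
  have e20 : B 2 0 = 0 := b20.resolve_right hd.1.1
  rw [e20, zero_mul, zero_add] at b21
  have e21 : B 2 1 = 0 := (mul_eq_zero.1 b21).resolve_right hd.1.2
  rw [e10, zero_mul, zero_add] at b11
  rw [e20, e21, zero_mul, zero_mul, zero_add, zero_add] at b22
  refine ⟨⟨e10, e20, e21⟩, fun i => ?_⟩
  fin_cases i <;> assumption

theorem inv_unitri {g : GL (Fin 3) F} (hg : IsUnitri (g : Matrix (Fin 3) (Fin 3) F)) :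
    IsUnitri ((g⁻¹ : GL (Fin 3) F) : Matrix (Fin 3) (Fin 3) F) := by
  obtain ⟨hu, hd⟩ := upper_inv hg.1
  refine ⟨hu, ?_, ?_, ?_⟩
  · simpa [hg.2.1] using hd 0
  · simpa [hg.2.2.1] using hd 1
  · simpa [hg.2.2.2] using hd 2

/-- The upper unitriangular elements. -/
def uniU (P : Subgroup (GL (Fin 3) F)) : Subgroup P where
  carrier := {g | IsUnitri ((g : GL (Fin 3) F) : Matrix (Fin 3) (Fin 3) F)}
  one_mem' := by simp [IsUnitri, IsUpper]
  mul_mem' := fun {a b} ha hb => by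
    show IsUnitri _
    rw [Subgroup.coe_mul, Units.val_mul]
    exact isUnitri_mul ha hb
  inv_mem' := fun {a} ha => by
    show IsUnitri _
    rw [Subgroup.coe_inv]
    exact inv_unitri ha

variable {p : ℕ}

/-- The normal form of the Sylow subgroup. -/
structure Shape (p : ℕ) (P : Subgroup (GL (Fin 3) F)) (k : ℕ) where
  /-- the first coordinate -/
  e : (Fin k → ZMod p) →+ F
  /-- the second coordinate -/
  b : (Fin k → ZMod p) →+ F
  inj : Function.Injective e
  mem : ∀ x, ∃ g ∈ P, (g : Matrix (Fin 3) (Fin 3) F) = expU (e x) (b x)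
  onto : ∀ g ∈ P, IsUnitri (g : Matrix (Fin 3) (Fin 3) F) →
    ∃ x, (g : Matrix (Fin 3) (Fin 3) F) = expU (e x) (b x)
  index : ¬ p ∣ (uniU P).index
  pos : 1 ≤ k

/-- Upper triangular elements normalise the unitriangular ones. -/
theorem uniU_conj {P : Subgroup (GL (Fin 3) F)} {g : P}
    (hg : IsUpper ((g : GL (Fin 3) F) : Matrix (Fin 3) (Fin 3) F)) {u : P} (hu : u ∈ uniU P) :
    g * u * g⁻¹ ∈ uniU P ∧ g⁻¹ * u * g ∈ uniU P := by
  obtain ⟨hgi, hd⟩ := upper_inv hg
  have hu' : IsUnitri ((u : GL (Fin 3) F) : Matrix (Fin 3) (Fin 3) F) := hu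
  constructor
  all_goals
    show IsUnitri _
    simp only [Subgroup.coe_mul, Subgroup.coe_inv, Units.val_mul]
  · obtain ⟨h1, d1⟩ := isUpper_mul hg hu'.1
    obtain ⟨h2, d2⟩ := isUpper_mul h1 hgi
    refine ⟨h2, ?_, ?_, ?_⟩
    · rw [d2, d1, hu'.2.1, mul_one, mul_comm, hd]
    · rw [d2, d1, hu'.2.2.1, mul_one, mul_comm, hd]
    · rw [d2, d1, hu'.2.2.2, mul_one, mul_comm, hd]
  · obtain ⟨h1, d1⟩ := isUpper_mul hgi hu'.1
    obtain ⟨h2, d2⟩ := isUpper_mul h1 hg
    refine ⟨h2, ?_, ?_, ?_⟩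
    · rw [d2, d1, hu'.2.1, mul_one, hd]
    · rw [d2, d1, hu'.2.2.1, mul_one, hd]
    · rw [d2, d1, hu'.2.2.2, mul_one, hd]

/-- An element carrying one nontrivial `expU` to another is triangular. -/
theorem upper_of_conj {M : Matrix (Fin 3) (Fin 3) F} {a b a' b' : F} (ha : a ≠ 0) (ha' : a' ≠ 0)
    (h : M * expU a b = expU a' b' * M) :
    IsUpper M ∧ M 0 0 * a = M 1 1 * a' ∧ M 1 1 * a = M 2 2 * a' := by
  have e : ∀ i j, (M * expU a b) i j = (expU a' b' * M) i j := fun i j => by rw [h]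
  have e10 := e 0 0
  have e21 := e 2 1
  have e22 := e 2 2
  have e11 := e 1 1
  have e12 := e 1 2
  have e01 := e 0 1
  have e1 := e 1 0
  simp [expU, Matrix.mul_apply, Fin.sum_univ_three] at e10 e21 e22 e11 e12 e01 e1
  have m20 : M 2 0 = 0 := by
    rcases e21 with h | h
    · exact h
    · exact absurd h ha
  have m21 : M 2 1 = 0 := by
    rw [m20, zero_mul, zero_add] at e22
    rcases (mul_eq_zero.1 e22) with h | h
    · exact h
    · exact absurd h ha
  have m10 : M 1 0 = 0 := by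
    rw [m20] at e10
    simp at e10
    rcases e10 with h | h
    · exact absurd h ha'
    · exact h
  refine ⟨⟨m10, m20, m21⟩, ?_, ?_⟩
  · rw [m21, mul_zero, add_zero] at e01
    linear_combination e01
  · rw [m10, zero_mul, zero_add] at e12
    linear_combination e12

variable [Fintype F] [Fact p.Prime] [CharP F p]

theorem exists_shift {N : Matrix (Fin 3) (Fin 3) F} (h3 : N ^ 3 = 0) (h2 : N * N ≠ 0) :
    ∃ B : GL (Fin 3) F, ((B⁻¹ : GL (Fin 3) F) : Matrix (Fin 3) (Fin 3) F) * N *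
      (B : Matrix (Fin 3) (Fin 3) F) = !![0, 1, 0; 0, 0, 1; 0, 0, 0] := by
  obtain ⟨v, hv⟩ : ∃ v, (N * N) *ᵥ v ≠ 0 := by
    by_contra hc
    push Not at hc
    exact h2 (Matrix.ext_of_mulVec_single fun k => by rw [hc, zero_mulVec])
  have hN3 : ∀ w, N *ᵥ (N *ᵥ (N *ᵥ w)) = 0 := fun w => by
    rw [Matrix.mulVec_mulVec, Matrix.mulVec_mulVec,
      show N * N * N = N ^ 3 by rw [pow_succ, pow_two], h3, zero_mulVec]
  have hv' : N *ᵥ (N *ᵥ v) ≠ 0 := by rwa [Matrix.mulVec_mulVec]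
  let Bm : Matrix (Fin 3) (Fin 3) F := Matrix.of fun i j => ![N *ᵥ (N *ᵥ v), N *ᵥ v, v] j i
  have hBv : ∀ c : Fin 3 → F,
      Bm *ᵥ c = c 0 • (N *ᵥ (N *ᵥ v)) + c 1 • (N *ᵥ v) + c 2 • v := fun c => by
    funext i
    simp [Bm, Matrix.mulVec, dotProduct, Fin.sum_univ_three, mul_comm]
  have hinj : Function.Injective Bm.mulVec := by
    intro c d hcd
    have hz : Bm *ᵥ (c - d) = 0 := by rw [Matrix.mulVec_sub, hcd, sub_self]
    rw [hBv] at hz
    set w := c - d
    have h1 := congrArg (fun z => N *ᵥ (N *ᵥ z)) hz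
    simp only [Matrix.mulVec_add, Matrix.mulVec_smul, hN3, Matrix.mulVec_zero, smul_zero, zero_add,
      smul_eq_zero] at h1
    have w2 : w 2 = 0 := h1.resolve_right hv'
    rw [w2, zero_smul, add_zero] at hz
    have h2' := congrArg (fun z => N *ᵥ z) hz
    simp only [Matrix.mulVec_add, Matrix.mulVec_smul, hN3, Matrix.mulVec_zero, smul_zero, zero_add,
      smul_eq_zero] at h2'
    have w1 : w 1 = 0 := h2'.resolve_right hv'
    rw [w1, zero_smul, add_zero, smul_eq_zero] at hz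
    have w0 : w 0 = 0 := hz.resolve_right hv'
    refine sub_eq_zero.1 ?_
    funext i
    fin_cases i <;> assumption
  have hu := Matrix.mulVec_injective_iff_isUnit.1 hinj
  refine ⟨hu.unit, ?_⟩
  have hkey : N * Bm = Bm * !![0, 1, 0; 0, 0, 1; 0, 0, 0] := by
    refine Matrix.ext_of_mulVec_single fun j => ?_
    rw [← Matrix.mulVec_mulVec, ← Matrix.mulVec_mulVec, hBv, hBv]
    fin_cases j
    · simp [Matrix.mulVec, dotProduct, Fin.sum_univ_three, Pi.single_apply]
      simpa [Matrix.mulVec_mulVec, ← Matrix.mul_assoc] using hN3 v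
    all_goals simp [Matrix.mulVec, dotProduct, Fin.sum_univ_three, Pi.single_apply]
  rw [Matrix.mul_assoc, IsUnit.unit_spec, hkey, ← Matrix.mul_assoc]
  nth_rewrite 2 [← IsUnit.unit_spec hu]
  rw [Units.inv_mul, Matrix.one_mul]

theorem toeplitz_of_commute {A : Matrix (Fin 3) (Fin 3) F}
    (h : A * !![0, 1, 0; 0, 0, 1; 0, 0, 0] = !![0, 1, 0; 0, 0, 1; 0, 0, 0] * A) :
    A = !![A 0 0, A 0 1, A 0 2; 0, A 0 0, A 0 1; 0, 0, A 0 0] := by
  have e00 := congrFun (congrFun h 0) 0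
  have e01 := congrFun (congrFun h 0) 1
  have e02 := congrFun (congrFun h 0) 2
  have e10 := congrFun (congrFun h 1) 0
  have e11 := congrFun (congrFun h 1) 1
  have e12 := congrFun (congrFun h 1) 2
  have e21 := congrFun (congrFun h 2) 1
  have e22 := congrFun (congrFun h 2) 2
  simp [Matrix.mul_apply, Fin.sum_univ_three] at e00 e01 e02 e10 e11 e12 e21 e22
  clear h
  ext i j
  fin_cases i <;> fin_cases j <;> simp
  · exact e00.symm
  · exact e01.symm
  · exact e02.symm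
  · exact e21
  · exact e22
  · exact e12.symm.trans e01.symm

omit [Fact p.Prime] [CharP F p] in
theorem two_ne_zero_of_odd (hp2 : p ≠ 2) [CharP F p] (hp : p.Prime) : (2 : F) ≠ 0 := fun h => by
  have h' : p ∣ 2 := (CharP.cast_eq_zero_iff F p 2).1 (by exact_mod_cast h)
  exact hp2 ((Nat.prime_dvd_prime_iff_eq hp Nat.prime_two).1 h')

/-- Elements of `p`-power order are unipotent. -/
theorem sub_one_cube {x : GL (Fin 3) F} {n : ℕ} (h : x ^ p ^ n = 1) :
    ((x : Matrix (Fin 3) (Fin 3) F) - 1) ^ 3 = 0 := by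
  have hpow : ((x : Matrix (Fin 3) (Fin 3) F) - 1) ^ p ^ n = 0 := by
    rw [sub_pow_char_pow_of_commute _ _ (Commute.one_right _), ← Units.val_pow_eq_pow_val, h,
      Units.val_one, one_pow, sub_self]
  have hnil : IsNilpotent ((x : Matrix (Fin 3) (Fin 3) F) - 1) := ⟨_, hpow⟩
  have hc := Matrix.isNilpotent_charpoly_sub_pow_of_isNilpotent hnil
  have h0 := hc.eq_zero
  rw [sub_eq_zero, Fintype.card_fin] at h0
  have := Matrix.aeval_self_charpoly ((x : Matrix (Fin 3) (Fin 3) F) - 1)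
  rwa [h0, map_pow, Polynomial.aeval_X] at this

theorem transvection_of_sq {x : GL (Fin 3) F} (hne : x ≠ 1)
    (h : ((x : Matrix (Fin 3) (Fin 3) F) - 1) * ((x : Matrix (Fin 3) (Fin 3) F) - 1) = 0) :
    IsTransvection x := by
  classical
  set N := (x : Matrix (Fin 3) (Fin 3) F) - 1 with hN
  have hN0 : N ≠ 0 := fun e => hne (Units.ext (sub_eq_zero.1 e))
  set f := Matrix.toLin' N
  have hff : LinearMap.range f ≤ LinearMap.ker f := by
    rintro _ ⟨w, rfl⟩
    rw [LinearMap.mem_ker, ← LinearMap.comp_apply, ← Matrix.toLin'_mul, h, map_zero,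
      LinearMap.zero_apply]
  have h1 := LinearMap.finrank_range_add_finrank_ker f
  have h2 := Submodule.finrank_mono hff
  rw [Module.finrank_fin_fun] at h1
  have hr1 : Module.finrank F (LinearMap.range f) = 1 := by
    have hne0 : LinearMap.range f ≠ ⊥ := fun e => hN0 (Matrix.toLin'.injective (by
      rw [map_zero]; exact LinearMap.range_eq_bot.1 e))
    have := Submodule.one_le_finrank_iff.2 hne0
    omega
  obtain ⟨⟨v, hvm⟩, hv0, hv⟩ := finrank_eq_one_iff'.1 hr1
  have hv0' : v ≠ 0 := fun e => hv0 (Subtype.ext e)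
  have hcol : ∀ j, ∃ c : F, N *ᵥ Pi.single j 1 = c • v := fun j => by
    obtain ⟨c, hc⟩ := hv ⟨N *ᵥ Pi.single j 1, ⟨Pi.single j 1, Matrix.toLin'_apply N _⟩⟩
    exact ⟨c, (congrArg Subtype.val hc).symm⟩
  choose φ hφ using hcol
  have hNe : N = vecMulVec v φ := Matrix.ext_of_mulVec_single fun j => by
    rw [hφ j, Matrix.vecMulVec_mulVec, dotProduct_single, mul_one]
    ext i; simp [mul_comm]
  refine ⟨v, φ, hv0', fun e => hN0 (by rw [hNe, e, Matrix.vecMulVec_zero]), ?_, ?_⟩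
  · have hNv : N *ᵥ v = 0 := by
      have := hff hvm
      rwa [LinearMap.mem_ker, Matrix.toLin'_apply] at this
    rw [hNe, Matrix.vecMulVec_mulVec] at hNv
    obtain ⟨i, hi⟩ := Function.ne_iff.1 hv0'
    have h' := congrFun hNv i
    simp only [Pi.smul_apply, Pi.zero_apply, MulOpposite.smul_eq_mul_unop, MulOpposite.unop_op,
      mul_eq_zero] at h'
    exact h'.resolve_left hi
  · rw [← hNe, hN, add_sub_cancel]

/-- The conjugate of a subgroup. -/
def conjP (B : GL (Fin 3) F) (P : Subgroup (GL (Fin 3) F)) : Subgroup (GL (Fin 3) F) :=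
  P.map (MulAut.conj B⁻¹).toMonoidHom

theorem mem_conjP {B : GL (Fin 3) F} {P : Subgroup (GL (Fin 3) F)} {g : GL (Fin 3) F} :
    g ∈ conjP B P ↔ B * g * B⁻¹ ∈ P := by
  constructor
  · rintro ⟨x, hx, rfl⟩
    show B * (B⁻¹ * x * B⁻¹⁻¹) * B⁻¹ ∈ P
    rwa [show B * (B⁻¹ * x * B⁻¹⁻¹) * B⁻¹ = x by group]
  · intro h
    exact ⟨_, h, show B⁻¹ * (B * g * B⁻¹) * B⁻¹⁻¹ = g by group⟩

/-- The normal form after a change of basis. -/
theorem exists_shape (P : Subgroup (GL (Fin 3) F)) (hp2 : p ≠ 2) (hdvd : p ∣ Nat.card P)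
    (hnt : ∀ x ∈ P, ¬ IsTransvection x) :
    ∃ (B : GL (Fin 3) F) (k : ℕ), Nonempty (Shape p (conjP B P) k) := by
  classical
  have hp : p.Prime := Fact.out
  have h2 : (2 : F) ≠ 0 := two_ne_zero_of_odd hp2 hp
  haveI : Finite P := inferInstance
  obtain ⟨S⟩ : Nonempty (Sylow p P) := inferInstance
  haveI : Nontrivial (S : Subgroup P) := by
    refine (Subgroup.nontrivial_iff_ne_bot _).2 fun e => ?_
    exact S.not_dvd_index (by rw [e, Subgroup.index_bot]; exact hdvd)
  haveI := S.2.center_nontrivial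
  obtain ⟨⟨z, hz⟩, hz1⟩ := exists_ne (1 : Subgroup.center (S : Subgroup P))
  have hpow : ∀ s : (S : Subgroup P), ∃ n, (((s : P) : GL (Fin 3) F)) ^ p ^ n = 1 := by
    intro s
    obtain ⟨n, hn⟩ := S.2 s
    exact ⟨n, by rw [← Subgroup.coe_pow, ← Subgroup.coe_pow, hn]; rfl⟩
  set g₀ := (((z : (S : Subgroup P)) : P) : GL (Fin 3) F) with hg₀
  have hg1 : g₀ ≠ 1 := fun e => hz1 (Subtype.ext (Subtype.ext (Subtype.ext e)))
  set N := (g₀ : Matrix (Fin 3) (Fin 3) F) - 1
  obtain ⟨n₀, hn₀⟩ := hpow z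
  have hN3 : N ^ 3 = 0 := sub_one_cube hn₀
  have hN2 : N * N ≠ 0 := fun e => hnt g₀ (z : P).2 (transvection_of_sq hg1 e)
  set X := N - (1 / 2 : F) • (N * N)
  have hN3' : N * N * N = 0 := by rw [← hN3, pow_succ, pow_two]
  have hXX : X * X = N * N := by
    simp only [X, Matrix.sub_mul, Matrix.mul_sub, Matrix.smul_mul, Matrix.mul_smul,
      ← Matrix.mul_assoc, hN3', Matrix.zero_mul, smul_zero, sub_zero, sub_self]
  have hX3 : X ^ 3 = 0 := by
    rw [pow_succ, pow_two, hXX]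
    simp only [X, Matrix.mul_sub, Matrix.mul_smul, ← Matrix.mul_assoc, hN3', Matrix.zero_mul,
      smul_zero, sub_zero]
  obtain ⟨B, hB⟩ := exists_shift hX3 (by rw [hXX]; exact hN2)
  refine ⟨B, ?_⟩
  set P' := conjP B P
  let ψ : P →* P' :=
    { toFun := fun g => ⟨B⁻¹ * g * B, mem_conjP.2 (by
        rw [show B * (B⁻¹ * (g : GL (Fin 3) F) * B) * B⁻¹ = g by group]; exact g.2)⟩
      map_one' := Subtype.ext (by simp)
      map_mul' := fun g h => Subtype.ext (by
        show B⁻¹ * (((g * h : P) : GL (Fin 3) F)) * B = B⁻¹ * g * B * (B⁻¹ * h * B)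
        rw [Subgroup.coe_mul]; group) }
  have hψ : Function.Bijective ψ := by
    constructor
    · intro g h e
      exact Subtype.ext (mul_left_cancel (mul_right_cancel (congrArg Subtype.val e)))
    · rintro ⟨g, hg⟩
      exact ⟨⟨_, mem_conjP.1 hg⟩, Subtype.ext (show B⁻¹ * (B * g * B⁻¹) * B = g by group)⟩
  -- the Sylow subgroup becomes upper unitriangular
  have hS : ∀ s ∈ (S : Subgroup P), ∃ a b : F,
      (((ψ s : P') : GL (Fin 3) F) : Matrix (Fin 3) (Fin 3) F) = expU a b := by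
    intro s hs
    have hcomm : Commute ((s : GL (Fin 3) F) : Matrix (Fin 3) (Fin 3) F) N := by
      have h := Subgroup.mem_center_iff.1 hz ⟨s, hs⟩
      have h' : ((s : GL (Fin 3) F) : Matrix (Fin 3) (Fin 3) F) * g₀ = g₀ * (s : GL (Fin 3) F) := by
        rw [hg₀, ← Units.val_mul, ← Units.val_mul]
        exact congrArg (fun w : (S : Subgroup P) => (((w : P) : GL (Fin 3) F) : Matrix (Fin 3) (Fin 3) F)) h
      exact Commute.sub_right h' (Commute.one_right _)
    have hX : Commute ((s : GL (Fin 3) F) : Matrix (Fin 3) (Fin 3) F) X :=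
      hcomm.sub_right ((hcomm.mul_right hcomm).smul_right _)
    set A := (((ψ s : P') : GL (Fin 3) F) : Matrix (Fin 3) (Fin 3) F) with hA
    set Bi := ((B⁻¹ : GL (Fin 3) F) : Matrix (Fin 3) (Fin 3) F)
    set Bm := (B : Matrix (Fin 3) (Fin 3) F)
    have hAe : A = Bi * ((s : GL (Fin 3) F) : Matrix (Fin 3) (Fin 3) F) * Bm := by
      simp [hA, ψ, Bi, Bm]
    have hT := toeplitz_of_commute (A := A) (by
      have h1 : Bm * Bi = 1 := B.mul_inv
      rw [hAe, ← hB]
      calc _ = Bi * ((s : GL (Fin 3) F) : Matrix (Fin 3) (Fin 3) F) * (Bm * Bi) * X * Bm := by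
            simp only [Matrix.mul_assoc]
        _ = Bi * (((s : GL (Fin 3) F) : Matrix (Fin 3) (Fin 3) F) * X) * Bm := by
            rw [h1, Matrix.mul_one]; simp only [Matrix.mul_assoc]
        _ = Bi * (X * (Bm * Bi) * ((s : GL (Fin 3) F) : Matrix (Fin 3) (Fin 3) F)) * Bm := by
            rw [hX.eq, h1, Matrix.mul_one]
        _ = _ := by simp only [Matrix.mul_assoc])
    obtain ⟨n, hn⟩ := hpow ⟨s, hs⟩
    have hn' : ((ψ s : P') : GL (Fin 3) F) ^ p ^ n = 1 := by
      show (B⁻¹ * (s : GL (Fin 3) F) * B) ^ p ^ n = 1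
      rw [show B⁻¹ * (s : GL (Fin 3) F) * B = MulAut.conj B⁻¹ (s : GL (Fin 3) F) by simp,
        ← map_pow, show (s : GL (Fin 3) F) ^ p ^ n = 1 from hn, map_one]
    have h00 : A 0 0 = 1 := by
      have hc := sub_one_cube hn'
      rw [← hA, hT] at hc
      have h := congrFun (congrFun hc 0) 0
      simp [pow_succ, Matrix.mul_apply, Fin.sum_univ_three, sub_eq_zero] at h
      exact h
    rw [h00] at hT
    refine ⟨A 0 1, A 0 2 - A 0 1 * A 0 1 / 2, hT.trans ?_⟩
    simp [expU]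
  -- it is the whole unitriangular part
  let U := uniU P'
  have hUp : IsPGroup p U := by
    intro u
    refine ⟨1, Subtype.ext (Subtype.ext (Units.ext ?_))⟩
    have hu : IsUnitri (((u : P') : GL (Fin 3) F) : Matrix (Fin 3) (Fin 3) F) := u.2
    simp only [pow_one, SubmonoidClass.coe_pow, Units.val_pow_eq_pow_val, OneMemClass.coe_one,
      Units.val_one]
    have h3 := unitri_sub_cube hu
    rw [← sub_eq_zero]
    conv_lhs => rw [← one_pow (M := Matrix (Fin 3) (Fin 3) F) p]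
    rw [← sub_pow_char_of_commute p (Commute.one_right _)]
    exact pow_eq_zero_of_le (by have := hp.two_le; omega) h3
  have hle : (S : Subgroup P).map ψ ≤ U := by
    rintro _ ⟨s, hs, rfl⟩
    obtain ⟨a, b, e⟩ := hS s hs
    show IsUnitri _
    rw [e]
    exact isUnitri_expU a b
  have hcmap : (U.comap ψ) = (S : Subgroup P) := S.3 (hUp.comap_of_injective ψ hψ.1)
    (Subgroup.map_le_iff_le_comap.1 hle)
  have hU : ∀ g : P', g ∈ U → ∃ a b : F, ((g : GL (Fin 3) F) : Matrix (Fin 3) (Fin 3) F) = expU a b := by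
    intro g hg
    obtain ⟨s, rfl⟩ := hψ.2 g
    exact hS s (hcmap ▸ hg)
  have hindex : ¬ p ∣ U.index := by
    rw [← Subgroup.index_comap_of_surjective U hψ.2, hcmap]
    exact S.not_dvd_index
  -- coordinates
  let A : AddSubgroup F :=
    { carrier := {a | ∃ g ∈ P', ∃ b, (g : Matrix (Fin 3) (Fin 3) F) = expU a b}
      zero_mem' := ⟨1, one_mem _, 0, by rw [expU_zero]; rfl⟩
      add_mem' := by
        rintro a a' ⟨g, hg, b, e⟩ ⟨g', hg', b', e'⟩
        exact ⟨g * g', mul_mem hg hg', b + b', by rw [Units.val_mul, e, e', expU_mul h2]⟩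
      neg_mem' := by
        rintro a ⟨g, hg, b, e⟩
        refine ⟨g⁻¹, inv_mem hg, -b, ?_⟩
        refine left_inv_eq_right_inv (a := (g : Matrix (Fin 3) (Fin 3) F)) g.inv_mul ?_
        rw [e, expU_mul h2, add_neg_cancel, add_neg_cancel, expU_zero] }
  have huniq : ∀ g ∈ P', ∀ g' ∈ P', ∀ a b b' : F, (g : Matrix (Fin 3) (Fin 3) F) = expU a b →
      (g' : Matrix (Fin 3) (Fin 3) F) = expU a b' → b = b' := by
    intro g hg g' hg' a b b' e e'
    by_contra hne
    obtain ⟨x, hx, hxe⟩ : ∃ x ∈ P', (x : Matrix (Fin 3) (Fin 3) F) = expU 0 (b - b') := by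
      refine ⟨g * g'⁻¹, mul_mem hg (inv_mem hg'), ?_⟩
      have h : ((g'⁻¹ : GL (Fin 3) F) : Matrix (Fin 3) (Fin 3) F) = expU (-a) (-b') := by
        refine left_inv_eq_right_inv (a := (g' : Matrix (Fin 3) (Fin 3) F)) g'.inv_mul ?_
        rw [e', expU_mul h2, add_neg_cancel, add_neg_cancel, expU_zero]
      rw [Units.val_mul, e, h, expU_mul h2, add_neg_cancel, sub_eq_add_neg]
    refine hnt _ (mem_conjP.1 hx) (transvection_of_sq (fun e1 => ?_) ?_)
    · have e2 : x = 1 := by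
        have := congrArg (fun y => B⁻¹ * y * B) e1
        simpa [mul_assoc] using this
      rw [e2, Units.val_one] at hxe
      have := congrFun (congrFun hxe 0) 2
      simp [expU] at this
      exact hne (sub_eq_zero.1 this.symm)
    · have hz : (expU (0 : F) (b - b') - 1) * (expU (0 : F) (b - b') - 1) = 0 := by
        ext i j
        fin_cases i <;> fin_cases j <;> simp [expU, Matrix.mul_apply, Fin.sum_univ_three]
      rw [Units.val_mul, Units.val_mul, hxe,
        show (B : Matrix (Fin 3) (Fin 3) F) * expU 0 (b - b') * ((B⁻¹ : GL (Fin 3) F) : Matrix (Fin 3) (Fin 3) F) - 1 =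
          (B : Matrix (Fin 3) (Fin 3) F) * (expU 0 (b - b') - 1) * ((B⁻¹ : GL (Fin 3) F) : Matrix (Fin 3) (Fin 3) F) by
          rw [Matrix.mul_sub, Matrix.sub_mul, Matrix.mul_one, Units.mul_inv]]
      simp only [Matrix.mul_assoc]
      rw [← Matrix.mul_assoc ((B⁻¹ : GL (Fin 3) F) : Matrix (Fin 3) (Fin 3) F) (B : Matrix (Fin 3) (Fin 3) F),
        Units.inv_mul, Matrix.one_mul, ← Matrix.mul_assoc (expU 0 (b - b') - 1), hz, Matrix.zero_mul,
        Matrix.mul_zero]
  letI : Algebra (ZMod p) F := ZMod.algebra F p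
  let As : Submodule (ZMod p) F := AddSubgroup.toZModSubmodule p A
  let bas := Module.finBasis (ZMod p) As
  set k := Module.finrank (ZMod p) As
  let e : (Fin k → ZMod p) →+ F := As.subtype.toAddMonoidHom.comp bas.equivFun.symm.toAddMonoidHom
  have heA : ∀ x, e x ∈ A := fun x => (bas.equivFun.symm x).2
  choose g hg bf hgb using heA
  let b : (Fin k → ZMod p) →+ F := AddMonoidHom.mk' bf fun x y =>
    huniq _ (hg (x + y)) _ (mul_mem (hg x) (hg y)) _ _ _ (hgb (x + y))
      (by rw [Units.val_mul, hgb x, hgb y, expU_mul h2, map_add])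
  have honto : ∀ g' ∈ P', IsUnitri (g' : Matrix (Fin 3) (Fin 3) F) →
      ∃ x, (g' : Matrix (Fin 3) (Fin 3) F) = expU (e x) (b x) := by
    intro g' hg' hu
    obtain ⟨a', b', e'⟩ := hU ⟨g', hg'⟩ hu
    have ha' : a' ∈ A := ⟨g', hg', b', e'⟩
    refine ⟨bas.equivFun ⟨a', ha'⟩, ?_⟩
    have hex : e (bas.equivFun ⟨a', ha'⟩) = a' :=
      congrArg Subtype.val (bas.equivFun.symm_apply_apply ⟨a', ha'⟩)
    rw [e', hex, huniq _ hg' _ (hg (bas.equivFun ⟨a', ha'⟩)) a' b' _ e'
      ((hgb _).trans (by rw [hex]))]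
    rfl
  refine ⟨k, ⟨⟨e, b, ?_, fun x => ⟨g x, hg x, hgb x⟩, honto, hindex, ?_⟩⟩⟩
  · exact fun x y hxy => bas.equivFun.symm.injective (Subtype.ext hxy)
  · by_contra hk
    push Not at hk
    refine hindex ?_
    have hbot : U = ⊥ := by
      refine (Subgroup.eq_bot_iff_forall _).2 fun u hu => ?_
      obtain ⟨x, hx⟩ := honto u u.2 hu
      rw [show x = 0 from funext fun i => absurd i.2 (by omega), map_zero, map_zero, expU_zero] at hx
      exact Subtype.ext (Units.ext hx)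
    rw [hbot, Subgroup.index_bot, ← Nat.card_congr (Equiv.ofBijective ψ hψ)]
    exact hdvd

end Cfsg.Agent.PThree
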