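import Cfsg.Agent.Lib.Classical.PThree.WildSum
import Cfsg.Agent.Lib.Classical.PThree.WildSylow

/-!
# Use of the normal form of the Sylow subgroup

The unitriangular part is in bijection with its coordinates, it is a trivial-intersection subgroup,
and a triangular element scales the first coordinate by a scalar and the second by its square, up to
a multiple of the first.
-/

set_option autoImplicit false
set_option linter.unusedSectionVars false
set_option linter.style.haveILetI false

namespace Cfsg.Agent.PThree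

open Matrix Cfsg Cfsg.Geo
open scoped MatrixGroups

variable {F : Type*} [Field F] [Fintype F] {p k : ℕ} [Fact p.Prime] [CharP F p]
  {P : Subgroup (GL (Fin 3) F)}

local notation:max "↥M" g:max => Units.val (Subtype.val g)

namespace Shape

/-- The element with given coordinates. -/
noncomputable def el (sh : Shape p P k) (x : Fin k → ZMod p) : P :=
  ⟨(sh.mem x).choose, (sh.mem x).choose_spec.1⟩

variable (sh : Shape p P k)
include sh

theorem el_val (x : Fin k → ZMod p) : ↥M (sh.el x) = expU (sh.e x) (sh.b x) :=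
  (sh.mem x).choose_spec.2

theorem el_mem (x : Fin k → ZMod p) : sh.el x ∈ uniU P := by
  show IsUnitri _
  rw [sh.el_val]
  exact isUnitri_expU _ _

theorem exists_el {u : P} (hu : u ∈ uniU P) : ∃ x, sh.el x = u := by
  obtain ⟨x, hx⟩ := sh.onto u u.2 hu
  exact ⟨x, Subtype.ext (Units.ext ((sh.el_val x).trans hx.symm))⟩

theorem el_inj {x y : Fin k → ZMod p} (h : sh.el x = sh.el y) : x = y := by
  refine sh.inj ?_
  have h' := congrArg (fun g : P => ↥M g 0 1) h
  simpa [el_val, expU] using h'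

theorem e_ne_zero {u : P} {x : Fin k → ZMod p} (hx : sh.el x = u) (hu : u ≠ 1) : sh.e x ≠ 0 := by
  intro h
  refine hu ?_
  have hx0 : x = 0 := sh.inj (h.trans (map_zero _).symm)
  rw [← hx, hx0]
  exact Subtype.ext (Units.ext (by rw [sh.el_val, map_zero, map_zero, expU_zero]; rfl))

theorem el_bijective : Function.Bijective fun x => (⟨sh.el x, sh.el_mem x⟩ : uniU P) :=
  ⟨fun _ _ h => sh.el_inj (congrArg Subtype.val h),
    fun u => let ⟨x, hx⟩ := sh.exists_el u.2; ⟨x, Subtype.ext hx⟩⟩

theorem card_uniU : Nat.card (uniU P) = p ^ k := by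
  rw [← Nat.card_congr (Equiv.ofBijective _ sh.el_bijective), Nat.card_eq_fintype_card]
  simp

theorem sum_el {M : Type*} [AddCommMonoid M] [Fintype (uniU P)] (φ : P → M) :
    ∑ u : uniU P, φ u = ∑ x, φ (sh.el x) :=
  (Fintype.sum_bijective _ sh.el_bijective _ _ fun _ => rfl).symm

theorem el_inv (h2 : (2 : F) ≠ 0) (x : Fin k → ZMod p) : (sh.el x)⁻¹ = sh.el (-x) := by
  refine inv_eq_of_mul_eq_one_left (Subtype.ext (Units.ext ?_))
  rw [Subgroup.coe_mul, Units.val_mul, sh.el_val, sh.el_val, expU_mul h2, map_neg, map_neg,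
    neg_add_cancel, neg_add_cancel, expU_zero]
  rfl

theorem exists_nonzero : ∃ x : Fin k → ZMod p, x ≠ 0 :=
  ⟨Pi.single ⟨0, sh.pos⟩ 1, by simp⟩

/-- An element carrying a nontrivial unitriangular one into the unitriangular ones is triangular. -/
theorem upper_of_mem {g u : P} (hu : u ∈ uniU P) (hu1 : u ≠ 1) (h : g⁻¹ * u * g ∈ uniU P) :
    IsUpper (↥M g) := by
  obtain ⟨x, hx⟩ := sh.exists_el hu
  obtain ⟨y, hy⟩ := sh.exists_el h
  have hy1 : g⁻¹ * u * g ≠ 1 := fun e => hu1 (by
    have := congrArg (fun z => g * z * g⁻¹) e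
    simpa [mul_assoc] using this)
  have hkey : g * sh.el y = sh.el x * g := by rw [hy, hx]; group
  have hk := congrArg (fun z : P => ↥M z) hkey
  simp only [Subgroup.coe_mul, Units.val_mul, el_val] at hk
  exact (upper_of_conj (sh.e_ne_zero hy hy1) (sh.e_ne_zero hx hu1) hk).1

/-- The unitriangular part meets its conjugates trivially or not at all. -/
theorem ti (g : P) (u : P) (hu : u ∈ uniU P) (hu1 : u ≠ 1) (h : g⁻¹ * u * g ∈ uniU P) (v : P)
    (hv : v ∈ uniU P) : g⁻¹ * v * g ∈ uniU P :=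
  (uniU_conj (sh.upper_of_mem hu hu1 h) hv).2

theorem upper_of_normal {r : P} (h : ∀ u ∈ uniU P, r⁻¹ * u * r ∈ uniU P) : IsUpper (↥M r) := by
  obtain ⟨x, hx⟩ := sh.exists_nonzero
  refine sh.upper_of_mem (sh.el_mem x) (fun e => hx ?_) (h _ (sh.el_mem x))
  refine sh.inj ?_
  have h' := congrArg (fun g : P => ↥M g 0 1) e
  simpa [el_val, expU] using h'

/-- The action of a triangular element on the coordinates. -/
theorem upper_rel (h2 : (2 : F) ≠ 0) {r : P} (hr : IsUpper (↥M r)) :
    ∃ s μ : F, s ≠ 0 ∧ ↥M r 1 1 = s * ↥M r 2 2 ∧ ↥M r 0 0 = s * s * ↥M r 2 2 ∧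
      ∀ x, ∃ x', sh.e x' = s * sh.e x ∧ sh.b x' = s * s * sh.b x + μ * sh.e x := by
  set A := ↥M r with hA
  obtain ⟨a10, a20, a21⟩ := hr
  have hd : A 0 0 * A 1 1 * A 2 2 ≠ 0 := by
    have h := (Matrix.isUnit_iff_isUnit_det A).1 (Units.isUnit _)
    rw [Matrix.det_fin_three, a10, a20, a21] at h
    simpa using h.ne_zero
  simp only [mul_ne_zero_iff] at hd
  -- the conjugate of each element
  have hconj : ∀ x, ∃ x', A * expU (sh.e x) (sh.b x) = expU (sh.e x') (sh.b x') * A := by
    intro x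
    obtain ⟨x', hx'⟩ := sh.exists_el (uniU_conj (g := r) ⟨a10, a20, a21⟩ (sh.el_mem x)).1
    refine ⟨x', ?_⟩
    have hk : r * sh.el x = sh.el x' * r := by rw [hx']; group
    have hk' := congrArg (fun z : P => ↥M z) hk
    simpa [Units.val_mul, el_val, hA] using hk'
  obtain ⟨x₀, hx₀⟩ := sh.exists_nonzero
  obtain ⟨y₀, hy₀⟩ := hconj x₀
  have ha : sh.e x₀ ≠ 0 := fun e => hx₀ (sh.inj (e.trans (map_zero _).symm))
  have h01 := congrFun (congrFun hy₀ 0) 1
  have h12 := congrFun (congrFun hy₀ 1) 2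
  simp [expU, Matrix.mul_apply, Fin.sum_univ_three, a10, a21] at h01 h12
  have h01' : A 0 0 * sh.e x₀ = sh.e y₀ * A 1 1 := by linear_combination h01
  have h12' : A 1 1 * sh.e x₀ = sh.e y₀ * A 2 2 := by linear_combination h12
  set s := A 1 1 / A 2 2 with hs
  have hs11 : A 1 1 = s * A 2 2 := by rw [hs, div_mul_cancel₀ _ hd.2]
  have hey : sh.e y₀ = s * sh.e x₀ := mul_right_cancel₀ hd.2 (by rw [← h12', hs11]; ring)
  have hs00 : A 0 0 = s * s * A 2 2 :=
    mul_right_cancel₀ ha (by rw [h01', hey, hs11]; ring)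
  refine ⟨s, (A 0 1 - s * A 1 2) / A 2 2, div_ne_zero hd.1.2 hd.2, hs11, hs00, fun x => ?_⟩
  obtain ⟨x', hx'⟩ := hconj x
  have e12 := congrFun (congrFun hx' 1) 2
  have e02 := congrFun (congrFun hx' 0) 2
  simp [expU, Matrix.mul_apply, Fin.sum_univ_three, a10, a21, a20] at e12 e02
  have he : sh.e x' = s * sh.e x :=
    mul_right_cancel₀ hd.2 (by rw [hs11] at e12; linear_combination -e12)
  refine ⟨x', he, mul_right_cancel₀ hd.2 ?_⟩
  rw [he, hs00] at e02
  field_simp at e02
  have key : sh.b x' * A 2 2 = s * s * sh.b x * A 2 2 + sh.e x * (A 0 1 - s * A 1 2) :=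
    mul_left_cancel₀ h2 (by linear_combination -e02)
  rw [key, add_mul (s * s * sh.b x), mul_right_comm _ (sh.e x) (A 2 2), div_mul_cancel₀ _ hd.2,
    mul_comm (sh.e x)]

theorem natCast_ne_zero {r n : ℕ}
    (h : r + n * Nat.card (uniU P) = (uniU P).index) : (r : F) ≠ 0 := by
  intro h0
  refine sh.index ?_
  rw [← h, sh.card_uniU]
  exact Nat.dvd_add ((CharP.cast_eq_zero_iff F p r).1 h0)
    (Dvd.dvd.mul_left (dvd_pow_self p (by have := sh.pos; omega)) n)

/-- The entries have degree at most the height. -/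
theorem entry_mem (i j : Fin 3) :
    (fun z => ↥M (sh.el z) i j) ∈ dSub F p k ((j : ℕ) - i) := by
  simp only [sh.el_val]
  fin_cases i <;> fin_cases j <;> simp [expU]
  all_goals first
    | exact const_mem_dSub (1 : F) _
    | exact const_mem_dSub (0 : F) _
    | exact additive_mem_dSub sh.e le_rfl
    | skip
  refine Submodule.add_mem _ ?_ (additive_mem_dSub sh.b one_le_two)
  have h := Submodule.smul_mem _ (2 : F)⁻¹
    (mul_mem_dSub (additive_mem_dSub sh.e le_rfl) (additive_mem_dSub sh.e le_rfl))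
  convert h using 1
  funext z
  simp only [Pi.smul_apply, Pi.mul_apply, smul_eq_mul]
  ring

end Shape

end Cfsg.Agent.PThree
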