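import Mathlib

/-!
# Short exponents

If `s` lies in a field with `p ^ m` elements and `s ^ (p ^ j) = s ^ 2`, then `s ^ N = 1` for a sum `N`
of at most `m` powers of `p`.  Every sum of at least two powers of `p ≠ 3` splits as `A + B` with
`A + 2 B ≡ 0` modulo `3`.
-/

set_option autoImplicit false
set_option linter.unusedSectionVars false
set_option linter.style.haveILetI false

namespace Cfsg.Agent.PThree

/-- The number with the given exponents as digits. -/
def digitVal (p : ℕ) (l : Multiset ℕ) : ℕ := (l.map (p ^ ·)).sum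

variable {p : ℕ}

theorem digitVal_cons (a : ℕ) (l : Multiset ℕ) :
    digitVal p (a ::ₘ l) = p ^ a + digitVal p l := by simp [digitVal]

theorem digitVal_add (l l' : Multiset ℕ) :
    digitVal p (l + l') = digitVal p l + digitVal p l' := by simp [digitVal]

theorem split_three (hp : ¬ 3 ∣ p) : ∀ (n : ℕ) (l : Multiset ℕ), Multiset.card l = n → n ≠ 1 →
    ∃ la lb, la + lb = l ∧ 3 ∣ digitVal p la + 2 * digitVal p lb := by
  have hw : ∀ i, (p ^ i : ℕ) % 3 = 1 ∨ (p ^ i : ℕ) % 3 = 2 := fun i => by
    have h : ¬ 3 ∣ p ^ i := fun h => hp (Nat.prime_three.dvd_of_dvd_pow h)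
    omega
  intro n
  induction n using Nat.strong_induction_on with
  | _ n ih =>
    intro l hl hn1
    rcases l.empty_or_exists_mem with rfl | ⟨a, ha⟩
    · exact ⟨0, 0, by simp, by simp [digitVal]⟩
    obtain ⟨l, rfl⟩ := Multiset.exists_cons_of_mem ha
    rcases l.empty_or_exists_mem with rfl | ⟨b, hb⟩
    · simp at hl; omega
    obtain ⟨l, rfl⟩ := Multiset.exists_cons_of_mem hb
    simp only [Multiset.card_cons] at hl
    by_cases hl1 : Multiset.card l = 1
    · obtain ⟨c, rfl⟩ := Multiset.card_eq_one.1 hl1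
      rcases hw a with h₁ | h₁ <;> rcases hw b with h₂ | h₂ <;> rcases hw c with h₃ | h₃
      · exact ⟨a ::ₘ b ::ₘ {c}, 0, by simp, by simp [digitVal]; omega⟩
      · exact ⟨a ::ₘ {b}, {c}, by simp only [← Multiset.singleton_add]; abel, by simp [digitVal]; omega⟩
      · exact ⟨a ::ₘ {c}, {b}, by simp only [← Multiset.singleton_add]; abel,
          by simp [digitVal]; omega⟩
      · exact ⟨{a}, b ::ₘ {c}, by simp only [← Multiset.singleton_add], by simp [digitVal]; omega⟩
      · exact ⟨b ::ₘ {c}, {a}, by simp only [← Multiset.singleton_add]; abel,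
          by simp [digitVal]; omega⟩
      · exact ⟨{b}, a ::ₘ {c}, by simp only [← Multiset.singleton_add]; abel,
          by simp [digitVal]; omega⟩
      · exact ⟨{c}, a ::ₘ {b}, by simp only [← Multiset.singleton_add]; abel,
          by simp [digitVal]; omega⟩
      · exact ⟨a ::ₘ b ::ₘ {c}, 0, by simp, by simp [digitVal]; omega⟩
    · obtain ⟨la, lb, hll, hd⟩ := ih (Multiset.card l) (by omega) l rfl hl1
      subst hll
      by_cases hab : (p ^ a : ℕ) % 3 = (p ^ b : ℕ) % 3
      · refine ⟨a ::ₘ la, b ::ₘ lb, by simp only [← Multiset.singleton_add]; abel, ?_⟩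
        simp only [digitVal_cons]
        rcases hw a with h₁ | h₁ <;> omega
      · refine ⟨a ::ₘ b ::ₘ la, lb, by simp [Multiset.cons_add], ?_⟩
        simp only [digitVal_cons]
        rcases hw a with h₁ | h₁ <;> rcases hw b with h₂ | h₂ <;> omega

variable {F : Type*} [Field F] [Fintype F]

theorem pow_periodic {s : F} {m : ℕ} (hsm : s ^ p ^ m = s) (i : ℕ) :
    s ^ p ^ (i % m) = s ^ p ^ i := by
  have h : ∀ q, s ^ p ^ (m * q) = s := by
    intro q
    induction q with
    | zero => simp
    | succ q ih => rw [Nat.mul_succ, pow_add, pow_mul, ih, hsm]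
  conv_rhs => rw [← Nat.div_add_mod i m, pow_add, pow_mul, h]

/-- A short exponent killing `s`. -/
theorem exists_short {s : F} {j m : ℕ} (hm : 0 < m) (hs1 : s ≠ 1) (hs0 : s ≠ 0)
    (hsm : s ^ p ^ m = s) (hj : s ^ p ^ j = s * s) :
    ∃ l : Multiset ℕ, 0 < Multiset.card l ∧ Multiset.card l ≤ m ∧
      (p = 3 → Multiset.card l < m) ∧ s ^ digitVal p l = 1 := by
  classical
  let Q : ℕ → Prop := fun n => 0 < n ∧ ∃ l : Multiset ℕ, Multiset.card l = n ∧
    (∀ i ∈ l, i < m) ∧ s ^ digitVal p l = 1
  have hQ : ∃ n, Q n := by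
    refine ⟨Fintype.card F - 1, ?_, Multiset.replicate (Fintype.card F - 1) 0, by simp, ?_, ?_⟩
    · have := Fintype.one_lt_card (α := F); omega
    · intro i hi; rw [Multiset.eq_of_mem_replicate hi]; exact hm
    · simpa [digitVal] using FiniteField.pow_card_sub_one_eq_one s hs0
  obtain ⟨hn0, l, hl, hlm, hls⟩ := Nat.find_spec hQ
  have hmin : ∀ l' : Multiset ℕ, 0 < Multiset.card l' → Multiset.card l' < Nat.find hQ →
      (∀ i ∈ l', i < m) → s ^ digitVal p l' ≠ 1 := fun l' h0 hlt hm' h1 =>
    Nat.find_min hQ hlt ⟨h0, l', rfl, hm', h1⟩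
  have hnd : l.Nodup := by
    rw [Multiset.nodup_iff_ne_cons_cons]
    intro a l' e
    subst e
    simp only [Multiset.card_cons] at hl
    refine hmin (((a + j) % m) ::ₘ l') (by simp) (by rw [Multiset.card_cons]; omega) ?_ ?_
    · intro i hi
      rcases Multiset.mem_cons.1 hi with rfl | hi
      · exact Nat.mod_lt _ hm
      · exact hlm i (by simp [hi])
    · rw [digitVal_cons, pow_add, pow_periodic hsm, add_comm a j, pow_add, pow_mul, hj, mul_pow,
        mul_assoc, ← pow_add, ← pow_add, ← digitVal_cons, ← digitVal_cons]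
      exact hls
  have hsub : l.toFinset ⊆ Finset.range m := fun i hi =>
    Finset.mem_range.2 (hlm i (Multiset.mem_toFinset.1 hi))
  have hle : Multiset.card l ≤ m := by
    rw [← Multiset.toFinset_card_of_nodup hnd]
    simpa using Finset.card_le_card hsub
  refine ⟨l, by omega, hle, fun hp3 => ?_, hls⟩
  subst hp3
  by_contra hlt
  have heq : l.toFinset = Finset.range m := Finset.eq_of_subset_of_card_le hsub (by
    rw [Multiset.toFinset_card_of_nodup hnd, Finset.card_range]; omega)
  have h0 : 0 ∈ l := Multiset.mem_toFinset.1 (heq ▸ Finset.mem_range.2 hm)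
  have hjne : j % m ≠ 0 := by
    intro h
    have := pow_periodic (p := 3) hsm j
    rw [h, pow_zero, pow_one, hj] at this
    exact hs1 (mul_left_cancel₀ hs0 (by rw [mul_one]; exact this.symm))
  obtain ⟨l', rfl⟩ := Multiset.exists_cons_of_mem h0
  have hj' : j % m ∈ l' := by
    have h : j % m ∈ 0 ::ₘ l' :=
      Multiset.mem_toFinset.1 (heq ▸ Finset.mem_range.2 (Nat.mod_lt _ hm))
    exact (Multiset.mem_cons.1 h).resolve_left hjne
  obtain ⟨l'', rfl⟩ := Multiset.exists_cons_of_mem hj'
  simp only [Multiset.card_cons] at hl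
  refine hmin ((1 % m) ::ₘ l'') (by simp) (by rw [Multiset.card_cons]; omega) ?_ ?_
  · intro i hi
    rcases Multiset.mem_cons.1 hi with rfl | hi
    · exact Nat.mod_lt _ hm
    · exact hlm i (by simp [hi])
  · rw [digitVal_cons, digitVal_cons, pow_add, pow_add, pow_periodic hsm] at hls
    rw [digitVal_cons, pow_add, pow_periodic hsm]
    rw [hj] at hls
    rw [← hls]
    ring

end Cfsg.Agent.PThree
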