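import Cfsg.Agent.Lib.Classical.PThree.WildLine

/-!
# The invariant form

When the Sylow subgroup fixes the conic form, the sum over its cosets gives an invariant form: for a
small twisted degree directly, otherwise as an eigenvector of an invariant endomorphism of forms.
-/

set_option autoImplicit false
set_option linter.unusedSectionVars false
set_option linter.style.haveILetI false

namespace Cfsg.Agent.PThree

open Matrix Cfsg Cfsg.Geo
open scoped MatrixGroups Kronecker commutatorElement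

variable {F : Type*} [Field F] [Fintype F] {p k : ℕ} [Fact p.Prime] [CharP F p]
  {P : Subgroup (GL (Fin 3) F)}

local notation:max "↥M" g:max => Units.val (Subtype.val g)

/-- The action on coordinate vectors of forms. -/
def actA (σ : F ≃+* F) (g : P) : Matrix (Fin 3 × Fin 3) (Fin 3 × Fin 3) F :=
  (↥M g⁻¹ ⊗ₖ (↥M g⁻¹).map σ)ᵀ

theorem actA_apply (σ : F ≃+* F) (g : P) (i a : Fin 3 × Fin 3) :
    actA σ g i a = ↥M g⁻¹ a.1 i.1 * σ (↥M g⁻¹ a.2 i.2) := rfl

theorem actA_mul (σ : F ≃+* F) (g h : P) : actA σ (g * h) = actA σ g * actA σ h := by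
  rw [actA, actA, actA, ← Matrix.transpose_mul, ← Matrix.mul_kronecker_mul, ← Matrix.map_mul,
    ← Units.val_mul, ← Subgroup.coe_mul, ← _root_.mul_inv_rev]

theorem actA_one (σ : F ≃+* F) : actA σ (1 : P) = 1 := by
  simp [actA]

theorem actA_inv_mul (σ : F ≃+* F) (g : P) : actA σ g⁻¹ * actA σ g = 1 := by
  rw [← actA_mul, inv_mul_cancel, actA_one]

/-- The coordinate vector of the conic form. -/
def conicVec : Fin 3 × Fin 3 → F := fun i => !![0, 0, 1; 0, -1, 0; 1, 0, 0] i.1 i.2

/-- The weight of a coordinate. -/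
def wt (i : Fin 3 × Fin 3) : ℕ := (i.1 : ℕ) + i.2

theorem conicVec_eq_zero {i : Fin 3 × Fin 3} (h : wt i ≠ 2) : (conicVec i : F) = 0 := by
  obtain ⟨a, b⟩ := i
  fin_cases a <;> fin_cases b <;> simp [conicVec, wt] at h ⊢

/-- A fixed vector gives an invariant form. -/
theorem form_of_vec (σ : F ≃+* F) {v : Fin 3 × Fin 3 → F} (hv : v ≠ 0)
    (h : ∀ g : P, actA σ g *ᵥ v = v) : Form P σ := by
  refine ⟨Matrix.of fun a b => v (a, b), fun e => hv (funext fun i => congrFun (congrFun e i.1) i.2),
    fun x hx => Matrix.ext fun i j => ?_⟩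
  have h' := congrFun (h (⟨x, hx⟩⁻¹)) (i, j)
  rw [Matrix.mulVec, dotProduct, Fintype.sum_prod_type] at h'
  simp only [actA_apply, inv_inv] at h'
  refine Eq.trans ?_ h'
  simp only [Matrix.mul_apply, Matrix.transpose_apply, Matrix.map_apply, Matrix.of_apply,
    Finset.sum_mul]
  rw [Finset.sum_comm]
  exact Finset.sum_congr rfl fun a _ => Finset.sum_congr rfl fun b _ => by ring

/-- A triangular element is triangular for the weights. -/
theorem actA_upper (σ : F ≃+* F) {r : P} (hr : IsUpper (↥M r)) {i a : Fin 3 × Fin 3}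
    (h : wt i ≤ wt a) :
    actA σ r i a = if a = i then ↥M r⁻¹ i.1 i.1 * σ (↥M r⁻¹ i.2 i.2) else 0 := by
  obtain ⟨⟨h10, h20, h21⟩, -⟩ := upper_inv (g := (r : GL (Fin 3) F)) hr
  rw [actA_apply]
  obtain ⟨i₁, i₂⟩ := i
  obtain ⟨a₁, a₂⟩ := a
  simp only [Subgroup.coe_inv]
  fin_cases i₁ <;> fin_cases i₂ <;> fin_cases a₁ <;> fin_cases a₂ <;>
    simp only [wt] at h <;> norm_num at h <;>
    simp only [Prod.mk.injEq, Fin.isValue, Fin.zero_eta, Fin.mk_one, Fin.reduceFinMk,
      Fin.reduceEq, and_self, and_false, false_and, if_true, if_false, h10, h20, h21, map_zero,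
      mul_zero, zero_mul]

namespace Shape

variable (sh : Shape p P k)
include sh

theorem actA_mem (σ : F ≃+* F) (h2 : (2 : F) ≠ 0) (i a : Fin 3 × Fin 3) :
    (fun z => actA σ (sh.el z) i a) ∈ dSub F p k (wt i) := by
  have e : (fun z => actA σ (sh.el z) i a) =
      (fun z => ↥M (sh.el (-z)) a.1 i.1) * fun z => (σ : F →+* F) (↥M (sh.el (-z)) a.2 i.2) := by
    funext z
    rw [Pi.mul_apply, actA_apply, sh.el_inv h2]
    rfl
  have hneg : ∀ {d : ℕ} (a b : Fin 3), (b : ℕ) ≤ d →
      (fun z => ↥M (sh.el (-z)) a b) ∈ dSub F p k d := by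
    intro d a b hd
    have h := sh.entry_mem a b
    exact dSub_mono (show (b : ℕ) - a ≤ d by omega) (comp_neg_mem h)
  rw [e]
  exact mul_mem_dSub (hneg a.1 i.1 le_rfl) (map_mem_dSub (σ : F →+* F) (hneg a.2 i.2 le_rfl))

theorem actA_inv_mem (σ : F ≃+* F) (i a : Fin 3 × Fin 3) :
    (fun z => actA σ (sh.el z)⁻¹ i a) ∈ dSub F p k (4 - wt a) := by
  have e : (fun z => actA σ (sh.el z)⁻¹ i a) =
      (fun z => ↥M (sh.el z) a.1 i.1) * fun z => (σ : F →+* F) (↥M (sh.el z) a.2 i.2) := by
    funext z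
    rw [Pi.mul_apply, actA_apply, inv_inv]
    rfl
  rw [e]
  refine dSub_mono ?_ (mul_mem_dSub (sh.entry_mem a.1 i.1) (map_mem_dSub (σ : F →+* F) (sh.entry_mem a.2 i.2)))
  have := i.1.isLt
  have := i.2.isLt
  have := a.1.isLt
  have := a.2.isLt
  simp only [wt]
  omega

/-- The unitriangular elements fix the conic. -/
theorem conic_fixed (h2 : (2 : F) ≠ 0) (hb : ∀ x, sh.b x = 0) (σ : F ≃+* F)
    (hσ : ∀ x, σ (sh.e x) = sh.e x) {u : P} (hu : u ∈ uniU P) :
    actA σ u *ᵥ (conicVec : Fin 3 × Fin 3 → F) = conicVec ∧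
      (conicVec : Fin 3 × Fin 3 → F) ᵥ* actA σ u = conicVec := by
  obtain ⟨x, rfl⟩ := sh.exists_el hu
  have hv : ↥M (sh.el x)⁻¹ = expU (-sh.e x) 0 := by
    rw [sh.el_inv h2, sh.el_val, map_neg, hb]
  have h2' : σ (2 : F) = 2 := map_ofNat σ 2
  constructor <;> funext i <;> obtain ⟨i₁, i₂⟩ := i <;>
    simp only [Matrix.mulVec, Matrix.vecMul, dotProduct, Fintype.sum_prod_type, Fin.sum_univ_three,
      actA_apply, hv, expU, conicVec] <;>
    fin_cases i₁ <;> fin_cases i₂ <;> simp [hσ, h2', map_ofNat] <;> field_simp <;> ring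

/-- A twisted form from the sum over the cosets. -/
theorem form_small (hp2 : p ≠ 2) (hb : ∀ x, sh.b x = 0) (σ : F ≃+* F)
    (hσ : ∀ x, σ (sh.e x) = sh.e x) (hdeg : 2 < k * (p - 1))
    (hgr : ∀ g : P, IsUpper (↥M g) → ↥M g 0 0 * σ (↥M g 2 2) = 1) : Form P σ := by
  classical
  have h2 : (2 : F) ≠ 0 := two_ne_zero_of_odd hp2 Fact.out
  letI : Fintype (uniU P) := Fintype.ofFinite _
  let act : P → (Fin 3 × Fin 3 → F) →+ (Fin 3 × Fin 3 → F) := fun g =>
    (Matrix.mulVecLin (actA σ g)).toAddMonoidHom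
  have hact : ∀ g v, act g v = actA σ g *ᵥ v := fun _ _ => rfl
  obtain ⟨f, R, S, hf, hRn, hcard, hfe⟩ := coset_sum (uniU P) act (fun g h x => by
      rw [hact, hact, hact, actA_mul, Matrix.mulVec_mulVec]) conicVec
    (fun u hu => (sh.conic_fixed h2 hb σ hσ hu).1) sh.ti
  refine form_of_vec σ (v := f) (fun e => sh.natCast_ne_zero hcard ?_) fun g => hf g
  have hf0 := congrFun e (0, 2)
  rw [hfe, Pi.add_apply, Finset.sum_apply, Finset.sum_apply,
    Finset.sum_congr rfl (g := fun _ => (1 : F)) fun r hr => ?_, Finset.sum_const,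
    Finset.sum_eq_zero fun s _ => ?_, add_zero, nsmul_one, Pi.zero_apply] at hf0
  · exact hf0
  · rw [Finset.sum_apply, sh.sum_el (fun u => act (u * s) conicVec (0, 2))]
    refine sum_eq_zero_of_dSub hdeg ?_
    have he : (fun z => act (sh.el z * s) conicVec (0, 2)) =
        ∑ a, (actA σ s *ᵥ conicVec) a • fun z => actA σ (sh.el z) (0, 2) a := by
      funext z
      rw [hact, actA_mul, ← Matrix.mulVec_mulVec, Finset.sum_apply, Matrix.mulVec, dotProduct]
      exact Finset.sum_congr rfl fun a _ => mul_comm _ _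
    rw [he]
    exact Submodule.sum_mem _ fun a _ => Submodule.smul_mem _ _ (sh.actA_mem σ h2 (0, 2) a)
  · have hr' := sh.upper_of_normal (hRn r hr)
    rw [hact, Matrix.mulVec, dotProduct, Finset.sum_eq_single ((0, 2) : Fin 3 × Fin 3)
      (fun a _ ha => ?_) (fun h => absurd (Finset.mem_univ _) h), actA_upper σ hr' le_rfl, if_pos rfl]
    · rw [hgr r⁻¹ (upper_inv (g := (r : GL (Fin 3) F)) hr').1]
      simp [conicVec]
    · by_cases hw : wt a = 2
      · rw [actA_upper σ hr' (by rw [hw]; decide), if_neg ha, zero_mul]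
      · rw [conicVec_eq_zero hw, mul_zero]

/-- A bilinear form from the invariant endomorphism. -/
theorem form_large (hp2 : p ≠ 2) (hp3 : p ≠ 3) (hperf : ⁅P, P⁆ = P) (hb : ∀ x, sh.b x = 0)
    (hdeg : 5 ≤ k * (p - 1)) : Form P (RingEquiv.refl F) := by
  classical
  have hp : p.Prime := Fact.out
  have h2 : (2 : F) ≠ 0 := two_ne_zero_of_odd hp2 hp
  have h3 : (3 : F) ≠ 0 := fun h => hp3 (((Nat.prime_dvd_prime_iff_eq hp Nat.prime_three).1
    ((CharP.cast_eq_zero_iff F p 3).1 (by exact_mod_cast h))))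
  set σ := RingEquiv.refl F with hσdef
  letI : Fintype (uniU P) := Fintype.ofFinite _
  set q : Fin 3 × Fin 3 → F := conicVec with hq
  have hqq : q ⬝ᵥ q = 3 := by
    simp [hq, conicVec, dotProduct, Fintype.sum_prod_type, Fin.sum_univ_three]; norm_num
  let act : P → Matrix (Fin 3 × Fin 3) (Fin 3 × Fin 3) F →+ Matrix (Fin 3 × Fin 3) (Fin 3 × Fin 3) F :=
    fun g => AddMonoidHom.mk' (fun T => actA σ g * T * actA σ g⁻¹) fun T T' => by
      rw [Matrix.mul_add, Matrix.add_mul]
  have hact : ∀ g T, act g T = actA σ g * T * actA σ g⁻¹ := fun _ _ => rfl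
  have hfix : ∀ u ∈ uniU P, act u (vecMulVec q q) = vecMulVec q q := fun u hu => by
    rw [hact, Matrix.mul_vecMulVec, Matrix.vecMulVec_mul,
      (sh.conic_fixed h2 hb σ (fun _ => rfl) hu).1,
      (sh.conic_fixed h2 hb σ (fun _ => rfl) (inv_mem hu)).2]
  obtain ⟨f, R, S, hf, hRn, hcard, hfe⟩ := coset_sum (uniU P) act (fun g h x => by
      rw [hact, hact, hact, _root_.mul_inv_rev, actA_mul, actA_mul]
      simp only [Matrix.mul_assoc]) (vecMulVec q q) hfix sh.ti
  set r₀ : F := (R.card : F)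
  have hr0 : r₀ ≠ 0 := sh.natCast_ne_zero hcard
  -- the endomorphism is triangular
  have hlow : ∀ i j, wt i ≤ wt j → f i j = r₀ * (q i * q j) := by
    intro i j hij
    rw [hfe, Matrix.add_apply, Matrix.sum_apply, Matrix.sum_apply,
      Finset.sum_congr rfl (g := fun _ => q i * q j) fun r hr => ?_, Finset.sum_const, nsmul_eq_mul,
      Finset.sum_eq_zero fun s _ => ?_, add_zero]
    · rw [Matrix.sum_apply, sh.sum_el (fun u => act (u * s) (vecMulVec q q) i j)]
      refine sum_eq_zero_of_dSub (d := wt i + (4 - wt j)) ?_ ?_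
      · have : wt j ≤ 4 := by
          have := j.1.isLt
          have := j.2.isLt
          simp only [wt]; omega
        omega
      set T := actA σ s * vecMulVec q q * actA σ s⁻¹
      have he : (fun z => act (sh.el z * s) (vecMulVec q q) i j) =
          ∑ a, ∑ b, T a b • ((fun z => actA σ (sh.el z) i a) * fun z => actA σ (sh.el z)⁻¹ b j) := by
        funext z
        have e : actA σ (sh.el z * s) * vecMulVec q q * actA σ (sh.el z * s)⁻¹ =
            actA σ (sh.el z) * T * actA σ (sh.el z)⁻¹ := by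
          rw [_root_.mul_inv_rev, actA_mul, actA_mul]
          simp only [T, Matrix.mul_assoc]
        rw [hact, e]
        simp only [Finset.sum_apply, Pi.smul_apply, Pi.mul_apply, smul_eq_mul, Matrix.mul_apply,
          Finset.sum_mul]
        rw [Finset.sum_comm]
        exact Finset.sum_congr rfl fun a _ => Finset.sum_congr rfl fun b _ => by ring
      rw [he]
      exact Submodule.sum_mem _ fun a _ => Submodule.sum_mem _ fun b _ =>
        Submodule.smul_mem _ _ (mul_mem_dSub (sh.actA_mem σ h2 i a) (sh.actA_inv_mem σ b j))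
    · have hr' : IsUpper (↥M r) := sh.upper_of_normal (hRn r hr)
      obtain ⟨hri, hd⟩ := upper_inv (g := (r : GL (Fin 3) F)) hr'
      obtain ⟨c, μ, -, h11, h00, -⟩ := sh.upper_rel h2 hr'
      obtain ⟨c', μ', -, h11', h00', -⟩ := sh.upper_rel h2 (r := r⁻¹) hri
      rw [hact, Matrix.mul_vecMulVec, Matrix.vecMulVec_mul, Matrix.vecMulVec_apply]
      set V := ↥M r⁻¹ with hV
      set W := ↥M r with hW
      have e1 : wt i ≤ 2 → (actA σ r *ᵥ q) i = V 0 0 * V 2 2 * q i := by
        intro hi
        rw [Matrix.mulVec, dotProduct, Finset.sum_eq_single i (fun a _ ha => ?_)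
          (fun h => absurd (Finset.mem_univ _) h), actA_upper σ hr' le_rfl, if_pos rfl]
        · by_cases hw : wt i = 2
          · congr 1
            show ↥M r⁻¹ i.1 i.1 * ↥M r⁻¹ i.2 i.2 = V 0 0 * V 2 2
            rw [← hV]
            obtain ⟨i₁, i₂⟩ := i
            fin_cases i₁ <;> fin_cases i₂ <;> simp [wt] at hw <;>
              simp only [Fin.isValue, Fin.zero_eta, Fin.mk_one, Fin.reduceFinMk]
            · rw [h11', h00']; ring
            · ring
          · rw [hq, conicVec_eq_zero hw, mul_zero, mul_zero]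
        · by_cases hw : wt a = 2
          · rw [actA_upper σ hr' (by omega), if_neg ha, zero_mul]
          · rw [hq, conicVec_eq_zero hw, mul_zero]
      have e2 : 2 ≤ wt j → (q ᵥ* actA σ r⁻¹) j = W 0 0 * W 2 2 * q j := by
        intro hj
        rw [Matrix.vecMul, dotProduct, Finset.sum_eq_single j (fun a _ ha => ?_)
          (fun h => absurd (Finset.mem_univ _) h), actA_upper σ (r := r⁻¹) hri le_rfl, if_pos rfl]
        · by_cases hw : wt j = 2
          · rw [mul_comm (q j)]
            congr 1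
            show ↥M r⁻¹⁻¹ j.1 j.1 * ↥M r⁻¹⁻¹ j.2 j.2 = W 0 0 * W 2 2
            rw [inv_inv, ← hW]
            obtain ⟨j₁, j₂⟩ := j
            fin_cases j₁ <;> fin_cases j₂ <;> simp [wt] at hw <;>
              simp only [Fin.isValue, Fin.zero_eta, Fin.mk_one, Fin.reduceFinMk]
            · rw [h11, h00]; ring
            · ring
          · rw [hq, conicVec_eq_zero hw, mul_zero, zero_mul]
        · by_cases hw : wt a = 2
          · rw [actA_upper σ (r := r⁻¹) hri (by omega), if_neg (Ne.symm ha), mul_zero]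
          · rw [hq, conicVec_eq_zero hw, zero_mul]
      have hdd : V 0 0 * V 2 2 * (W 0 0 * W 2 2) = 1 := by
        have h0 : V 0 0 * W 0 0 = 1 := hd 0
        have h2 : V 2 2 * W 2 2 = 1 := hd 2
        linear_combination h0 * (V 2 2 * W 2 2) + h2
      rcases lt_trichotomy (wt i) 2 with hi | hi | hi
      · rw [e1 hi.le, show q i = 0 from conicVec_eq_zero (by omega)]
        simp
      · rw [e1 hi.le, e2 (by omega)]
        linear_combination (q i * q j) * hdd
      · rw [e2 (by omega), show q j = 0 from conicVec_eq_zero (by omega)]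
        simp
  set D := f - r₀ • vecMulVec q q with hD
  have hDlow : ∀ i j, wt i ≤ wt j → D i j = 0 := fun i j h => by
    rw [hD, Matrix.sub_apply, Matrix.smul_apply, Matrix.vecMulVec_apply, hlow i j h, smul_eq_mul,
      sub_self]
  have hfv : ∀ v i, (f *ᵥ v) i = r₀ * (q ⬝ᵥ v) * q i + (D *ᵥ v) i := by
    intro v i
    have e : f = r₀ • vecMulVec q q + D := by rw [hD, add_sub_cancel]
    rw [e, Matrix.add_mulVec, Matrix.smul_mulVec, Matrix.vecMulVec_mulVec, Pi.add_apply,
      Pi.smul_apply, Pi.smul_apply]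
    simp [mul_comm, mul_assoc]
  have hDz : ∀ v : Fin 3 × Fin 3 → F, ∀ i, (∀ j, wt j < wt i → v j = 0) → (D *ᵥ v) i = 0 := by
    intro v i hv
    show ∑ j, D i j * v j = 0
    refine Finset.sum_eq_zero fun j _ => ?_
    rcases le_or_gt (wt i) (wt j) with h | h
    · exact mul_eq_zero_of_left (hDlow i j h) _
    · exact mul_eq_zero_of_right _ (hv j h)
  set lam : F := 3 * r₀
  have hlam : lam ≠ 0 := mul_ne_zero h3 hr0
  -- an eigenvector with nonzero conic coordinate
  have hker0 : ∀ v, f *ᵥ v = lam • v → q ⬝ᵥ v = 0 → v = 0 := by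
    intro v hv hs
    have key : ∀ n i, wt i = n → v i = 0 := by
      intro n
      induction n using Nat.strong_induction_on with
      | _ n ih =>
        intro i hi
        have h := congrFun hv i
        rw [hfv, hs, hDz v i (fun j hj => ih (wt j) (by omega) j rfl), Pi.smul_apply, smul_eq_mul,
          mul_zero, zero_mul, zero_add] at h
        exact (mul_eq_zero.1 h.symm).resolve_left hlam
    exact funext fun i => key _ i rfl
  obtain ⟨w, hw, hw0⟩ : ∃ w, f *ᵥ w = lam • w ∧ w ≠ 0 := by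
    by_contra hno
    push Not at hno
    let L : (Fin 3 × Fin 3 → F) →ₗ[F] (Fin 3 × Fin 3 → F) := Matrix.mulVecLin f - lam • LinearMap.id
    have hinj : Function.Injective L := by
      rw [← LinearMap.ker_eq_bot, LinearMap.ker_eq_bot']
      intro v hv
      exact hno v (sub_eq_zero.1 hv)
    obtain ⟨v, hv⟩ := LinearMap.injective_iff_surjective.1 hinj q
    have hv' : ∀ i, r₀ * (q ⬝ᵥ v) * q i + (D *ᵥ v) i - lam * v i = q i := fun i => by
      rw [← hfv]; exact congrFun hv i
    have key : ∀ n i, wt i = n → n < 2 → v i = 0 := by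
      intro n
      induction n using Nat.strong_induction_on with
      | _ n ih =>
        intro i hi hn
        have h := hv' i
        rw [hDz v i (fun j hj => ih (wt j) (by omega) j rfl (by omega)),
          show q i = 0 from conicVec_eq_zero (by omega)] at h
        simp [hlam] at h
        exact h
    have hs : lam * (q ⬝ᵥ v) = (r₀ * (q ⬝ᵥ v) - 1) * (q ⬝ᵥ q) := by
      simp only [dotProduct, Finset.mul_sum]
      refine Finset.sum_congr rfl fun i _ => ?_
      by_cases hi : wt i = 2
      · have h := hv' i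
        rw [hDz v i (fun j hj => key _ j rfl (by omega))] at h
        simp only [dotProduct, Finset.mul_sum] at h
        linear_combination -q i * h
      · rw [show q i = 0 from conicVec_eq_zero hi]; ring
    rw [hqq] at hs
    exact h3 (by linear_combination hs)
  have hsw : q ⬝ᵥ w ≠ 0 := fun h => hw0 (hker0 w hw h)
  have heig : ∀ g : P, ∃ c : F, actA σ g *ᵥ w = c • w := by
    intro g
    have hcomm : f * actA σ g = actA σ g * f := by
      conv_lhs => rw [← hf g, hact, Matrix.mul_assoc, actA_inv_mul, Matrix.mul_one]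
    set v := actA σ g *ᵥ w
    have hv : f *ᵥ v = lam • v := by
      rw [Matrix.mulVec_mulVec, hcomm, ← Matrix.mulVec_mulVec, hw, Matrix.mulVec_smul]
    refine ⟨(q ⬝ᵥ v) / (q ⬝ᵥ w), sub_eq_zero.1 (hker0 _ ?_ ?_)⟩
    · rw [Matrix.mulVec_sub, Matrix.mulVec_smul, hv, hw, smul_sub, smul_comm]
    · rw [dotProduct_sub, dotProduct_smul, smul_eq_mul, div_mul_cancel₀ _ hsw, sub_self]
  choose χ hχ using heig
  have hχm : ∀ g h, χ (g * h) = χ g * χ h := fun g h => by
    have e : χ (g * h) • w = (χ g * χ h) • w := by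
      rw [← hχ, actA_mul, ← Matrix.mulVec_mulVec, hχ, Matrix.mulVec_smul, hχ, smul_smul, mul_comm]
    exact smul_left_injective F hw0 e
  have hχ1 : χ 1 = 1 := smul_left_injective F hw0 (show χ 1 • w = (1 : F) • w by
    rw [← hχ, actA_one, Matrix.one_mulVec, one_smul])
  let φ : P →* F := { toFun := χ, map_one' := hχ1, map_mul' := hχm }
  have htriv : ∀ g : P, χ g = 1 := by
    have hle : P ≤ φ.ker.map P.subtype := by
      conv_lhs => rw [← hperf]
      refine Subgroup.commutator_le.2 fun a ha b hb =>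
        ⟨⁅(⟨a, ha⟩ : P), (⟨b, hb⟩ : P)⁆, ?_, rfl⟩
      show φ _ = 1
      simp only [commutatorElement_def, map_mul]
      rw [mul_right_comm (φ ⟨a, ha⟩), ← map_mul, mul_inv_cancel, map_one, one_mul, ← map_mul,
        mul_inv_cancel, map_one]
    intro g
    obtain ⟨g', hg', e⟩ := hle g.2
    rw [← Subtype.ext (show (g' : GL (Fin 3) F) = g from e)]
    exact hg'
  refine form_of_vec σ hw0 fun g => ?_
  rw [hχ, htriv, one_smul]

end Shape

end Cfsg.Agent.PThree
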