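import Cfsg.Agent.Lib.Classical.PThree.WildAux
import Cfsg.Agent.Lib.Classical.PThree.WildExp

/-!
# The second coordinate is a multiple of the first

Otherwise a short monomial in `v` and `φ` is fixed by the normaliser of the Sylow subgroup and the
sum over the cosets is a nonzero invariant, against irreducibility.
-/

set_option autoImplicit false
set_option linter.unusedSectionVars false
set_option linter.style.haveILetI false

namespace Cfsg.Agent.PThree

open Matrix Cfsg Cfsg.Geo
open scoped MatrixGroups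

variable {F : Type*} [Field F] [Fintype F] {p k : ℕ} [Fact p.Prime] [CharP F p]
  {P : Subgroup (GL (Fin 3) F)}

local notation:max "↥M" g:max => Units.val (Subtype.val g)

theorem comp_neg_mem {d : ℕ} {f : (Fin k → ZMod p) → F} (hf : f ∈ dSub F p k d) :
    (fun z => f (-z)) ∈ dSub F p k d := by
  induction hf using Submodule.span_induction with
  | zero => exact Submodule.zero_mem _
  | add f g _ _ hf hg => exact Submodule.add_mem _ hf hg
  | smul c f _ hf => exact Submodule.smul_mem _ c hf
  | mem f hfm =>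
    obtain ⟨d', hd', L, rfl⟩ := hfm
    exact Submodule.subset_span ⟨d', hd', fun j => -L j, funext fun x => by simp⟩

theorem pow_digitVal_mem {d : ℕ} {f : (Fin k → ZMod p) → F} (hf : f ∈ dSub F p k d)
    (l : Multiset ℕ) :
    (fun z => f z ^ digitVal p l) ∈ dSub F p k (Multiset.card l * d) := by
  induction l using Multiset.induction_on with
  | empty => simpa [digitVal] using const_mem_dSub (p := p) (k := k) (1 : F) 0
  | cons a l ih =>
    rw [Multiset.card_cons, add_mul, one_mul, add_comm]
    have h := mul_mem_dSub (map_mem_dSub (iterateFrobenius F p a) hf) ih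
    convert h using 1
    funext z
    simp [digitVal_cons, pow_add, iterateFrobenius_def]

/-- Two compatible scalings by `s` and `t` are Galois conjugate. -/
theorem exists_frobenius {e b : (Fin k → ZMod p) →+ F} (he : Function.Injective e)
    {b' : Fin k → ZMod p} (hb : b b' ≠ 0) (T : (Fin k → ZMod p) →+ (Fin k → ZMod p)) {s t : F}
    (hs : ∀ x, e (T x) = s * e x) (ht : ∀ x, b (T x) = t * b x) :
    ∃ j m, 0 < m ∧ m ≤ k ∧ s ^ p ^ m = s ∧ s ^ p ^ j = t := by
  classical
  letI : Algebra (ZMod p) F := ZMod.algebra F p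
  haveI : Finite F := Finite.of_fintype F
  let Tl : Module.End (ZMod p) (Fin k → ZMod p) := T.toZModLinearMap p
  have key : ∀ (L : (Fin k → ZMod p) →+ F) (u : F), (∀ x, L (T x) = u * L x) →
      ∀ (q : Polynomial (ZMod p)) x,
        L (Polynomial.aeval Tl q x) = Polynomial.aeval u q * L x := by
    intro L u hu q
    induction q using Polynomial.induction_on' with
    | add a c ha hc => intro x; simp [map_add, ha, hc, add_mul]
    | monomial n a =>
      intro x
      have hn : ∀ n x, L ((Tl ^ n) x) = u ^ n * L x := by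
        intro n
        induction n with
        | zero => simp
        | succ n ih =>
          intro x
          rw [pow_succ, Module.End.mul_apply, ih, pow_succ, mul_assoc]
          exact congrArg _ (hu x)
      rw [Polynomial.aeval_monomial, Polynomial.aeval_monomial, Module.End.mul_apply,
        Module.algebraMap_end_apply, mul_assoc, ← hn]
      rw [← Algebra.smul_def]
      exact map_smul (L.toZModLinearMap p) a _
  obtain ⟨x₀, hx₀⟩ : ∃ x, e x ≠ 0 := by
    refine ⟨b', fun h => hb ?_⟩
    rw [he (h.trans (map_zero e).symm), map_zero]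
  have hint : IsIntegral (ZMod p) s := Algebra.IsIntegral.isIntegral s
  have hchar : Polynomial.aeval s (LinearMap.charpoly Tl) = 0 := by
    have h := key e s hs (LinearMap.charpoly Tl) x₀
    rw [LinearMap.aeval_self_charpoly, LinearMap.zero_apply, map_zero] at h
    exact (mul_eq_zero.1 h.symm).resolve_right hx₀
  have hdeg : (minpoly (ZMod p) s).natDegree ≤ k := by
    refine le_trans (Polynomial.natDegree_le_of_dvd (minpoly.dvd _ _ hchar)
      (LinearMap.charpoly_monic Tl).ne_zero) (le_of_eq ?_)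
    rw [LinearMap.charpoly_natDegree, Module.finrank_fin_fun]
  have hT : ∀ x, Polynomial.aeval Tl (minpoly (ZMod p) s) x = 0 := fun x => he (by
    rw [key e s hs, minpoly.aeval, zero_mul, map_zero])
  have htr : Polynomial.aeval t (minpoly (ZMod p) s) = 0 := by
    have h := key b t ht (minpoly (ZMod p) s) b'
    rw [hT, map_zero] at h
    exact (mul_eq_zero.1 h.symm).resolve_right hb
  have heq : minpoly (ZMod p) s = minpoly (ZMod p) t :=
    minpoly.eq_of_irreducible_of_monic (minpoly.irreducible hint) htr (minpoly.monic hint)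
  obtain ⟨σ, hσ⟩ := (Normal.minpoly_eq_iff_mem_orbit (F := ZMod p) (E := F)).1 heq.symm
  obtain ⟨j, rfl⟩ := (FiniteField.bijective_frobeniusAlgEquivOfAlgebraic_pow (ZMod p) F).2 σ
  refine ⟨j, _, minpoly.natDegree_pos hint, hdeg, ?_, ?_⟩
  · set K : IntermediateField (ZMod p) F := IntermediateField.adjoin (ZMod p) {s}
    haveI : Fintype K := Fintype.ofFinite K
    have hK : Fintype.card K = p ^ (minpoly (ZMod p) s).natDegree := by
      rw [Module.card_eq_pow_finrank (K := ZMod p) (V := K), ZMod.card,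
        IntermediateField.adjoin.finrank hint]
    have h := FiniteField.pow_card (⟨s, IntermediateField.mem_adjoin_simple_self _ s⟩ : K)
    rw [hK] at h
    exact congrArg Subtype.val h
  · simp only [AlgEquiv.smul_def, AlgEquiv.coe_pow,
      FiniteField.coe_frobeniusAlgEquivOfAlgebraic_iterate, ZMod.card] at hσ
    exact hσ

namespace Shape

variable (sh : Shape p P k)
include sh

/-- The triangular elements. -/
private def upperSub (P : Subgroup (GL (Fin 3) F)) : Subgroup P where
  carrier := {g | IsUpper (↥M g)}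
  one_mem' := by simp [IsUpper]
  mul_mem' := fun {a b} ha hb => by
    show IsUpper _
    rw [Subgroup.coe_mul, Units.val_mul]
    exact (isUpper_mul ha hb).1
  inv_mem' := fun {a} ha => by
    show IsUpper _
    rw [Subgroup.coe_inv]
    exact (upper_inv ha).1

omit sh in
theorem det_upper (hsl : P ≤ specialLinear (Fin 3) F) {r : P} (hr : IsUpper (↥M r)) :
    ↥M r 0 0 * ↥M r 1 1 * ↥M r 2 2 = 1 := by
  have h := congrArg Units.val (show Matrix.GeneralLinearGroup.det (r : GL (Fin 3) F) = 1 from hsl r.2)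
  obtain ⟨h10, h20, h21⟩ := hr
  rw [Matrix.GeneralLinearGroup.val_det_apply, Matrix.det_fin_three, h10, h20, h21, Units.val_one] at h
  linear_combination h

/-- The exponents of an invariant monomial. -/
theorem exists_exponents (hp2 : p ≠ 2) (hsl : P ≤ specialLinear (Fin 3) F) (hk : 2 ≤ k)
    (hb : ∀ δ : F, ∃ x, sh.b x ≠ δ * sh.e x) :
    ∃ la lb : Multiset ℕ, 0 < Multiset.card la + Multiset.card lb ∧
      2 * (Multiset.card la + Multiset.card lb) < k * (p - 1) ∧
      ∀ r : P, IsUpper (↥M r) →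
        ↥M r 0 0 ^ digitVal p la * (↥M r⁻¹ 2 2) ^ digitVal p lb = 1 := by
  classical
  have hp : p.Prime := Fact.out
  have h2 : (2 : F) ≠ 0 := two_ne_zero_of_odd hp2 hp
  have hd : ∀ r ∈ upperSub P, ↥M r 1 1 ≠ 0 ∧ ↥M r 2 2 ≠ 0 := fun r hr => by
    have h := det_upper hsl (r := r) hr
    constructor <;> intro e <;> rw [e] at h <;> simp at h
  let χ : upperSub P →* Fˣ :=
    { toFun := fun r => Units.mk0 (↥M r.1 1 1 / ↥M r.1 2 2) (div_ne_zero (hd _ r.2).1 (hd _ r.2).2)
      map_one' := Units.ext (by simp)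
      map_mul' := fun r r' => Units.ext (by
        obtain ⟨-, e⟩ := isUpper_mul r.2 r'.2
        simp only [Units.val_mk0, Subgroup.coe_mul, Units.val_mul, e]
        rw [mul_div_mul_comm]) }
  obtain ⟨⟨_, r₀, rfl⟩, hgen⟩ := IsCyclic.exists_generator (α := χ.range)
  have hpow : ∀ r, ∃ n : ℤ, χ r = χ r₀ ^ n := by
    intro r
    obtain ⟨n, hn⟩ := Subgroup.mem_zpowers_iff.1 (hgen ⟨χ r, r, rfl⟩)
    exact ⟨n, (congrArg Subtype.val hn).symm⟩
  set s₀ : F := (χ r₀ : F)
  -- exponents killing the scalars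
  obtain ⟨la, lb, hpos, hsmall, hs, hc⟩ : ∃ la lb : Multiset ℕ,
      0 < Multiset.card la + Multiset.card lb ∧
      2 * (Multiset.card la + Multiset.card lb) < k * (p - 1) ∧
      s₀ ^ (digitVal p la + digitVal p lb) = 1 ∧
      (p = 3 ∨ 3 ∣ digitVal p la + 2 * digitVal p lb) := by
    have hp5 : p ≠ 3 → 4 * k ≤ k * (p - 1) := fun h3 => by
      rw [mul_comm k]
      refine Nat.mul_le_mul_right k ?_
      have := hp.two_le
      have h4 : p ≠ 4 := fun e => by rw [e] at hp; norm_num at hp
      omega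
    have hp3 : p = 3 → k * (p - 1) = 2 * k := fun h3 => by rw [h3, mul_comm]
    by_cases hs1 : s₀ = 1
    · by_cases h3 : p = 3
      · exact ⟨{0}, 0, by simp, by simp; have := hp3 h3; omega, by simp [hs1], Or.inl h3⟩
      · exact ⟨{0}, {0}, by simp, by simp; have := hp5 h3; omega, by simp [hs1],
          Or.inr (by simp [digitVal])⟩
    obtain ⟨s, μ, hs0, h11, -, hrel⟩ := sh.upper_rel h2 (r := r₀.1) r₀.2
    have hss : s₀ = s := by
      show ↥M r₀.1 1 1 / ↥M r₀.1 2 2 = s
      rw [h11, mul_div_assoc, div_self (hd _ r₀.2).2, mul_one]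
    choose T hT using hrel
    have hne : s - s * s ≠ 0 := by
      intro e
      refine hs1 (hss.trans (mul_left_cancel₀ hs0 ?_))
      linear_combination -e
    set δ := μ / (s - s * s) with hδ
    obtain ⟨x₀, hx₀⟩ := hb δ
    let Th : (Fin k → ZMod p) →+ (Fin k → ZMod p) := AddMonoidHom.mk' T fun x y => sh.inj (by
      rw [map_add, (hT _).1, (hT x).1, (hT y).1, map_add, mul_add])
    obtain ⟨j, m, hm, hmk, hsm, hsj⟩ := exists_frobenius sh.inj
      (b := sh.b - (AddMonoidHom.mulLeft δ).comp sh.e) (b' := x₀)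
      (by simpa [sub_eq_zero] using hx₀) Th (s := s) (t := s * s) (fun x => (hT x).1) fun x => by
        have hμ : μ = δ * (s - s * s) := by rw [hδ, div_mul_cancel₀ _ hne]
        simp only [AddMonoidHom.sub_apply, AddMonoidHom.comp_apply, AddMonoidHom.coe_mulLeft,
          Th, AddMonoidHom.mk'_apply, (hT x).1, (hT x).2, hμ]
        ring
    rw [hss]
    obtain ⟨l, hl0, hlm, hl3, hls⟩ := exists_short hm (hss ▸ hs1) hs0 hsm hsj
    by_cases h3 : p = 3
    · refine ⟨l, 0, by simpa using hl0, ?_, by simpa [digitVal] using hls, Or.inl h3⟩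
      have := hp3 h3
      have := hl3 h3
      simp only [Multiset.card_zero, add_zero]
      omega
    obtain ⟨la, lb, hl, hdvd⟩ := split_three (p := p)
      (fun h => h3 ((Nat.prime_dvd_prime_iff_eq Nat.prime_three hp).1 h).symm) _ l rfl (fun e => by
        obtain ⟨a, rfl⟩ := Multiset.card_eq_one.1 e
        refine hs1 (hss.trans ?_)
        simp only [digitVal, Multiset.map_singleton, Multiset.sum_singleton] at hls
        rw [← iterateFrobenius_def (R := F) p] at hls
        exact RingHom.injective _ (hls.trans (map_one _).symm))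
    have hcard : Multiset.card la + Multiset.card lb = Multiset.card l := by
      rw [← hl, Multiset.card_add]
    exact ⟨la, lb, by omega, by have := hp5 h3; omega, by rw [← digitVal_add, hl]; exact hls,
      Or.inr hdvd⟩
  refine ⟨la, lb, hpos, hsmall, fun r hr => ?_⟩
  obtain ⟨s, μ, hs0, h11, h00, -⟩ := sh.upper_rel h2 hr
  obtain ⟨n, hn⟩ := hpow ⟨r, hr⟩
  have hss : s = s₀ ^ n := by
    have h := congrArg Units.val hn
    rw [Units.val_zpow_eq_zpow_val] at h
    rw [← h]
    show s = ↥M r 1 1 / ↥M r 2 2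
    rw [h11, mul_div_assoc, div_self (hd r hr).2, mul_one]
  have hsN : s ^ (digitVal p la + digitVal p lb) = 1 := by
    rw [hss, ← zpow_natCast, ← _root_.zpow_mul, mul_comm, _root_.zpow_mul, zpow_natCast, hs, _root_.one_zpow]
  set c := ↥M r 1 1
  set d := ↥M r 2 2
  set d' := ↥M r⁻¹ 2 2
  have hdd : d' * d = 1 := (upper_inv (g := (r : GL (Fin 3) F)) hr).2 2
  have hdet : ↥M r 0 0 * c * d = 1 := det_upper hsl hr
  have hc3 : c ^ 3 = 1 := by
    rw [h00, h11] at hdet
    rw [h11]
    linear_combination hdet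
  have hc1 : c ^ (digitVal p la + 2 * digitVal p lb) = 1 := by
    rcases hc with h3 | ⟨w, hw⟩
    · subst h3
      have hz : (c - 1) ^ 3 = 0 := by rw [sub_pow_char, hc3, one_pow, sub_self]
      rw [sub_eq_zero.1 (pow_eq_zero_iff (three_ne_zero) |>.1 hz), one_pow]
    · rw [hw, pow_mul, hc3, one_pow]
  have ed : d' = s * c ^ 2 := by
    calc d' = d' * c ^ 3 := by rw [hc3, mul_one]
      _ = (d' * d) * (s * c ^ 2) := by rw [h11]; ring
      _ = s * c ^ 2 := by rw [hdd, one_mul]
  have e00 : ↥M r 0 0 = s * c := by rw [h00, h11]; ring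
  calc ↥M r 0 0 ^ digitVal p la * d' ^ digitVal p lb
      = s ^ (digitVal p la + digitVal p lb) * c ^ (digitVal p la + 2 * digitVal p lb) := by
        rw [e00, ed]; ring
    _ = 1 := by rw [hsN, hc1, mul_one]

/-- The second coordinate is a multiple of the first. -/
theorem prop_of_irred (hp2 : p ≠ 2) (hsl : P ≤ specialLinear (Fin 3) F)
    (hirr : ∀ W : Submodule F (Fin 3 → F), (∀ g : P, ∀ w ∈ W, ↥M g *ᵥ w ∈ W) → W = ⊥ ∨ W = ⊤) :
    ∃ δ : F, ∀ x, sh.b x = δ * sh.e x := by
  classical
  have hp : p.Prime := Fact.out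
  have h2 : (2 : F) ≠ 0 := two_ne_zero_of_odd hp2 hp
  by_cases hk : k = 1
  · subst hk
    have h1 : ∀ x : Fin 1 → ZMod p, x = (x 0).val • (fun _ => (1 : ZMod p)) := fun x => by
      funext i
      rw [Subsingleton.elim i 0]
      simp
    refine ⟨sh.b (fun _ => 1) / sh.e (fun _ => 1), fun x => ?_⟩
    have hne : sh.e (fun _ : Fin 1 => (1 : ZMod p)) ≠ 0 := fun e =>
      one_ne_zero (congrFun (sh.inj (e.trans (map_zero sh.e).symm)) 0)
    rw [h1 x, map_nsmul, map_nsmul, nsmul_eq_mul, nsmul_eq_mul]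
    field_simp
  by_contra hno
  push Not at hno
  have hk2 : 2 ≤ k := by have := sh.pos; omega
  obtain ⟨la, lb, hpos, hsmall, hR⟩ := sh.exists_exponents hp2 hsl hk2 hno
  set A := digitVal p la with hA
  set B := digitVal p lb with hB
  haveI : Finite P := inferInstance
  letI : Fintype (uniU P) := Fintype.ofFinite _
  let act : P → ((Fin 3 → F) → (Fin 3 → F) → F) →+ ((Fin 3 → F) → (Fin 3 → F) → F) := fun g =>
    AddMonoidHom.mk' (fun m x y => m (x ᵥ* ↥M g) (↥M g⁻¹ *ᵥ y)) fun _ _ => rfl
  let m : (Fin 3 → F) → (Fin 3 → F) → F := fun x y => x 0 ^ A * y 2 ^ B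
  have hfix : ∀ u ∈ uniU P, act u m = m := by
    intro u hu
    obtain ⟨⟨i10, i20, i21⟩, -, -, i22⟩ : IsUnitri (↥M u⁻¹) := inv_mem hu
    obtain ⟨⟨h10, h20, h21⟩, h00, -, h22⟩ : IsUnitri (↥M u) := hu
    funext x y
    simp only [act, m, AddMonoidHom.mk'_apply]
    rw [show (x ᵥ* ↥M u) 0 = x 0 by simp [Matrix.vecMul, dotProduct, Fin.sum_univ_three, h00, h10, h20],
      show (↥M u⁻¹ *ᵥ y) 2 = y 2 by simp only [Matrix.mulVec, dotProduct, Fin.sum_univ_three, i22, i20, i21, zero_mul, zero_add, one_mul]]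
  obtain ⟨f, R, S, hf, hRn, hcard, hfe⟩ := coset_sum (uniU P) act (fun g g' m => by
      funext x y
      simp only [act, AddMonoidHom.mk'_apply, _root_.mul_inv_rev, Subgroup.coe_mul, Units.val_mul,
        Matrix.vecMul_vecMul, Matrix.mulVec_mulVec]) m hfix sh.ti
  have hR0 : (R.card : F) ≠ 0 := sh.natCast_ne_zero hcard
  have hfv : ∀ x y, f x y = (R.card : F) * (x 0 ^ A * y 2 ^ B) := by
    intro x y
    rw [hfe, Pi.add_apply, Pi.add_apply, Finset.sum_apply, Finset.sum_apply]
    rw [Finset.sum_congr rfl (g := fun _ => x 0 ^ A * y 2 ^ B) fun r hr => ?_, Finset.sum_const,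
      nsmul_eq_mul, Finset.sum_apply, Finset.sum_apply, Finset.sum_eq_zero fun s _ => ?_, add_zero]
    · rw [Finset.sum_apply, Finset.sum_apply,
        sh.sum_el (fun u => act (u * s) m x y)]
      refine sum_eq_zero_of_dSub hsmall ?_
      have e1 : (fun z => (x ᵥ* ↥M (sh.el z * s)) 0) ∈ dSub F p k 2 := by
        have he : (fun z => (x ᵥ* ↥M (sh.el z * s)) 0) =
            ∑ a, ∑ b, (x a * ↥M s b 0) • fun z => ↥M (sh.el z) a b := by
          funext z
          simp only [Finset.sum_apply, Pi.smul_apply, smul_eq_mul, Subgroup.coe_mul, Units.val_mul,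
            Matrix.vecMul, dotProduct, Matrix.mul_apply, Finset.mul_sum]
          exact Finset.sum_congr rfl fun a _ => Finset.sum_congr rfl fun b _ => by ring
        rw [he]
        exact Submodule.sum_mem _ fun a _ => Submodule.sum_mem _ fun b _ =>
          Submodule.smul_mem _ _ (dSub_mono (by omega) (sh.entry_mem a b))
      have e2 : (fun z => (↥M (sh.el z * s)⁻¹ *ᵥ y) 2) ∈ dSub F p k 2 := by
        have he : (fun z => (↥M (sh.el z * s)⁻¹ *ᵥ y) 2) =
            ∑ a, ∑ b, (↥M s⁻¹ 2 a * y b) • fun z => ↥M (sh.el (-z)) a b := by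
          funext z
          rw [_root_.mul_inv_rev, sh.el_inv h2]
          simp only [Finset.sum_apply, Pi.smul_apply, smul_eq_mul, Subgroup.coe_mul, Units.val_mul,
            Matrix.mulVec, dotProduct, Matrix.mul_apply, Finset.sum_mul]
          rw [Finset.sum_comm]
          exact Finset.sum_congr rfl fun a _ => Finset.sum_congr rfl fun b _ => by ring
        rw [he]
        exact Submodule.sum_mem _ fun a _ => Submodule.sum_mem _ fun b _ =>
          Submodule.smul_mem _ _ (dSub_mono (by omega) (comp_neg_mem (sh.entry_mem a b)))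
      have h := mul_mem_dSub (pow_digitVal_mem e1 la) (pow_digitVal_mem e2 lb)
      rw [← add_mul, mul_comm] at h
      exact h
    · obtain ⟨h10, h20, -⟩ := sh.upper_of_normal (hRn r hr)
      obtain ⟨⟨-, i20, i21⟩, -⟩ := upper_inv (g := (r : GL (Fin 3) F)) (sh.upper_of_normal (hRn r hr))
      simp only [act, m, AddMonoidHom.mk'_apply]
      rw [show (x ᵥ* ↥M r) 0 = x 0 * ↥M r 0 0 by
          simp [Matrix.vecMul, dotProduct, Fin.sum_univ_three, h10, h20],
        show (↥M r⁻¹ *ᵥ y) 2 = ↥M r⁻¹ 2 2 * y 2 by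
          simp only [Subgroup.coe_inv, Matrix.mulVec, dotProduct, Fin.sum_univ_three, i20, i21,
            zero_mul, zero_add],
        mul_pow, mul_pow]
      have h := hR r (sh.upper_of_normal (hRn r hr))
      linear_combination (x 0 ^ A * y 2 ^ B) * h
  have hinv : ∀ (g : P) x y, (x ᵥ* ↥M g) 0 ^ A * (↥M g⁻¹ *ᵥ y) 2 ^ B = x 0 ^ A * y 2 ^ B := by
    intro g x y
    refine mul_left_cancel₀ hR0 ?_
    rw [← hfv, ← hfv]
    exact congrFun (congrFun (hf g) x) y
  have hpos' : ∀ l : Multiset ℕ, 0 < Multiset.card l → digitVal p l ≠ 0 := by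
    intro l hl
    obtain ⟨a, ha⟩ := Multiset.card_pos_iff_exists_mem.1 hl
    obtain ⟨l, rfl⟩ := Multiset.exists_cons_of_mem ha
    rw [digitVal_cons]
    have := pow_pos hp.pos a
    omega
  by_cases hla : Multiset.card la = 0
  · -- an invariant plane
    have hB0 : B ≠ 0 := hpos' lb (by omega)
    have hA0 : A = 0 := by rw [hA, Multiset.card_eq_zero.1 hla]; simp [digitVal]
    rcases hirr (LinearMap.ker (LinearMap.proj 2 : (Fin 3 → F) →ₗ[F] F)) (fun g w hw => by
        have hw' : w 2 = 0 := hw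
        have h := hinv g⁻¹ 0 w
        rw [inv_inv, hA0, hw', zero_pow hB0, pow_zero, pow_zero, one_mul, one_mul,
          pow_eq_zero_iff hB0] at h
        exact h) with h | h
    · have h1 : (Pi.single 0 1 : Fin 3 → F) ∈ LinearMap.ker (LinearMap.proj 2 : (Fin 3 → F) →ₗ[F] F) := by
        simp
      rw [h, Submodule.mem_bot] at h1
      simpa using congrFun h1 0
    · have h1 : (Pi.single 2 1 : Fin 3 → F) ∈ LinearMap.ker (LinearMap.proj 2 : (Fin 3 → F) →ₗ[F] F) := by
        rw [h]; trivial
      simp at h1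
  · -- an invariant line
    have hA0 : A ≠ 0 := hpos' la (by omega)
    have hcol : ∀ g : P, ∀ i : Fin 3, i ≠ 0 → ↥M g i 0 = 0 := by
      intro g i hi
      have h := hinv g (Pi.single i 1) (↥M g *ᵥ Pi.single 2 1)
      rw [Matrix.mulVec_mulVec, Subgroup.coe_inv, Units.inv_mul, Matrix.one_mulVec,
        Matrix.single_one_vecMul, Pi.single_eq_same, one_pow, mul_one, Matrix.row,
        Pi.single_eq_of_ne (Ne.symm hi), zero_pow hA0, zero_mul, pow_eq_zero_iff hA0] at h
      exact h
    rcases hirr (LinearMap.ker (LinearMap.proj 1 : (Fin 3 → F) →ₗ[F] F) ⊓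
        LinearMap.ker (LinearMap.proj 2 : (Fin 3 → F) →ₗ[F] F)) (fun g w hw => by
        obtain ⟨w1, w2⟩ : w 1 = 0 ∧ w 2 = 0 := hw
        simp [Matrix.mulVec, dotProduct, Fin.sum_univ_three, w1, w2, hcol g]) with h | h
    · have h1 : (Pi.single 0 1 : Fin 3 → F) ∈ LinearMap.ker (LinearMap.proj 1 : (Fin 3 → F) →ₗ[F] F) ⊓
          LinearMap.ker (LinearMap.proj 2 : (Fin 3 → F) →ₗ[F] F) := by
        simp
      rw [h, Submodule.mem_bot] at h1
      simpa using congrFun h1 0
    · have h1 : (Pi.single 2 1 : Fin 3 → F) ∈ LinearMap.ker (LinearMap.proj 1 : (Fin 3 → F) →ₗ[F] F) ⊓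
          LinearMap.ker (LinearMap.proj 2 : (Fin 3 → F) →ₗ[F] F) := by
        rw [h]; trivial
      simp at h1

end Shape

end Cfsg.Agent.PThree
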