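import Mathlib

/-!
# Sums over an elementary abelian group of functions of small degree

A product of fewer than `k (p - 1)` additive functions on `(ZMod p)^k` sums to zero.  For a subgroup
`U`, the sum of a `U`-fixed element over the cosets of `U` is fixed by the whole group and splits
into the part of the fixed cosets and complete orbit sums of `U`.
-/

set_option autoImplicit false
set_option linter.unusedSectionVars false
set_option linter.style.haveILetI false

namespace Cfsg.Agent.PThree

section Degree

variable {F : Type*} [Field F] {p k : ℕ}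

/-- Products of at most `d` additive functions on `(ZMod p)^k`, and their combinations. -/
def dSub (F : Type*) [Field F] (p k d : ℕ) : Submodule F ((Fin k → ZMod p) → F) :=
  Submodule.span F {f | ∃ d', d' ≤ d ∧ ∃ L : Fin d' → ((Fin k → ZMod p) →+ F),
    f = fun x => ∏ j, L j x}

theorem dSub_mono {d d' : ℕ} (h : d ≤ d') : dSub F p k d ≤ dSub F p k d' :=
  Submodule.span_mono fun _ ⟨e, he, L, hL⟩ => ⟨e, he.trans h, L, hL⟩

theorem const_mem_dSub (c : F) (d : ℕ) : (fun _ => c) ∈ dSub F p k d := by
  have h1 : (fun _ => (1 : F)) ∈ dSub F p k d :=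
    Submodule.subset_span ⟨0, Nat.zero_le _, Fin.elim0, by simp⟩
  convert Submodule.smul_mem _ c h1 using 1
  funext x; simp

theorem additive_mem_dSub (L : (Fin k → ZMod p) →+ F) {d : ℕ} (hd : 1 ≤ d) :
    (fun x => L x) ∈ dSub F p k d :=
  Submodule.subset_span ⟨1, hd, fun _ => L, by simp⟩

theorem mul_mem_dSub {d e : ℕ} {f g : (Fin k → ZMod p) → F} (hf : f ∈ dSub F p k d)
    (hg : g ∈ dSub F p k e) : f * g ∈ dSub F p k (d + e) := by
  have h := Submodule.mul_mem_mul hf hg
  rw [dSub, dSub, Submodule.span_mul_span] at h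
  refine Submodule.span_mono ?_ h
  rintro _ ⟨f, ⟨a, ha, L, rfl⟩, g, ⟨b, hb, M, rfl⟩, rfl⟩
  refine ⟨a + b, by omega, Fin.append L M, funext fun x => ?_⟩
  rw [Fin.prod_univ_add]
  simp [Fin.append_left, Fin.append_right]

theorem pow_mem_dSub {d : ℕ} {f : (Fin k → ZMod p) → F} (hf : f ∈ dSub F p k d) (n : ℕ) :
    f ^ n ∈ dSub F p k (n * d) := by
  induction n with
  | zero => rw [pow_zero, Nat.zero_mul]; exact const_mem_dSub (1 : F) 0
  | succ n ih => rw [pow_succ, Nat.succ_mul]; exact mul_mem_dSub ih hf

theorem prod_mem_dSub {ι : Type*} (s : Finset ι) (f : ι → (Fin k → ZMod p) → F) (d : ι → ℕ)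
    (h : ∀ i ∈ s, f i ∈ dSub F p k (d i)) : ∏ i ∈ s, f i ∈ dSub F p k (∑ i ∈ s, d i) := by
  classical
  induction s using Finset.induction_on with
  | empty => simp only [Finset.prod_empty, Finset.sum_empty]; exact const_mem_dSub (1 : F) 0
  | insert a s ha ih =>
    rw [Finset.prod_insert ha, Finset.sum_insert ha]
    exact mul_mem_dSub (h a (Finset.mem_insert_self a s))
      (ih fun i hi => h i (Finset.mem_insert_of_mem hi))

theorem map_mem_dSub (φ : F →+* F) {d : ℕ} {f : (Fin k → ZMod p) → F} (hf : f ∈ dSub F p k d) :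
    (fun x => φ (f x)) ∈ dSub F p k d := by
  induction hf using Submodule.span_induction with
  | zero => simp only [Pi.zero_apply, map_zero]; exact Submodule.zero_mem _
  | add f g _ _ hf hg => simp only [Pi.add_apply, map_add]; exact Submodule.add_mem _ hf hg
  | smul c f _ hf => simp only [Pi.smul_apply, smul_eq_mul, map_mul]; exact Submodule.smul_mem _ (φ c) hf
  | mem f hfm =>
    obtain ⟨d', hd', L, rfl⟩ := hfm
    refine Submodule.subset_span ⟨d', hd', fun j => φ.toAddMonoidHom.comp (L j), ?_⟩
    funext x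
    simp [map_prod]

variable [Fact p.Prime] [CharP F p]

/-- A product of few additive functions sums to zero. -/
theorem sum_eq_zero_of_dSub {d : ℕ} (hd : d < k * (p - 1)) {f : (Fin k → ZMod p) → F}
    (hf : f ∈ dSub F p k d) : ∑ x, f x = 0 := by
  classical
  induction hf using Submodule.span_induction with
  | zero => simp
  | add f g _ _ hf hg => simp only [Pi.add_apply, Finset.sum_add_distrib, hf, hg, add_zero]
  | smul c f _ hf => simp only [Pi.smul_apply, smul_eq_mul, ← Finset.mul_sum, hf, mul_zero]
  | mem f hfm =>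
    obtain ⟨d', hd', L, rfl⟩ := hfm
    let ι : ZMod p →+* F := ZMod.castHom dvd_rfl F
    have hL : ∀ (j : Fin d') (x : Fin k → ZMod p),
        L j x = ∑ i, ι (x i) * L j (Pi.single i 1) := by
      intro j x
      have hx : x = ∑ i, (x i).val • (Pi.single i (1 : ZMod p) : Fin k → ZMod p) := by
        funext l
        rw [Finset.sum_apply, Finset.sum_eq_single l (fun i _ hi => by
            rw [Pi.smul_apply, Pi.single_eq_of_ne (Ne.symm hi), smul_zero])
          (fun h => absurd (Finset.mem_univ l) h), Pi.smul_apply, Pi.single_eq_same, nsmul_eq_mul,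
          mul_one, ZMod.natCast_zmod_val]
      conv_lhs => rw [hx]
      rw [map_sum]
      refine Finset.sum_congr rfl fun i _ => ?_
      rw [map_nsmul, nsmul_eq_mul]
      congr 1
      rw [← map_natCast ι, ZMod.natCast_zmod_val]
    calc ∑ x : Fin k → ZMod p, ∏ j, L j x
        = ∑ x : Fin k → ZMod p, ∏ j, ∑ i, ι (x i) * L j (Pi.single i 1) := by simp only [← hL]
      _ = ∑ κ : Fin d' → Fin k, ∑ x : Fin k → ZMod p,
            ∏ j, ι (x (κ j)) * L j (Pi.single (κ j) 1) := by
          rw [Finset.sum_comm]
          exact Finset.sum_congr rfl fun x _ => Fintype.prod_sum _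
      _ = 0 := Finset.sum_eq_zero fun κ _ => by
          obtain ⟨i₀, hi₀⟩ : ∃ i, (Finset.univ.filter fun j => κ j = i).card < p - 1 := by
            by_contra hno
            push Not at hno
            have h1 := Finset.card_eq_sum_card_fiberwise (s := (Finset.univ : Finset (Fin d')))
              (t := (Finset.univ : Finset (Fin k))) (f := κ) fun _ _ => Finset.mem_univ _
            have h2 := Finset.card_nsmul_le_sum (Finset.univ : Finset (Fin k))
              (fun i => (Finset.univ.filter fun j => κ j = i).card) (p - 1) fun i _ => hno i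
            rw [← h1] at h2
            simp only [Finset.card_univ, Fintype.card_fin, smul_eq_mul] at h2
            omega
          simp only [Finset.prod_mul_distrib, ← Finset.sum_mul]
          rw [show (∑ x : Fin k → ZMod p, ∏ j, ι (x (κ j))) = 0 from ?_, zero_mul]
          have e : ∀ x : Fin k → ZMod p, ∏ j, ι (x (κ j)) =
              ∏ i, ι (x i ^ (Finset.univ.filter fun j => κ j = i).card) := by
            intro x
            rw [← Finset.prod_fiberwise Finset.univ κ]
            refine Finset.prod_congr rfl fun i _ => ?_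
            rw [Finset.prod_congr rfl (g := fun _ => ι (x i)) fun j hj => by
              rw [(Finset.mem_filter.1 hj).2], Finset.prod_const, map_pow]
          simp only [e]
          rw [← Fintype.prod_sum (fun i (t : ZMod p) => ι (t ^ (Finset.univ.filter fun j => κ j = i).card))]
          refine Finset.prod_eq_zero (Finset.mem_univ i₀) ?_
          rw [← map_sum, FiniteField.sum_pow_lt_card_sub_one _ _ (by rwa [ZMod.card]), map_zero]

end Degree

section Cosets

variable {G : Type*} [Group G] [Finite G] {M : Type*} [AddCommGroup M]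

/-- The sum over the cosets of `U` of the images of a `U`-fixed element. -/
theorem coset_sum (U : Subgroup G) [Fintype U] (act : G → M →+ M)
    (hmul : ∀ g h x, act (g * h) x = act g (act h x)) (m : M) (hm : ∀ u ∈ U, act u m = m)
    (hTI : ∀ g, ∀ u ∈ U, u ≠ 1 → g⁻¹ * u * g ∈ U → ∀ v ∈ U, g⁻¹ * v * g ∈ U) :
    ∃ (f : M) (R S : Finset G),
      (∀ g, act g f = f) ∧ (∀ r ∈ R, ∀ u ∈ U, r⁻¹ * u * r ∈ U) ∧
      R.card + S.card * Nat.card U = U.index ∧
      f = ∑ r ∈ R, act r m + ∑ s ∈ S, ∑ u : U, act (u * s) m := by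
  classical
  haveI : Fintype G := Fintype.ofFinite G
  let φ : G ⧸ U → M := Quotient.lift (fun g => act g m) fun a b hab => by
    have hab' : a⁻¹ * b ∈ U := QuotientGroup.leftRel_apply.1 hab
    show act a m = act b m
    conv_rhs => rw [← mul_inv_cancel_left a b, hmul, hm _ hab']
  have hφ : ∀ (g : G) (q : G ⧸ U), act g (φ q) = φ (g • q) := by
    intro g q
    induction q using QuotientGroup.induction_on with
    | H x => exact (hmul g x m).symm
  have hout : ∀ q : G ⧸ U, φ q = act q.out m := fun q => by
    conv_lhs => rw [← QuotientGroup.out_eq' q]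
    rfl
  let fix : Finset (G ⧸ U) := Finset.univ.filter fun q => ∀ u : U, (u : G) • q = q
  have hsm : ∀ (u : U) (q : G ⧸ U), (u : G) • q = q ↔ q.out⁻¹ * u * q.out ∈ U := by
    intro u q
    conv_lhs => rw [← QuotientGroup.out_eq' q, MulAction.Quotient.smul_mk, smul_eq_mul, eq_comm]
    rw [QuotientGroup.eq, mul_assoc]
  have hfree : ∀ q ∉ fix, ∀ u : U, (u : G) • q = q → u = 1 := by
    intro q hq u hu
    by_contra hne
    refine hq (Finset.mem_filter.2 ⟨Finset.mem_univ _, fun v => ?_⟩)
    exact (hsm v q).2 (hTI _ u u.2 (fun h => hne (Subtype.ext h)) ((hsm u q).1 hu) v v.2)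
  have horb : ∀ s : Finset (G ⧸ U), (∀ u : U, ∀ q ∈ s, (u : G) • q ∈ s) → (∀ q ∈ s, q ∉ fix) →
      ∃ S : Finset G, (∀ g ∈ S, (QuotientGroup.mk g : G ⧸ U) ∈ s) ∧ s.card = S.card * Nat.card U ∧
        ∑ q ∈ s, φ q = ∑ g ∈ S, ∑ u : U, act (u * g) m := by
    intro s
    induction s using Finset.strongInduction with
    | _ s ih =>
      intro hinv hnf
      rcases s.eq_empty_or_nonempty with rfl | ⟨q, hq⟩
      · exact ⟨∅, by simp, by simp, by simp⟩
      let O : Finset (G ⧸ U) := Finset.univ.image fun u : U => (u : G) • q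
      have hinj : Function.Injective fun u : U => (u : G) • q := fun u v huv => by
        have h := hfree q (hnf q hq) (v⁻¹ * u) (by
          rw [Subgroup.coe_mul, mul_smul, show (u : G) • q = (v : G) • q from huv,
            Subgroup.coe_inv, inv_smul_smul])
        exact (inv_mul_eq_one.1 h).symm
      have hOs : O ⊆ s := by
        intro x hx
        obtain ⟨u, -, rfl⟩ := Finset.mem_image.1 hx
        exact hinv u q hq
      have hqO : q ∈ O := Finset.mem_image.2 ⟨1, Finset.mem_univ _, one_smul _ _⟩
      obtain ⟨S, hS, hc, hT⟩ := ih (s \ O)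
        (Finset.sdiff_ssubset hOs ⟨q, hqO⟩) (fun u x hx => by
          rw [Finset.mem_sdiff] at hx ⊢
          refine ⟨hinv u x hx.1, fun hm => hx.2 ?_⟩
          obtain ⟨v, -, hv⟩ := Finset.mem_image.1 hm
          refine Finset.mem_image.2 ⟨u⁻¹ * v, Finset.mem_univ _, ?_⟩
          rw [Subgroup.coe_mul, mul_smul, hv, Subgroup.coe_inv, inv_smul_smul])
        (fun x hx => hnf x (Finset.mem_sdiff.1 hx).1)
      have hqS : q.out ∉ S := fun h => (Finset.mem_sdiff.1 (hS _ h)).2 (by rwa [QuotientGroup.out_eq'])
      refine ⟨insert q.out S, ?_, ?_, ?_⟩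
      · intro g hg
        rcases Finset.mem_insert.1 hg with rfl | hg
        · rwa [QuotientGroup.out_eq']
        · exact (Finset.mem_sdiff.1 (hS g hg)).1
      · rw [← Finset.card_sdiff_add_card_eq_card hOs, hc, Finset.card_insert_of_notMem hqS, add_mul,
          one_mul, Finset.card_image_of_injective _ hinj, Finset.card_univ, Nat.card_eq_fintype_card]
      · rw [← Finset.sum_sdiff hOs, hT, Finset.sum_image fun u _ v _ h => hinj h,
          Finset.sum_insert hqS, add_comm]
        refine congrArg (· + _) (Finset.sum_congr rfl fun u _ => ?_)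
        rw [← hφ, hout, hmul]
  obtain ⟨S, -, hcard, hT⟩ := horb (Finset.univ \ fix) (fun u q hq => by
      rw [Finset.mem_sdiff] at hq ⊢
      refine ⟨Finset.mem_univ _, fun hm => hq.2 ?_⟩
      have hm' := (Finset.mem_filter.1 hm).2 u⁻¹
      rw [Subgroup.coe_inv, inv_smul_smul] at hm'
      rwa [← hm'] at hm) fun q hq => (Finset.mem_sdiff.1 hq).2
  refine ⟨∑ q, φ q, fix.image Quotient.out, S, fun g => ?_, ?_, ?_, ?_⟩
  · rw [map_sum]
    simp only [hφ]
    exact Equiv.sum_comp (MulAction.toPerm g) φ
  · intro r hr u hu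
    obtain ⟨q, hq, rfl⟩ := Finset.mem_image.1 hr
    exact (hsm ⟨u, hu⟩ q).1 ((Finset.mem_filter.1 hq).2 ⟨u, hu⟩)
  · rw [Finset.card_image_of_injective _ Quotient.out_injective, ← hcard, Subgroup.index_eq_card,
      Nat.card_eq_fintype_card, ← Finset.card_univ, add_comm,
      Finset.card_sdiff_add_card_eq_card (Finset.subset_univ _)]
  · rw [← Finset.sum_sdiff (Finset.subset_univ fix), add_comm, hT,
      Finset.sum_image fun a _ b _ h => Quotient.out_injective h]
    simp only [hout]
    rfl

end Cosets

end Cfsg.Agent.PThree
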